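import Mathlib
import Groth.Prelude.Def_W4bk4grassmannianPl

/-!
# Plücker coordinates: basic combinatorics of `Idx d n` and of signed coordinates
-/

open MvPolynomial

namespace Groth.Agent.SMT

open W4bk4grassmannian

universe u

variable {K : Type u} [CommRing K] {d n : ℕ}

/-- The sum of the entries of an index. -/
def S (θ : Idx d n) : ℕ := ∑ t, (θ.1 t : ℕ)

theorem S_le (θ : Idx d n) : S θ ≤ d * n := by
  calc S θ ≤ ∑ _t : Fin d, n := Finset.sum_le_sum fun t _ => (θ.1 t).isLt.le
    _ = d * n := by simp

theorem le_def {i j : Idx d n} : i ≤ j ↔ ∀ t, i.1 t ≤ j.1 t := Iff.rfl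

theorem card_image_eq_iff (a : Fin d → Fin n) :
    (Finset.univ.image a).card = d ↔ Function.Injective a := by
  conv_lhs => rhs; rw [← Fintype.card_fin d, ← Finset.card_univ]
  rw [Finset.card_image_iff]
  simp [Set.injOn_univ]

/-- The permutation sorting an injective tuple. -/
noncomputable def sortPerm (a : Fin d → Fin n) (h : (Finset.univ.image a).card = d) : Equiv.Perm (Fin d) :=
  Equiv.ofBijective
    (fun t => ((Finset.univ.image a).orderIsoOfFin h).symm ⟨a t, Finset.mem_image_of_mem a (Finset.mem_univ t)⟩)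
    (Finite.injective_iff_bijective.1 fun s t hst => by
      have := ((Finset.univ.image a).orderIsoOfFin h).symm.injective hst
      exact (card_image_eq_iff a).1 h (congrArg Subtype.val this))

theorem sortIdx_sortPerm (a : Fin d → Fin n) (h : (Finset.univ.image a).card = d) (t : Fin d) :
    (sortIdx d n a h).1 (sortPerm a h t) = a t := by
  simp [sortIdx, sortPerm, ← Finset.coe_orderIsoOfFin_apply]

theorem sign_sortPerm (a : Fin d → Fin n) (h : (Finset.univ.image a).card = d) :
    (Equiv.Perm.sign (sortPerm a h) : ℤ) = (-1) ^ invCount d n a := by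
  rw [Equiv.Perm.sign_eq_prod_prod_Ioi, Finset.prod_sigma']
  have key : ∀ s t : Fin d, s < t → (sortPerm a h s < sortPerm a h t ↔ ¬ a t < a s) := fun s t hst => by
    rw [← sortIdx_sortPerm a h s, ← sortIdx_sortPerm a h t, (sortIdx d n a h).2.lt_iff_lt, not_lt]
    exact ⟨le_of_lt, fun hle => lt_of_le_of_ne hle fun he => hst.ne ((sortPerm a h).injective he)⟩
  have hinv : invCount d n a =
      ((Finset.univ.sigma fun i : Fin d => Finset.Ioi i).filter fun x => a x.2 < a x.1).card := by
    refine Finset.card_bij' (fun p _ => ⟨p.1, p.2⟩) (fun x _ => (x.1, x.2)) ?_ ?_ ?_ ?_ <;> simp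
  rw [hinv, ← Finset.prod_const, Finset.prod_filter]
  push_cast
  refine Finset.prod_congr rfl fun x hx => ?_
  simp only [Finset.mem_sigma, Finset.mem_Ioi] at hx
  by_cases hlt : a x.2 < a x.1
  · rw [if_neg (fun hh => (key _ _ hx.2).1 hh hlt), if_pos hlt]; rfl
  · rw [if_pos ((key _ _ hx.2).2 hlt), if_neg hlt]; rfl

theorem S_sortIdx (a : Fin d → Fin n) (h : (Finset.univ.image a).card = d) :
    S (sortIdx d n a h) = ∑ t, (a t : ℕ) := by
  rw [S, ← Equiv.sum_comp (sortPerm a h)]
  simp only [sortIdx_sortPerm]

theorem coord_of_card_ne {a : Fin d → Fin n} (h : (Finset.univ.image a).card ≠ d) : coord K d n a = 0 :=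
  dif_neg h

theorem coord_of_card_eq {a : Fin d → Fin n} (h : (Finset.univ.image a).card = d) :
    coord K d n a = (-1) ^ invCount d n a * X (sortIdx d n a h) :=
  dif_pos h

theorem coord_self (θ : Idx d n) : coord K d n θ.1 = X θ := by
  have h : (Finset.univ.image θ.1).card = d := (card_image_eq_iff _).2 θ.2.injective
  have hi : invCount d n θ.1 = 0 := by
    simp only [invCount, Finset.card_eq_zero, Finset.filter_eq_empty_iff]
    rintro ⟨s, t⟩ - ⟨hst, hlt⟩
    exact lt_asymm hlt (θ.2 hst)
  rw [coord_of_card_eq h, hi, pow_zero, one_mul]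
  congr 1
  refine Subtype.ext ?_
  exact (Finset.orderEmbOfFin_unique h (fun x => Finset.mem_image_of_mem _ (Finset.mem_univ x)) θ.2).symm

/-- A signed coordinate evaluates to the minor on the given rows, for any matrix over any algebra. -/
theorem aeval_coord {R : Type*} [CommRing R] [Algebra K R] (M : Matrix (Fin n) (Fin d) R) (a : Fin d → Fin n) :
    aeval (fun θ : Idx d n => (M.submatrix θ.1 id).det) (coord K d n a) = (M.submatrix a id).det := by
  by_cases h : (Finset.univ.image a).card = d
  · have e : M.submatrix a id = ((M.submatrix (sortIdx d n a h).1 id)).submatrix (sortPerm a h) id := by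
      ext s t; simp [sortIdx_sortPerm]
    rw [coord_of_card_eq h, e, Matrix.det_permute, sign_sortPerm]
    simp
  · rw [coord_of_card_ne h, map_zero]
    obtain ⟨s, t, hst, hne⟩ := Function.not_injective_iff.1 fun hinj => h ((card_image_eq_iff a).2 hinj)
    exact (Matrix.det_zero_of_row_eq hne (by ext j; simp [hst])).symm

end Groth.Agent.SMT
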