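import Mathlib
import Groth.Agent.SMT.Basic

/-!
# Leading monomials of Plücker coordinates on a Richardson chart

For `lo ≤ hi` in `I(d,n)` the chart is the linear space of matrices whose column `t` is supported on the
rows in `[lo t, hi t]`; the minor `θ` vanishes there unless `lo ≤ θ ≤ hi`, and otherwise its leading
monomial is the diagonal one.
-/

open MvPolynomial MonomialOrder

namespace Groth.Agent.SMT

open W4bk4grassmannian

universe u

/-- Variables of the chart: column major. -/
abbrev Vars (d n : ℕ) : Type := Lex (Fin d × Fin n)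

/-- The lexicographic monomial order on the chart. -/
noncomputable abbrev ord (d n : ℕ) : MonomialOrder (Vars d n) := MonomialOrder.lex

variable (K : Type u) [CommRing K] {d n : ℕ}

/-- The generic matrix of the chart. -/
noncomputable def boxMatrix (lo hi : Idx d n) : Matrix (Fin n) (Fin d) (MvPolynomial (Vars d n) K) :=
  Matrix.of fun i t => if lo.1 t ≤ i ∧ i ≤ hi.1 t then X (toLex (t, i)) else 0

/-- Restriction of Plücker polynomials to the chart. -/
noncomputable def res (lo hi : Idx d n) : PlRing K d n →ₐ[K] MvPolynomial (Vars d n) K :=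
  aeval fun θ : Idx d n => ((boxMatrix K lo hi).submatrix θ.1 id).det

/-- The diagonal exponent. -/
noncomputable def diagExp (θ : Idx d n) : Vars d n →₀ ℕ := ∑ t, Finsupp.single (toLex (t, θ.1 t)) 1

variable {K}

theorem diagExp_apply (θ : Idx d n) (t : Fin d) (i : Fin n) :
    diagExp θ (toLex (t, i)) = if θ.1 t = i then 1 else 0 := by
  simp only [diagExp, Finsupp.finsetSum_apply, Finsupp.single_apply, EmbeddingLike.apply_eq_iff_eq,
    Prod.mk.injEq]
  rw [Finset.sum_eq_single t (fun b _ hb => by simp [hb]) (by simp)]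
  simp

theorem permExp_lt (θ : Idx d n) {σ : Equiv.Perm (Fin d)} (hσ : σ ≠ 1) :
    (∑ t, Finsupp.single (toLex (t, θ.1 (σ t))) 1 : Vars d n →₀ ℕ) ≺[ord d n] diagExp θ := by
  have he : (Finset.univ.filter fun t => σ t ≠ t).Nonempty := by
    by_contra h
    exact hσ (Equiv.ext fun t => by_contra fun ht => h ⟨t, Finset.mem_filter.2 ⟨Finset.mem_univ _, ht⟩⟩)
  set t₀ := Finset.min' _ he with ht₀
  have hne : σ t₀ ≠ t₀ := (Finset.mem_filter.1 (Finset.min'_mem _ he)).2
  have hfix : ∀ t, t < t₀ → σ t = t := fun t ht => by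
    by_contra h
    exact (Finset.min'_le _ t (Finset.mem_filter.2 ⟨Finset.mem_univ _, h⟩)).not_gt ht
  have hgt : t₀ < σ t₀ := lt_of_le_of_ne (le_of_not_gt fun h => hne (σ.injective (hfix _ h))) hne.symm
  have happ : ∀ (t : Fin d) (i : Fin n),
      (∑ s, Finsupp.single (toLex (s, θ.1 (σ s))) 1 : Vars d n →₀ ℕ) (toLex (t, i)) =
        if θ.1 (σ t) = i then 1 else 0 := fun t i => by
    simp only [Finsupp.finsetSum_apply, Finsupp.single_apply, EmbeddingLike.apply_eq_iff_eq, Prod.mk.injEq]
    rw [Finset.sum_eq_single t (fun b _ hb => by simp [hb]) (by simp)]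
    simp
  rw [MonomialOrder.lex_lt_iff, Finsupp.Lex.lt_iff]
  refine ⟨toLex (t₀, θ.1 t₀), fun v hv => ?_, ?_⟩
  · obtain ⟨⟨t, i⟩, rfl⟩ := toLex.surjective v
    show (∑ s, Finsupp.single (toLex (s, θ.1 (σ s))) 1 : Vars d n →₀ ℕ) (toLex (t, i)) =
      diagExp θ (toLex (t, i))
    rw [happ, diagExp_apply]
    rcases (Prod.Lex.toLex_lt_toLex).1 hv with h | ⟨rfl, h⟩
    · simp only at h; rw [hfix t h]
    · simp only at h
      rw [if_neg (fun e => absurd (θ.2 hgt) (by rw [e]; exact h.not_gt)), if_neg (fun e => h.ne e.symm)]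
  · show (∑ s, Finsupp.single (toLex (s, θ.1 (σ s))) 1 : Vars d n →₀ ℕ) (toLex (t₀, θ.1 t₀)) <
      diagExp θ (toLex (t₀, θ.1 t₀))
    rw [happ, diagExp_apply, if_pos rfl, if_neg (θ.2 hgt).ne']
    exact one_pos

variable {lo hi θ : Idx d n}

theorem res_X (lo hi θ : Idx d n) : res K lo hi (X θ) = ((boxMatrix K lo hi).submatrix θ.1 id).det :=
  aeval_X _ _

theorem res_X_eq_zero (h : ¬ (lo ≤ θ ∧ θ ≤ hi)) : res K lo hi (X θ) = 0 := by
  rw [res_X, Matrix.det_apply]
  refine Finset.sum_eq_zero fun σ _ => ?_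
  obtain ⟨t, ht⟩ : ∃ t, ¬ (lo.1 t ≤ θ.1 (σ t) ∧ θ.1 (σ t) ≤ hi.1 t) := by
    by_contra hcon
    push Not at hcon
    refine h ⟨fun s => ?_, fun s => ?_⟩
    · by_contra hlt
      rw [not_le] at hlt
      have hsub : (Finset.Iic s).image σ.symm ⊆ Finset.Iio s := by
        intro x hx
        obtain ⟨y, hy, rfl⟩ := Finset.mem_image.1 hx
        refine Finset.mem_Iio.2 (lt_of_not_ge fun hge => ?_)
        have h1 := (hcon (σ.symm y)).1
        rw [Equiv.apply_symm_apply] at h1
        exact (lt_of_le_of_lt (θ.2.monotone (Finset.mem_Iic.1 hy)) hlt).not_ge ((lo.2.monotone hge).trans h1)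
      have := Finset.card_le_card hsub
      rw [Finset.card_image_of_injective _ σ.symm.injective, Fin.card_Iic, Fin.card_Iio] at this
      omega
    · by_contra hlt
      rw [not_le] at hlt
      have hsub : (Finset.Ici s).image σ.symm ⊆ Finset.Ioi s := by
        intro x hx
        obtain ⟨y, hy, rfl⟩ := Finset.mem_image.1 hx
        refine Finset.mem_Ioi.2 (lt_of_not_ge fun hge => ?_)
        have h1 := (hcon (σ.symm y)).2
        rw [Equiv.apply_symm_apply] at h1
        exact (lt_of_lt_of_le hlt (θ.2.monotone (Finset.mem_Ici.1 hy))).not_ge (h1.trans (hi.2.monotone hge))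
      have := Finset.card_le_card hsub
      rw [Finset.card_image_of_injective _ σ.symm.injective, Fin.card_Ici, Fin.card_Ioi] at this
      have := s.isLt
      omega
  rw [Finset.prod_eq_zero (Finset.mem_univ t)]
  · simp
  · simp only [boxMatrix, Matrix.submatrix_apply, Matrix.of_apply, id, if_neg ht]

theorem res_X_leading [Nontrivial K] (h1 : lo ≤ θ) (h2 : θ ≤ hi) :
    (ord d n).degree (res K lo hi (X θ)) = diagExp θ ∧ (ord d n).Monic (res K lo hi (X θ)) := by
  classical
  set m := ord d n
  have hrest : ∀ σ : Equiv.Perm (Fin d), σ ≠ 1 →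
      ∀ e ∈ (Equiv.Perm.sign σ • ∏ t, ((boxMatrix K lo hi).submatrix θ.1 id) (σ t) t).support,
        e ≺[m] diagExp θ := by
    intro σ hσ e he
    have hs : e ∈ (∏ t, ((boxMatrix K lo hi).submatrix θ.1 id) (σ t) t).support := by
      rcases Int.units_eq_one_or (Equiv.Perm.sign σ) with hs | hs <;> simpa [hs, Units.smul_def] using he
    simp only [boxMatrix, Matrix.submatrix_apply, Matrix.of_apply, id] at hs
    by_cases hall : ∀ t, lo.1 t ≤ θ.1 (σ t) ∧ θ.1 (σ t) ≤ hi.1 t
    · simp only [hall, if_true, and_self] at hs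
      rw [show (∏ t, (X (toLex (t, θ.1 (σ t))) : MvPolynomial (Vars d n) K)) =
        monomial (∑ t, Finsupp.single (toLex (t, θ.1 (σ t))) 1) 1 from (monomial_sum_one _ _).symm,
        support_monomial, if_neg one_ne_zero, Finset.mem_singleton] at hs
      rw [hs]; exact permExp_lt θ hσ
    · push Not at hall
      obtain ⟨t, ht⟩ := hall
      rw [Finset.prod_eq_zero (Finset.mem_univ t) (if_neg fun h => (ht h.1).not_ge h.2)] at hs
      simp at hs
  have hcoeff : ∀ e, coeff e (res K lo hi (X θ)) ≠ 0 → e ≼[m] diagExp θ := by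
    intro e he
    rw [res_X, Matrix.det_apply, coeff_sum] at he
    obtain ⟨σ, -, hσ⟩ := Finset.exists_ne_zero_of_sum_ne_zero he
    rcases eq_or_ne σ 1 with rfl | hne
    · simp only [boxMatrix, Matrix.submatrix_apply, Matrix.of_apply, id, Equiv.Perm.sign_one, one_smul,
        Equiv.Perm.one_apply] at hσ
      simp only [h1 _, h2 _, and_self, if_true] at hσ
      rw [show (∏ t, (X (toLex (t, θ.1 t)) : MvPolynomial (Vars d n) K)) = monomial (diagExp θ) 1 from
        (monomial_sum_one _ _).symm, coeff_monomial] at hσ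
      split_ifs at hσ with heq
      · rw [← heq]
      · exact absurd rfl hσ
    · exact (hrest σ hne e (mem_support_iff.2 hσ)).le
  have hdiag : coeff (diagExp θ) (res K lo hi (X θ)) = 1 := by
    rw [res_X, Matrix.det_apply, coeff_sum, Finset.sum_eq_single 1]
    · simp only [boxMatrix, Matrix.submatrix_apply, Matrix.of_apply, id, Equiv.Perm.sign_one, one_smul,
        Equiv.Perm.one_apply, h1 _, h2 _, and_self, if_true]
      rw [show (∏ t, (X (toLex (t, θ.1 t)) : MvPolynomial (Vars d n) K)) = monomial (diagExp θ) 1 from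
        (monomial_sum_one _ _).symm, coeff_monomial, if_pos rfl]
    · intro σ _ hne
      by_contra hc
      exact lt_irrefl _ (hrest σ hne _ (mem_support_iff.2 hc))
    · simp
  have hdeg : m.degree (res K lo hi (X θ)) = diagExp θ := by
    apply m.toSyn.injective
    refine le_antisymm ?_ (m.le_degree (mem_support_iff.2 (by rw [hdiag]; exact one_ne_zero)))
    exact m.degree_le_iff.2 fun e he => hcoeff e (mem_support_iff.1 he)
  refine ⟨hdeg, ?_⟩
  rw [MonomialOrder.Monic, MonomialOrder.leadingCoeff, hdeg, hdiag]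

/-- The exponent of the leading monomial of a tuple. -/
noncomputable def chainExp {m : ℕ} (c : Fin m → Idx d n) : Vars d n →₀ ℕ := ∑ k, diagExp (c k)

theorem res_chainMon_leading [Nontrivial K] {m : ℕ} (c : Fin m → Idx d n) (h : ∀ k, lo ≤ c k ∧ c k ≤ hi) :
    (ord d n).degree (res K lo hi (chainMon K c)) = chainExp c ∧ (ord d n).Monic (res K lo hi (chainMon K c)) := by
  classical
  have hm : ∀ k, (ord d n).Monic (res K lo hi (X (c k))) := fun k => (res_X_leading (h k).1 (h k).2).2
  rw [chainMon, map_prod]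
  refine ⟨?_, MonomialOrder.Monic.prod fun k _ => hm k⟩
  rw [MonomialOrder.degree_prod_of_regular fun k _ => by rw [(hm k).leadingCoeff_eq_one]; exact isRegular_one]
  exact Finset.sum_congr rfl fun k _ => (res_X_leading (h k).1 (h k).2).1

theorem res_chainMon_eq_zero {m : ℕ} (c : Fin m → Idx d n) {k : Fin m} (h : ¬ (lo ≤ c k ∧ c k ≤ hi)) :
    res K lo hi (chainMon K c) = 0 := by
  rw [chainMon, map_prod]
  exact Finset.prod_eq_zero (Finset.mem_univ k) (res_X_eq_zero h)

theorem chainExp_apply {m : ℕ} (c : Fin m → Idx d n) (t : Fin d) (i : Fin n) :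
    chainExp c (toLex (t, i)) = (Finset.univ.filter fun k => (c k).1 t = i).card := by
  simp only [chainExp, Finsupp.finsetSum_apply, diagExp_apply, Finset.card_filter]

theorem chainExp_injective (hd : 0 < d) {m m' : ℕ} {c : Fin m → Idx d n} {c' : Fin m' → Idx d n}
    (hc : Antitone c) (hc' : Antitone c') (h : chainExp c = chainExp c') :
    ∃ hm : m = m', c = c' ∘ Fin.cast hm := by
  classical
  have hcount : ∀ t i, (Finset.univ.filter fun k => (c k).1 t = i).card =
      (Finset.univ.filter fun k => (c' k).1 t = i).card := fun t i => by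
    rw [← chainExp_apply, ← chainExp_apply, h]
  have hm : m = m' := by
    have e : ∀ (l : ℕ) (g : Fin l → Idx d n), l = ∑ i : Fin n, (Finset.univ.filter fun k => (g k).1 ⟨0, hd⟩ = i).card :=
      fun l g => by
        conv_lhs => rw [← Fintype.card_fin l, ← Finset.card_univ]
        exact Finset.card_eq_sum_card_fiberwise fun _ _ => Finset.mem_univ _
    rw [e m c, e m' c']
    exact Finset.sum_congr rfl fun i _ => hcount _ i
  subst hm
  refine ⟨rfl, funext fun k => Subtype.ext (funext fun t => ?_)⟩
  have hperm : (List.ofFn fun k => (c k).1 t).Perm (List.ofFn fun k => (c' k).1 t) := by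
    rw [List.perm_iff_count]
    intro i
    have e : ∀ g : Fin m → Fin n, List.count i (List.ofFn g) = (Finset.univ.filter fun k => g k = i).card := fun g => by
      rw [← Multiset.coe_count, ← Fin.univ_val_map, Multiset.count_map]
      simp only [Finset.card, Finset.filter_val, eq_comm]
    rw [e, e, hcount]
  have hsort : ∀ g : Fin m → Idx d n, Antitone g → (List.ofFn fun k => (g k).1 t).Pairwise (· ≥ ·) := fun g hg => by
    rw [List.pairwise_ofFn]
    exact fun a b hab => hg hab.le t
  have := hperm.eq_of_pairwise' (hsort c hc) (hsort c' hc')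
  exact congrFun (List.ofFn_injective this) k

theorem linearIndependent_of_monic {σ ι : Type*} (m : MonomialOrder σ) (P : ι → MvPolynomial σ K)
    (hP : ∀ i, m.Monic (P i)) (hinj : Function.Injective fun i => m.degree (P i)) : LinearIndependent K P := by
  classical
  rw [linearIndependent_iff']
  intro s g hg i hi
  by_contra hne
  obtain ⟨i₀, hi₀, hmax⟩ := Finset.exists_max_image (s.filter fun i => g i ≠ 0) (fun i => m.toSyn (m.degree (P i)))
    ⟨i, Finset.mem_filter.2 ⟨hi, hne⟩⟩
  obtain ⟨hi₀s, hi₀0⟩ := Finset.mem_filter.1 hi₀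
  apply hi₀0
  have := congrArg (coeff (m.degree (P i₀))) hg
  rw [coeff_zero, coeff_sum, Finset.sum_eq_single i₀] at this
  · rwa [coeff_smul, (hP i₀).coeff_degree, smul_eq_mul, mul_one] at this
  · intro j hj hne'
    by_cases h0 : g j = 0
    · simp [h0]
    · rw [coeff_smul, m.coeff_eq_zero_of_lt, smul_zero]
      refine lt_of_le_of_ne (hmax j (Finset.mem_filter.2 ⟨hj, h0⟩)) fun e => hne' (hinj (m.toSyn.injective e))
  · exact fun h => absurd hi₀s h

/-- Standard monomials on `[lo, hi]` restrict to linearly independent functions on the chart. -/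
theorem linearIndependent_res (hd : 0 < d) (lo hi : Idx d n) :
    LinearIndependent K (fun c : (Σ m : ℕ, {c : Fin m → Idx d n // Antitone c ∧ ∀ k, lo ≤ c k ∧ c k ≤ hi}) =>
      res K lo hi (chainMon K c.2.1)) := by
  nontriviality K
  refine linearIndependent_of_monic (ord d n) _ (fun c => (res_chainMon_leading _ c.2.2.2).2) ?_
  rintro ⟨m, c, hc, hcb⟩ ⟨m', c', hc', hcb'⟩ h
  simp only [(res_chainMon_leading (K := K) c hcb).1, (res_chainMon_leading (K := K) c' hcb').1] at h
  obtain ⟨rfl, rfl⟩ := chainExp_injective hd hc hc' h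
  rfl

end Groth.Agent.SMT
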