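import Mathlib
import Groth.Agent.SMT.Basic

/-!
# The shuffle relations vanish on every matrix
-/

open MvPolynomial

namespace Groth.Agent.SMT

open W4bk4grassmannian

universe u

variable {d : ℕ} {R : Type*} [CommRing R]

theorem sum_le_card_sum (A : Finset (Fin (d + 1))) {r : ℕ} (hA : A.card = r + 1) :
    r * (r + 1) / 2 ≤ A.sum fun a => a.val := by
  conv_rhs => rw [← Finset.image_orderEmbOfFin_univ A hA]
  rw [Finset.sum_image fun x _ y _ h => (A.orderEmbOfFin hA).injective h]
  have hle : ∀ k : ℕ, ∀ hk : k < r + 1, k ≤ (A.orderEmbOfFin hA ⟨k, hk⟩).val := by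
    intro k
    induction k with
    | zero => intro; exact Nat.zero_le _
    | succ k ih =>
      intro hk
      have h1 := ih (by omega)
      have h2 : A.orderEmbOfFin hA ⟨k, by omega⟩ < A.orderEmbOfFin hA ⟨k + 1, hk⟩ :=
        (A.orderEmbOfFin hA).strictMono (by simp [Fin.lt_def])
      rw [Fin.lt_def] at h2; omega
  calc r * (r + 1) / 2 = ∑ k : Fin (r + 1), k.val := by
        rw [Fin.sum_univ_eq_sum_range fun k => k, Finset.sum_range_id]
        rw [Nat.mul_comm, Nat.add_sub_cancel]
    _ ≤ _ := Finset.sum_le_sum fun k _ => hle k.1 k.2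

/-- Rows of the first determinant of a shuffle term. -/
def rowsI (r : Fin d) (A : Finset (Fin (d + 1))) (hA : A.card = r.val + 1) (F : Fin d → Fin d → R)
    (v : Fin (d + 1) → Fin d → R) : Fin d → Fin d → R :=
  fun t => if h : t.val ≤ r.val then v (A.orderEmbOfFin hA ⟨t.val, by omega⟩) else F t

theorem compl_card (r : Fin d) (A : Finset (Fin (d + 1))) (hA : A.card = r.val + 1) :
    Aᶜ.card = d - r.val := by
  rw [Finset.card_compl, hA, Fintype.card_fin]; omega

/-- Rows of the second determinant of a shuffle term. -/
def rowsJ (r : Fin d) (A : Finset (Fin (d + 1))) (hA : A.card = r.val + 1) (G : Fin d → Fin d → R)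
    (v : Fin (d + 1) → Fin d → R) : Fin d → Fin d → R :=
  fun t => if h : t.val < r.val then G t
    else v (Aᶜ.orderEmbOfFin (compl_card r A hA) ⟨t.val - r.val, by have := t.isLt; omega⟩)

/-- One term of the alternating sum. -/
def term (r : Fin d) (F G : Fin d → Fin d → R) (A : Finset (Fin (d + 1))) (v : Fin (d + 1) → Fin d → R) : R :=
  if hA : A.card = r.val + 1 then
    (-1) ^ shuffleSign r A * Matrix.det (Matrix.of (rowsI r A hA F v)) * Matrix.det (Matrix.of (rowsJ r A hA G v))
  else 0

theorem exists_emb {α : Type*} [LinearOrder α] {A : Finset α} {c : ℕ} (hA : A.card = c) {p : α} (hp : p ∈ A) :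
    ∃ s, A.orderEmbOfFin hA s = p := by
  rwa [← Set.mem_range, Finset.range_orderEmbOfFin, Finset.mem_coe]

variable {r : Fin d} {F G : Fin d → Fin d → R}

theorem rowsI_update {A : Finset (Fin (d + 1))} (hA : A.card = r.val + 1) (v : Fin (d + 1) → Fin d → R)
    (p : Fin (d + 1)) :
    (p ∈ A → ∃ t₀, ∀ x, rowsI r A hA F (Function.update v p x) = Function.update (rowsI r A hA F v) t₀ x) ∧
      (p ∉ A → ∀ x, rowsI r A hA F (Function.update v p x) = rowsI r A hA F v) := by
  refine ⟨fun hp => ?_, fun hp x => ?_⟩
  · obtain ⟨s, hs⟩ := exists_emb hA hp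
    refine ⟨⟨s.val, by omega⟩, fun x => funext fun t => ?_⟩
    rcases eq_or_ne t ⟨s.val, by omega⟩ with rfl | hne
    · rw [Function.update_self, rowsI, dif_pos (by show s.val ≤ r.val; omega)]
      rw [show (⟨(⟨s.val, _⟩ : Fin d).val, _⟩ : Fin (r.val + 1)) = s from Fin.ext rfl, hs,
        Function.update_self]
    · rw [Function.update_of_ne hne, rowsI, rowsI]
      by_cases h : t.val ≤ r.val
      · rw [dif_pos h, dif_pos h, Function.update_of_ne]
        intro he
        apply hne
        have := (A.orderEmbOfFin hA).injective (he.trans hs.symm)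
        exact Fin.ext (congrArg Fin.val this :)
      · rw [dif_neg h, dif_neg h]
  · funext t
    rw [rowsI, rowsI]
    by_cases h : t.val ≤ r.val
    · rw [dif_pos h, dif_pos h, Function.update_of_ne]
      exact fun he => hp (he ▸ Finset.orderEmbOfFin_mem A hA _)
    · rw [dif_neg h, dif_neg h]

theorem rowsJ_update {A : Finset (Fin (d + 1))} (hA : A.card = r.val + 1) (v : Fin (d + 1) → Fin d → R)
    (p : Fin (d + 1)) :
    (p ∉ A → ∃ t₀, ∀ x, rowsJ r A hA G (Function.update v p x) = Function.update (rowsJ r A hA G v) t₀ x) ∧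
      (p ∈ A → ∀ x, rowsJ r A hA G (Function.update v p x) = rowsJ r A hA G v) := by
  refine ⟨fun hp => ?_, fun hp x => ?_⟩
  · obtain ⟨s, hs⟩ := exists_emb (compl_card r A hA) (show p ∈ Aᶜ by simpa using hp)
    have hsd : r.val + s.val < d := by have := s.isLt; omega
    refine ⟨⟨r.val + s.val, hsd⟩, fun x => funext fun t => ?_⟩
    rcases eq_or_ne t ⟨r.val + s.val, hsd⟩ with rfl | hne
    · rw [Function.update_self, rowsJ, dif_neg (by show ¬ r.val + s.val < r.val; omega)]
      rw [show (⟨(⟨r.val + s.val, hsd⟩ : Fin d).val - r.val, _⟩ : Fin (d - r.val)) = s from Fin.ext (by simp), hs,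
        Function.update_self]
    · rw [Function.update_of_ne hne, rowsJ, rowsJ]
      by_cases h : t.val < r.val
      · rw [dif_pos h, dif_pos h]
      · rw [dif_neg h, dif_neg h, Function.update_of_ne]
        intro he
        apply hne
        have := congrArg Fin.val ((Aᶜ.orderEmbOfFin (compl_card r A hA)).injective (he.trans hs.symm))
        exact Fin.ext (show t.val = r.val + s.val by simp only at this; omega)
  · funext t
    rw [rowsJ, rowsJ]
    by_cases h : t.val < r.val
    · rw [dif_pos h, dif_pos h]
    · rw [dif_neg h, dif_neg h, Function.update_of_ne]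
      exact fun he => (Finset.mem_compl.1 (Finset.orderEmbOfFin_mem Aᶜ (compl_card r A hA) _)) (he ▸ hp)

/-- A shuffle term as a multilinear map of the moving rows. -/
noncomputable def termML (r : Fin d) (F G : Fin d → Fin d → R) (A : Finset (Fin (d + 1))) :
    MultilinearMap R (fun _ : Fin (d + 1) => Fin d → R) R where
  toFun := term r F G A
  map_update_add' := by
    intro inst v p x y
    obtain rfl : inst = instDecidableEqFin (d + 1) := Subsingleton.elim _ _
    show term r F G A _ = _
    unfold term
    split_ifs with hA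
    · by_cases hp : p ∈ A
      · obtain ⟨t₀, ht⟩ := (rowsI_update (F := F) hA v p).1 hp
        simp only [ht, (rowsJ_update (G := G) hA v p).2 hp]
        rw [show Matrix.det (Matrix.of (Function.update (rowsI r A hA F v) t₀ (x + y))) = _ from
          Matrix.det_updateRow_add (Matrix.of (rowsI r A hA F v)) t₀ x y]
        rw [mul_add, add_mul]
        rfl
      · obtain ⟨t₀, ht⟩ := (rowsJ_update (G := G) hA v p).1 hp
        simp only [ht, (rowsI_update (F := F) hA v p).2 hp]
        rw [show Matrix.det (Matrix.of (Function.update (rowsJ r A hA G v) t₀ (x + y))) = _ from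
          Matrix.det_updateRow_add (Matrix.of (rowsJ r A hA G v)) t₀ x y]
        rw [mul_add]
        rfl
    · simp
  map_update_smul' := by
    intro inst v p c x
    obtain rfl : inst = instDecidableEqFin (d + 1) := Subsingleton.elim _ _
    show term r F G A _ = _
    unfold term
    split_ifs with hA
    · by_cases hp : p ∈ A
      · obtain ⟨t₀, ht⟩ := (rowsI_update (F := F) hA v p).1 hp
        simp only [ht, (rowsJ_update (G := G) hA v p).2 hp]
        rw [show Matrix.det (Matrix.of (Function.update (rowsI r A hA F v) t₀ (c • x))) = _ from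
          Matrix.det_updateRow_smul (Matrix.of (rowsI r A hA F v)) t₀ c x]
        show _ = c * (_ * Matrix.det ((Matrix.of (rowsI r A hA F v)).updateRow t₀ x) * _)
        ring
      · obtain ⟨t₀, ht⟩ := (rowsJ_update (G := G) hA v p).1 hp
        simp only [ht, (rowsI_update (F := F) hA v p).2 hp]
        rw [show Matrix.det (Matrix.of (Function.update (rowsJ r A hA G v) t₀ (c • x))) = _ from
          Matrix.det_updateRow_smul (Matrix.of (rowsJ r A hA G v)) t₀ c x]
        show _ = c * (_ * _ * Matrix.det ((Matrix.of (rowsJ r A hA G v)).updateRow t₀ x))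
        ring
    · simp

/-- Adjacent equal rows kill the alternating sum. -/
theorem sum_term_eq_zero_adjacent (v : Fin (d + 1) → Fin d → R) (p q : Fin (d + 1)) (hpq : p.val + 1 = q.val)
    (hv : v p = v q) : ∑ A, term r F G A v = 0 := by
  classical
  let σ := Equiv.swap p q
  have hne : p ≠ q := fun h => by rw [h] at hpq; omega
  have hvσ : ∀ x, v (σ x) = v x := fun x => by
    rcases eq_or_ne x p with rfl | h1
    · simp [σ, hv]
    rcases eq_or_ne x q with rfl | h2
    · simp [σ, hv]
    · simp [σ, Equiv.swap_apply_of_ne_of_ne h1 h2]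
  have hboth : ∀ A, ((p ∈ A ∧ q ∈ A) ∨ (p ∉ A ∧ q ∉ A)) → term r F G A v = 0 := by
    intro A h
    unfold term
    split_ifs with hA
    · rcases h with ⟨h1, h2⟩ | ⟨h1, h2⟩
      · obtain ⟨s, hs⟩ := exists_emb hA h1
        obtain ⟨s', hs'⟩ := exists_emb hA h2
        have hss : s ≠ s' := fun h => hne (by rw [← hs, ← hs', h])
        rw [Matrix.det_zero_of_row_eq (M := Matrix.of (rowsI r A hA F v))
          (i := ⟨s.val, by omega⟩) (j := ⟨s'.val, by omega⟩)
          (fun h => hss (Fin.ext (congrArg Fin.val h :))) ?_]
        · simp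
        · show rowsI r A hA F v _ = rowsI r A hA F v _
          rw [rowsI, rowsI, dif_pos (by show s.val ≤ r.val; omega), dif_pos (by show s'.val ≤ r.val; omega)]
          simp only [Fin.eta, hs, hs', hv]
      · have hc := compl_card r A hA
        obtain ⟨s, hs⟩ := exists_emb hc (show p ∈ Aᶜ by simpa using h1)
        obtain ⟨s', hs'⟩ := exists_emb hc (show q ∈ Aᶜ by simpa using h2)
        have hss : s ≠ s' := fun h => hne (by rw [← hs, ← hs', h])
        rw [Matrix.det_zero_of_row_eq (M := Matrix.of (rowsJ r A hA G v))
          (i := ⟨r.val + s.val, by have := s.isLt; omega⟩) (j := ⟨r.val + s'.val, by have := s'.isLt; omega⟩)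
          (fun h => hss (Fin.ext (by have := congrArg Fin.val h; simp only at this; omega))) ?_]
        · simp
        · show rowsJ r A hA G v _ = rowsJ r A hA G v _
          rw [rowsJ, rowsJ, dif_neg (by show ¬ r.val + s.val < r.val; omega),
            dif_neg (by show ¬ r.val + s'.val < r.val; omega)]
          simp only [add_tsub_cancel_left, Fin.eta, hs, hs', hv]
    · rfl
  let g : Finset (Fin (d + 1)) → Finset (Fin (d + 1)) := fun A => A.map σ.toEmbedding
  have key : ∀ A, p ∈ A → q ∉ A → term r F G (g A) v = - term r F G A v := by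
    intro A h1 h2
    have hcard : (g A).card = A.card := Finset.card_map _
    unfold term
    by_cases hA : A.card = r.val + 1
    swap
    · rw [dif_neg hA, dif_neg (by rwa [hcard]), neg_zero]
    have hA' : (g A).card = r.val + 1 := hcard.trans hA
    rw [dif_pos hA', dif_pos hA]
    have hmono : ∀ x y : Fin (d + 1), x < y → ¬ (x = p ∧ y = q) → σ x < σ y := by
      intro x y hxy hn
      simp only [Fin.ext_iff] at hn
      rw [Fin.lt_def] at hxy
      rw [Fin.lt_def]
      have hval : ∀ z : Fin (d + 1), (σ z).val = if z.val = p.val then q.val else if z.val = q.val then p.val else z.val := by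
        intro z
        simp only [σ, Equiv.swap_apply_def, Fin.ext_iff]
        split_ifs <;> rfl
      rw [hval, hval]
      split_ifs <;> omega
    have hI : ∀ t, (g A).orderEmbOfFin hA' t = σ (A.orderEmbOfFin hA t) := by
      intro t
      rw [← Finset.orderEmbOfFin_unique hA' (f := fun t => σ (A.orderEmbOfFin hA t))
        (fun x => Finset.mem_map_of_mem _ (Finset.orderEmbOfFin_mem A hA x)) fun x y hxy => by
          refine hmono _ _ ((A.orderEmbOfFin hA).strictMono hxy) fun h => h2 (by rw [← h.2]; exact Finset.orderEmbOfFin_mem A hA y)]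
    have hgc : (g A)ᶜ = Aᶜ.map σ.toEmbedding := by
      ext x; simp [g, Finset.mem_map_equiv]
    have hJ : ∀ t, (g A)ᶜ.orderEmbOfFin (compl_card r _ hA') t = σ (Aᶜ.orderEmbOfFin (compl_card r A hA) t) := by
      intro t
      rw [← Finset.orderEmbOfFin_unique (compl_card r _ hA')
        (f := fun t => σ (Aᶜ.orderEmbOfFin (compl_card r A hA) t))
        (fun x => hgc ▸ Finset.mem_map_of_mem _ (Finset.orderEmbOfFin_mem Aᶜ _ x)) fun x y hxy => by
          refine hmono _ _ ((Aᶜ.orderEmbOfFin _).strictMono hxy) fun h =>
            (Finset.mem_compl.1 (Finset.orderEmbOfFin_mem Aᶜ (compl_card r A hA) x)) (by rw [h.1]; exact h1)]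
    have eI : rowsI r (g A) hA' F v = rowsI r A hA F v := by
      funext t; simp only [rowsI, hI, hvσ]
    have eJ : rowsJ r (g A) hA' G v = rowsJ r A hA G v := by
      funext t; simp only [rowsJ, hJ, hvσ]
    have hsum : ((g A).sum fun a => a.val) = (A.sum fun a => a.val) + 1 := by
      rw [Finset.sum_map, ← Finset.add_sum_erase _ _ h1, ← Finset.add_sum_erase _ _ h1]
      rw [Finset.sum_congr rfl fun x hx => show (σ.toEmbedding x).val = x.val by
        simp only [Equiv.coe_toEmbedding, σ]
        rw [Equiv.swap_apply_of_ne_of_ne (Finset.ne_of_mem_erase hx) fun h => h2 (by rw [← h]; exact Finset.mem_of_mem_erase hx)]]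
      simp only [Equiv.coe_toEmbedding, σ, Equiv.swap_apply_left, ← hpq]
      ring
    have hs : shuffleSign r (g A) = shuffleSign r A + 1 := by
      have := sum_le_card_sum A hA
      simp only [shuffleSign, hsum]
      omega
    rw [eI, eJ, hs, pow_succ]
    ring
  refine Finset.sum_involution (fun A _ => g A) (fun A _ => ?_) (fun A _ hne0 => ?_)
    (fun A _ => Finset.mem_univ _) (fun A _ => ?_)
  · by_cases h1 : p ∈ A <;> by_cases h2 : q ∈ A
    · have h1' : p ∈ g A := by simp [g, σ, Finset.mem_map_equiv, h2]
      have h2' : q ∈ g A := by simp [g, σ, Finset.mem_map_equiv, h1]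
      rw [hboth A (Or.inl ⟨h1, h2⟩), hboth _ (Or.inl ⟨h1', h2'⟩), add_zero]
    · rw [key A h1 h2, add_neg_cancel]
    · have h1' : p ∈ g A := by simp [g, σ, Finset.mem_map_equiv, h2]
      have h2' : q ∉ g A := by simp [g, σ, Finset.mem_map_equiv, h1]
      have hgg : g (g A) = A := by ext x; simp [g, σ, Finset.mem_map_equiv]
      have := key (g A) h1' h2'
      rw [hgg] at this
      rw [this, neg_add_cancel]
    · have h1' : p ∉ g A := by simp [g, σ, Finset.mem_map_equiv, h2]
      have h2' : q ∉ g A := by simp [g, σ, Finset.mem_map_equiv, h1]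
      rw [hboth A (Or.inr ⟨h1, h2⟩), hboth _ (Or.inr ⟨h1', h2'⟩), add_zero]
  · intro heq
    apply hne0
    have hiff : p ∈ A ↔ q ∈ A := by
      conv_lhs => rw [← heq]
      simp [g, σ, Finset.mem_map_equiv]
    by_cases h : p ∈ A
    · exact hboth A (Or.inl ⟨h, hiff.1 h⟩)
    · exact hboth A (Or.inr ⟨h, mt hiff.2 h⟩)
  · ext x; simp [g, σ, Finset.mem_map_equiv]

/-- Vanishing on adjacent equal arguments implies vanishing on any two equal arguments. -/
theorem eq_zero_of_adjacent {N : Type*} [AddCommGroup N] [Module R N]
    (f : MultilinearMap R (fun _ : Fin (d + 1) => Fin d → R) N)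
    (hadj : ∀ v (p q : Fin (d + 1)), p.val + 1 = q.val → v p = v q → f v = 0) :
    ∀ (g : ℕ) (v : Fin (d + 1) → Fin d → R) (p q : Fin (d + 1)), p.val + g + 1 = q.val → v p = v q → f v = 0 := by
  intro g
  induction g with
  | zero => intro v p q h; exact hadj v p q h
  | succ g ih =>
    intro v p q h he
    let q' : Fin (d + 1) := ⟨q.val - 1, by omega⟩
    have hq' : q'.val + 1 = q.val := by simp [q']; omega
    have hne : q' ≠ q := fun e => by rw [e] at hq'; omega
    have hp' : p ≠ q' := fun e => by rw [← e] at hq'; omega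
    have hp : p ≠ q := fun e => by rw [e] at h; omega
    -- antisymmetry in the slots `q', q`
    have hz : ∀ x, f (Function.update (Function.update v q' x) q x) = 0 := fun x =>
      hadj _ q' q hq' (by simp [Function.update_of_ne hne])
    have h3 := hz (v q' + v q)
    have e : ∀ x y, Function.update (Function.update v q' x) q y = Function.update (Function.update v q y) q' x :=
      fun x y => Function.update_comm hne x y v
    rw [f.map_update_add, e (v q' + v q), e (v q' + v q), f.map_update_add, f.map_update_add,
      ← e, ← e, ← e, ← e, hz, hz] at h3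
    have hw : f (Function.update (Function.update v q' (v q)) q (v q')) = 0 :=
      ih _ p q' (by omega) (by
        rw [Function.update_of_ne hp, Function.update_of_ne hp', he,
          Function.update_of_ne hne, Function.update_self])
    have hself : Function.update (Function.update v q' (v q')) q (v q) = v := by
      simp
    rw [hw, hself] at h3
    simpa using h3

/-- The alternating sum of shuffle terms, as an alternating map of the moving rows. -/
noncomputable def shuffleAlt (r : Fin d) (F G : Fin d → Fin d → R) :
    (Fin d → R) [⋀^Fin (d + 1)]→ₗ[R] R :=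
  { ∑ A, termML r F G A with
    map_eq_zero_of_eq' := fun v i j hij hne => by
      have hadj : ∀ v (p q : Fin (d + 1)), p.val + 1 = q.val → v p = v q →
          (∑ A, termML r F G A) v = 0 := fun v p q h1 h2 => by
        rw [sum_apply]; exact sum_term_eq_zero_adjacent v p q h1 h2
      show (∑ A, termML r F G A) v = 0
      rcases lt_or_gt_of_ne (Fin.val_ne_of_ne hne) with h | h
      · exact eq_zero_of_adjacent _ hadj (j.val - i.val - 1) v i j (by omega) hij
      · exact eq_zero_of_adjacent _ hadj (i.val - j.val - 1) v j i (by omega) hij.symm }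

/-- The alternating sum of shuffle terms vanishes: `d + 1` vectors of `R ^ d`. -/
theorem sum_term_eq_zero (v : Fin (d + 1) → Fin d → R) : ∑ A, term r F G A v = 0 := by
  have h : shuffleAlt r F G = 0 := (Pi.basisFun R (Fin d)).ext_alternating fun i hi => by
    exact absurd (Fintype.card_le_of_injective i hi) (by simp)
  have := congrArg (fun f : (Fin d → R) [⋀^Fin (d + 1)]→ₗ[R] R => f v) h
  simp only [AlternatingMap.zero_apply] at this
  rw [← this]
  show _ = (∑ A, termML r F G A) v
  rw [sum_apply]
  rfl

variable {K : Type u} [CommRing K] {n : ℕ} [Algebra K R]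

/-- The shuffle relations vanish at the minors of every matrix. -/
theorem aeval_shuffleRel (M : Matrix (Fin n) (Fin d) R) (i j : Idx d n) (r : Fin d) :
    aeval (fun θ : Idx d n => (M.submatrix θ.1 id).det) (shuffleRel K i j r) = 0 := by
  rw [shuffleRel, map_sum]
  rw [← sum_term_eq_zero (r := r) (F := fun t => M (i.1 t)) (G := fun t => M (j.1 t))
    fun k => M (movingRows i j r k)]
  refine Finset.sum_congr rfl fun A _ => ?_
  unfold shuffleTerm term
  split_ifs with hA
  · rw [map_mul, map_mul, aeval_coord, aeval_coord, map_pow, map_neg, map_one]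
    congr 2
    · congr 1
      ext t c
      simp only [Matrix.submatrix_apply, Matrix.of_apply, rowsI, shuffleI, id]
      split_ifs <;> rfl
    · ext t c
      simp only [Matrix.submatrix_apply, Matrix.of_apply, rowsJ, shuffleJ, id]
      split_ifs <;> rfl
  · simp

end Groth.Agent.SMT
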