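import Mathlib
import Groth.Agent.SMT.Basic

/-!
# Straightening: standard monomials span modulo the shuffle relations

Induction on the sum of the squares of the row sums of the factors.
-/

open MvPolynomial

namespace Groth.Agent.SMT

open W4bk4grassmannian

universe u

variable {K : Type u} [CommRing K] {d n : ℕ}

variable (K) in
/-- The monomial of a multiset of indices. -/
noncomputable def mon (s : Multiset (Idx d n)) : PlRing K d n := (s.map fun θ => X θ).prod

/-- Pairwise comparable multisets of indices. -/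
def IsStd (s : Multiset (Idx d n)) : Prop := ∀ a ∈ s, ∀ b ∈ s, a ≤ b ∨ b ≤ a

/-- The measure of straightening. -/
def Q (s : Multiset (Idx d n)) : ℕ := (s.map fun θ => S θ ^ 2).sum

theorem Q_le (s : Multiset (Idx d n)) : Q s ≤ s.card * (d * n) ^ 2 := by
  calc Q s ≤ (s.map fun _ => (d * n) ^ 2).sum :=
        Multiset.sum_map_le_sum_map _ _ fun θ _ => Nat.pow_le_pow_left (S_le θ) 2
    _ = _ := by simp

theorem mon_cons (a : Idx d n) (s : Multiset (Idx d n)) : mon K (a ::ₘ s) = X a * mon K s := by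
  simp [mon]

theorem Q_cons (a : Idx d n) (s : Multiset (Idx d n)) : Q (a ::ₘ s) = S a ^ 2 + Q s := by
  simp [Q]

/-- The trivial shuffle. -/
def A₀ (r : Fin d) : Finset (Fin (d + 1)) := Finset.univ.filter fun k => k.val ≤ r.val

theorem card_A₀ (r : Fin d) : (A₀ r).card = r.val + 1 := by
  have : A₀ r = Finset.Iic (⟨r.val, by omega⟩ : Fin (d + 1)) := by
    ext k; simp [A₀, Fin.le_def]
  rw [this, Fin.card_Iic]

theorem emb_A₀ (r : Fin d) (t : Fin (r.val + 1)) :
    ((A₀ r).orderEmbOfFin (card_A₀ r) t).val = t.val := by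
  have := Finset.orderEmbOfFin_unique (card_A₀ r) (f := fun t : Fin (r.val + 1) => (⟨t.val, by omega⟩ : Fin (d + 1)))
    (fun x => by simp [A₀]; omega) (fun x y h => h)
  exact (congrArg Fin.val (congrFun this t)).symm

theorem emb_compl_A₀ (r : Fin d) (h : (A₀ r)ᶜ.card = d - r.val) (t : Fin (d - r.val)) :
    ((A₀ r)ᶜ.orderEmbOfFin h t).val = r.val + 1 + t.val := by
  have := Finset.orderEmbOfFin_unique h (f := fun t : Fin (d - r.val) => (⟨r.val + 1 + t.val, by omega⟩ : Fin (d + 1)))
    (fun x => by simp [A₀]; omega) (fun x y hxy => Fin.mk_lt_mk.2 (by have := Fin.lt_def.1 hxy; omega))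
  exact (congrArg Fin.val (congrFun this t)).symm

theorem shuffleSign_A₀ (r : Fin d) : shuffleSign r (A₀ r) = 0 := by
  rw [shuffleSign]
  conv_lhs => arg 1; rw [← Finset.image_orderEmbOfFin_univ (A₀ r) (card_A₀ r)]
  rw [Finset.sum_image fun x _ y _ h => ((A₀ r).orderEmbOfFin (card_A₀ r)).injective h]
  simp only [emb_A₀]
  rw [Fin.sum_univ_eq_sum_range fun k => k, Finset.sum_range_id, Nat.add_sub_cancel, Nat.mul_comm,
    Nat.sub_self]

variable {i j : Idx d n} {r : Fin d}

theorem shuffleI_A₀ (h : (A₀ r).card = r.val + 1) : shuffleI i j r (A₀ r) h = i.1 := by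
  funext t
  unfold shuffleI
  split_ifs with ht
  · have e := emb_A₀ r ⟨t.val, by omega⟩
    rw [movingRows, dif_pos (by rw [e]; exact ht)]
    exact congrArg i.1 (Fin.ext e)
  · rfl

theorem shuffleJ_A₀ (h : (A₀ r).card = r.val + 1) : shuffleJ i j r (A₀ r) h = j.1 := by
  funext t
  unfold shuffleJ
  split_ifs with ht
  · rfl
  · have e := emb_compl_A₀ r (by rw [Finset.card_compl, h, Fintype.card_fin]; omega)
      ⟨t.val - r.val, by have := t.isLt; omega⟩
    rw [movingRows, dif_neg (by rw [e]; omega)]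
    refine congrArg j.1 (Fin.ext ?_)
    simp only [e]; omega

theorem movingRows_strictMono (hr : i.1 r < j.1 r) : StrictMono (movingRows i j r) := by
  intro a b hab
  rw [Fin.lt_def] at hab
  unfold movingRows
  split_ifs with h1 h2 h2
  · exact i.2 (show a.val < b.val from hab)
  · exact lt_of_lt_of_le (lt_of_le_of_lt (i.2.monotone (show a.val ≤ r.val from h1)) hr)
      (j.2.monotone (show r.val ≤ b.val - 1 by omega))
  · omega
  · exact j.2 (show a.val - 1 < b.val - 1 by omega)

theorem sum_shuffleI_gt (hr : i.1 r < j.1 r) {A : Finset (Fin (d + 1))} (hA : A.card = r.val + 1) (hne : A ≠ A₀ r) :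
    S i < ∑ t, (shuffleI i j r A hA t : ℕ) := by
  have hle : ∀ k : ℕ, ∀ hk : k < r.val + 1, k ≤ (A.orderEmbOfFin hA ⟨k, hk⟩).val := by
    intro k
    induction k with
    | zero => intro; exact Nat.zero_le _
    | succ k ih =>
      intro hk
      have h1 := ih (by omega)
      have h2 : A.orderEmbOfFin hA ⟨k, by omega⟩ < A.orderEmbOfFin hA ⟨k + 1, hk⟩ :=
        (A.orderEmbOfFin hA).strictMono (by simp [Fin.lt_def])
      rw [Fin.lt_def] at h2; omega
  have hi : ∀ t : Fin d, (h : t.val ≤ r.val) → i.1 t = movingRows i j r ⟨t.val, by omega⟩ := fun t h => by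
    rw [movingRows, dif_pos h]
  refine Finset.sum_lt_sum (fun t _ => ?_) ?_
  · unfold shuffleI
    split_ifs with h
    · rw [hi t h]; exact (movingRows_strictMono hr).monotone (hle t.val _)
    · exact le_rfl
  · by_contra hcon
    push Not at hcon
    refine hne (Finset.eq_of_subset_of_card_le (fun x hx => ?_) (by rw [hA, card_A₀]))
    simp only [A₀, Finset.mem_filter, Finset.mem_univ, true_and]
    obtain ⟨s, hs⟩ : ∃ s, A.orderEmbOfFin hA s = x := by
      rwa [← Set.mem_range, Finset.range_orderEmbOfFin, Finset.mem_coe]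
    have h := hcon ⟨s.val, by omega⟩ (Finset.mem_univ _)
    rw [hi ⟨s.val, by omega⟩ (by show s.val ≤ r.val; omega), shuffleI,
      dif_pos (by show s.val ≤ r.val; omega)] at h
    have h' : A.orderEmbOfFin hA s ≤ ⟨s.val, by omega⟩ := by
      by_contra hlt
      exact (movingRows_strictMono hr (not_le.1 hlt)).not_ge (Fin.le_def.2 h)
    rw [hs, Fin.le_def] at h'
    simp only at h'
    omega

theorem sum_shuffle_add (hr : i.1 r < j.1 r) (A : Finset (Fin (d + 1))) (hA : A.card = r.val + 1) :
    (∑ t, (shuffleI i j r A hA t : ℕ)) + ∑ t, (shuffleJ i j r A hA t : ℕ) = S i + S j := by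
  let w : Fin (d + 1) → ℕ := fun k => (movingRows i j r k : ℕ)
  let a : Fin d → ℕ := fun t => if r.val < t.val then (i.1 t : ℕ) else 0
  let b : Fin d → ℕ := fun t => if t.val < r.val then (j.1 t : ℕ) else 0
  have hI : ∀ (B : Finset (Fin (d + 1))) (hB : B.card = r.val + 1),
      ∑ t, (shuffleI i j r B hB t : ℕ) = ∑ k ∈ B, w k + ∑ t, a t := fun B hB => by
    have e1 : ∑ k ∈ B, w k = ∑ s : Fin (r.val + 1), w (B.orderEmbOfFin hB s) := by
      conv_lhs => rw [← Finset.image_orderEmbOfFin_univ B hB]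
      rw [Finset.sum_image fun x _ y _ h => (B.orderEmbOfFin hB).injective h]
    let g : Fin d → ℕ := fun t => if h : t.val ≤ r.val then w (B.orderEmbOfFin hB ⟨t.val, by omega⟩) else 0
    have e2 : ∑ s : Fin (r.val + 1), w (B.orderEmbOfFin hB s) = ∑ t, g t := by
      refine Fintype.sum_of_injective (Fin.castLE (show r.val + 1 ≤ d by omega)) (Fin.castLE_injective _) _ _
        (fun t ht => ?_) fun s => ?_
      · simp only [g]; exact dif_neg fun h => ht ⟨⟨t.val, by omega⟩, Fin.ext rfl⟩
      · simp only [g]; rw [dif_pos (by simp; omega)]; rfl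
    rw [e1, e2, ← Finset.sum_add_distrib]
    refine Finset.sum_congr rfl fun t _ => ?_
    simp only [shuffleI, g, a, w]
    split_ifs <;> omega
  have hJ : ∀ (B : Finset (Fin (d + 1))) (hB : B.card = r.val + 1),
      ∑ t, (shuffleJ i j r B hB t : ℕ) = ∑ k ∈ Bᶜ, w k + ∑ t, b t := fun B hB => by
    have hc : Bᶜ.card = d - r.val := by rw [Finset.card_compl, hB, Fintype.card_fin]; omega
    have e1 : ∑ k ∈ Bᶜ, w k = ∑ s : Fin (d - r.val), w (Bᶜ.orderEmbOfFin hc s) := by
      conv_lhs => rw [← Finset.image_orderEmbOfFin_univ Bᶜ hc]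
      rw [Finset.sum_image fun x _ y _ h => (Bᶜ.orderEmbOfFin hc).injective h]
    let e : Fin (d - r.val) → Fin d := fun s => ⟨r.val + s.val, by omega⟩
    have he : Function.Injective e := fun x y h => Fin.ext (by simp [e, Fin.ext_iff] at h; omega)
    let g : Fin d → ℕ := fun t =>
      if h : r.val ≤ t.val then w (Bᶜ.orderEmbOfFin hc ⟨t.val - r.val, by omega⟩) else 0
    have e2 : ∑ s : Fin (d - r.val), w (Bᶜ.orderEmbOfFin hc s) = ∑ t, g t := by
      refine Fintype.sum_of_injective e he _ _ (fun t ht => ?_) fun s => ?_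
      · simp only [g]; exact dif_neg fun h => ht ⟨⟨t.val - r.val, by omega⟩, Fin.ext (by simp [e]; omega)⟩
      · simp only [g]; rw [dif_pos (by simp [e])]
        exact congrArg (fun x => w (Bᶜ.orderEmbOfFin hc x)) (Fin.ext (by simp [e]))
    rw [e1, e2, ← Finset.sum_add_distrib]
    refine Finset.sum_congr rfl fun t _ => ?_
    simp only [shuffleJ, g, b, w]
    split_ifs <;> omega
  have k0 := hI (A₀ r) (card_A₀ r)
  have l0 := hJ (A₀ r) (card_A₀ r)
  rw [shuffleI_A₀] at k0
  rw [shuffleJ_A₀] at l0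
  rw [hI A hA, hJ A hA, S, S, k0, l0]
  have := Finset.sum_add_sum_compl A w
  have := Finset.sum_add_sum_compl (A₀ r) w
  omega

theorem shuffleTerm_A₀ : shuffleTerm K i j r (A₀ r) = X i * X j := by
  rw [shuffleTerm, dif_pos (card_A₀ r), shuffleSign_A₀, shuffleI_A₀, shuffleJ_A₀, coord_self, coord_self,
    pow_zero, one_mul]

variable {M : Type*} [AddCommGroup M] [Module K M]

/-- Straightening for any linear map killing the multiples of the shuffle relations. -/
theorem mem_span_std (Φ : PlRing K d n →ₗ[K] M)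
    (h : ∀ (i j : Idx d n) (r : Fin d) (g : PlRing K d n), IsPivot i j r → Φ (shuffleRel K i j r * g) = 0) :
    ∀ (N : ℕ) (s : Multiset (Idx d n)), s.card * (d * n) ^ 2 ≤ Q s + N →
      Φ (mon K s) ∈ Submodule.span K ((fun t => Φ (mon K t)) '' {t | IsStd t ∧ t.card = s.card ∧ (t.map S).sum = (s.map S).sum}) := by
  classical
  intro N
  induction N using Nat.strong_induction_on with
  | _ N ih =>
    intro s hN
    by_cases hs : IsStd s
    · exact Submodule.subset_span ⟨s, ⟨hs, rfl, rfl⟩, rfl⟩
    simp only [IsStd, not_forall, not_or] at hs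
    obtain ⟨a, ha, b, hb, hab, hba⟩ := hs
    obtain ⟨i, j, hi, hj, hij, hji, hS⟩ : ∃ i j, i ∈ s ∧ j ∈ s ∧ ¬ i ≤ j ∧ ¬ j ≤ i ∧ S j ≤ S i := by
      rcases le_total (S b) (S a) with h' | h'
      · exact ⟨a, b, ha, hb, hab, hba, h'⟩
      · exact ⟨b, a, hb, ha, hba, hab, h'⟩
    obtain ⟨s', hs'⟩ : ∃ s', s = i ::ₘ j ::ₘ s' := by
      obtain ⟨s₁, rfl⟩ := Multiset.exists_cons_of_mem hi
      have : j ∈ s₁ := (Multiset.mem_cons.1 hj).resolve_left fun e => hij (e ▸ le_rfl)
      obtain ⟨s₂, rfl⟩ := Multiset.exists_cons_of_mem this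
      exact ⟨s₂, rfl⟩
    have hex : (Finset.univ.filter fun t : Fin d => i.1 t < j.1 t).Nonempty := by
      by_contra hne
      exact hji fun t => le_of_not_gt fun hlt => hne ⟨t, by simp [hlt]⟩
    obtain ⟨r, hr, hmin⟩ : ∃ r : Fin d, i.1 r < j.1 r ∧ ∀ t, t < r → j.1 t ≤ i.1 t := by
      refine ⟨_, (Finset.mem_filter.1 (Finset.min'_mem _ hex)).2, fun t ht => le_of_not_gt fun hlt => ?_⟩
      exact (Finset.min'_le _ t (by simp [hlt])).not_gt ht
    have h0 := h i j r (mon K s') ⟨hmin, hr⟩
    rw [shuffleRel, ← Finset.add_sum_erase _ _ (Finset.mem_univ (A₀ r)), shuffleTerm_A₀, add_mul,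
      Finset.sum_mul, map_add, map_sum, mul_assoc, ← mon_cons, ← mon_cons, ← hs'] at h0
    rw [eq_neg_of_add_eq_zero_left h0]
    refine Submodule.neg_mem _ (Submodule.sum_mem _ fun A hA => ?_)
    have hne : A ≠ A₀ r := Finset.ne_of_mem_erase hA
    unfold shuffleTerm
    split_ifs with hcard
    swap
    · rw [zero_mul, map_zero]; exact Submodule.zero_mem _
    by_cases hI : (Finset.univ.image (shuffleI i j r A hcard)).card = d
    swap
    · rw [coord_of_card_ne hI]; simp
    by_cases hJ : (Finset.univ.image (shuffleJ i j r A hcard)).card = d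
    swap
    · rw [coord_of_card_ne hJ]; simp
    rw [coord_of_card_eq hI, coord_of_card_eq hJ]
    set i' := sortIdx d n _ hI
    set j' := sortIdx d n _ hJ
    have e : ((-1 : PlRing K d n) ^ shuffleSign r A * ((-1) ^ invCount d n (shuffleI i j r A hcard) * X i') *
        ((-1) ^ invCount d n (shuffleJ i j r A hcard) * X j')) * mon K s' =
        ((-1 : K) ^ (shuffleSign r A + invCount d n (shuffleI i j r A hcard) +
          invCount d n (shuffleJ i j r A hcard))) • mon K (i' ::ₘ j' ::ₘ s') := by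
      rw [mon_cons, mon_cons, smul_eq_C_mul, map_pow, map_neg, map_one, pow_add, pow_add]; ring
    rw [e, map_smul]
    refine Submodule.smul_mem _ _ ?_
    have hgt : S i < S i' := by rw [S_sortIdx]; exact sum_shuffleI_gt hr hcard hne
    have hsum : S i' + S j' = S i + S j := by rw [S_sortIdx, S_sortIdx]; exact sum_shuffle_add hr A hcard
    have hQ : Q s < Q (i' ::ₘ j' ::ₘ s') := by
      rw [hs', Q_cons, Q_cons, Q_cons, Q_cons]
      have h1 : S i ^ 2 + S j ^ 2 < S i' ^ 2 + S j' ^ 2 := by nlinarith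
      omega
    have hc : (i' ::ₘ j' ::ₘ s').card = s.card := by simp [hs']
    have hbound := Q_le (i' ::ₘ j' ::ₘ s')
    rw [hc] at hbound
    have hlt : s.card * (d * n) ^ 2 - Q (i' ::ₘ j' ::ₘ s') < N := by omega
    have := ih _ hlt (i' ::ₘ j' ::ₘ s') (by rw [hc]; omega)
    rw [hc, show ((i' ::ₘ j' ::ₘ s').map S).sum = (s.map S).sum by
      simp [hs', ← add_assoc, hsum]] at this
    exact this

theorem exists_monotone_of_isStd (s : Multiset (Idx d n)) (hs : IsStd s) :
    ∃ (m : ℕ) (c : Fin m → Idx d n), Antitone c ∧ Multiset.map c Finset.univ.val = s := by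
  classical
  induction hm : s.card generalizing s with
  | zero =>
    refine ⟨0, Fin.elim0, fun a => a.elim0, ?_⟩
    rw [Multiset.card_eq_zero] at hm
    simp [hm]
  | succ k ih =>
    have hne : s.toFinset.Nonempty := by
      obtain ⟨a, ha⟩ := Multiset.card_pos_iff_exists_mem.1 (by omega : 0 < s.card)
      exact ⟨a, Multiset.mem_toFinset.2 ha⟩
    obtain ⟨a, ha⟩ := s.toFinset.exists_maximal hne
    have hamax : ∀ b ∈ s, b ≤ a := fun b hb => by
      rcases hs b hb a (Multiset.mem_toFinset.1 ha.1) with h | h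
      · exact h
      · exact ha.2 (Multiset.mem_toFinset.2 hb) h
    obtain ⟨t, rfl⟩ := Multiset.exists_cons_of_mem (Multiset.mem_toFinset.1 ha.1)
    obtain ⟨m, c, hc, hct⟩ := ih t (fun x hx y hy => hs x (Multiset.mem_cons_of_mem hx) y (Multiset.mem_cons_of_mem hy))
      (by simpa using hm)
    refine ⟨m + 1, Fin.cons a c, ?_, ?_⟩
    · intro x y hxy
      induction x using Fin.cases with
      | zero =>
        induction y using Fin.cases with
        | zero => exact le_rfl
        | succ y =>
          simp only [Fin.cons_zero, Fin.cons_succ]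
          exact hamax _ (Multiset.mem_cons_of_mem (by rw [← hct]; simp))
      | succ x =>
        induction y using Fin.cases with
        | zero => exact absurd hxy (by simp [Fin.le_def])
        | succ y => simpa using hc (by simpa using hxy)
    · rw [Fin.univ_succ]
      simp [← hct, Function.comp_def]

theorem mon_map {m : ℕ} (c : Fin m → Idx d n) : mon K (Multiset.map c Finset.univ.val) = chainMon K c := by
  rw [mon, chainMon, Multiset.map_map]
  rfl

/-- The images of standard monomials span the image of a linear map killing the shuffle ideal. -/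
theorem range_le_span_chains (Φ : PlRing K d n →ₗ[K] M)
    (h : ∀ (i j : Idx d n) (r : Fin d) (g : PlRing K d n), IsPivot i j r → Φ (shuffleRel K i j r * g) = 0)
    (f : PlRing K d n) :
    Φ f ∈ Submodule.span K (Set.range fun c : (Σ m : ℕ, {c : Fin m → Idx d n // Antitone c}) =>
      Φ (chainMon K c.2.1)) := by
  classical
  rw [f.as_sum, map_sum]
  refine Submodule.sum_mem _ fun e _ => ?_
  rw [show monomial e (coeff e f) = coeff e f • mon K (Finsupp.toMultiset e) by
    rw [monomial_eq, smul_eq_C_mul, mon, Finsupp.toMultiset_map, Finsupp.prod_toMultiset]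
    congr 1
    rw [Finsupp.prod_mapDomain_index (by simp) (by simp [pow_add])], map_smul]
  refine Submodule.smul_mem _ _ ?_
  refine Submodule.span_le.2 ?_ (mem_span_std Φ h _ (Finsupp.toMultiset e) (Nat.le_add_left _ _))
  rintro _ ⟨t, ⟨ht, -, -⟩, rfl⟩
  obtain ⟨m, c, hc, rfl⟩ := exists_monotone_of_isStd t ht
  exact Submodule.subset_span ⟨⟨m, c, hc⟩, congrArg Φ (mon_map c).symm⟩

end Groth.Agent.SMT
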