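import Mathlib
import Groth.Agent.SMT.Shuffle
import Groth.Agent.SMT.Straighten
import Groth.Agent.SMT.Leading

/-!
# Standard monomial theory of Schubert varieties in the Grassmannian
-/

open MvPolynomial

namespace Groth.Agent.SMT

open W4bk4grassmannian

universe u

variable {K : Type u} [CommRing K] {d n : ℕ}

variable (d n) in
/-- Index set of standard monomials. -/
abbrev Chains : Type := Σ m : ℕ, {c : Fin m → Idx d n // Antitone c}

variable (K) in
/-- The standard monomial of a chain. -/
noncomputable def cmon (c : Chains d n) : PlRing K d n := chainMon K c.2.1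

theorem le_of_idx (w : Idx d n) : d ≤ n := by
  have := Fintype.card_le_of_injective _ w.2.injective
  simpa using this

/-- The least index `(0, 1, …, d - 1)`. -/
def botIdx (h : d ≤ n) : Idx d n := ⟨fun t => ⟨t.val, lt_of_lt_of_le t.isLt h⟩, fun _ _ hab => hab⟩

/-- The greatest index `(n - d, …, n - 1)`. -/
def topIdx (h : d ≤ n) : Idx d n :=
  ⟨fun t => ⟨n - d + t.val, by omega⟩, fun a b hab => Fin.mk_lt_mk.2 (by have := Fin.lt_def.1 hab; omega)⟩

theorem botIdx_le (h : d ≤ n) (θ : Idx d n) : botIdx h ≤ θ := by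
  have key : ∀ k : ℕ, ∀ hk : k < d, k ≤ (θ.1 ⟨k, hk⟩).val := by
    intro k
    induction k with
    | zero => intro; exact Nat.zero_le _
    | succ k ih =>
      intro hk
      have h1 := ih (by omega)
      have h2 : θ.1 ⟨k, by omega⟩ < θ.1 ⟨k + 1, hk⟩ := θ.2 (by simp [Fin.lt_def])
      rw [Fin.lt_def] at h2; omega
  exact fun t => key t.1 t.2

theorem le_topIdx (h : d ≤ n) (θ : Idx d n) : θ ≤ topIdx h := by
  have key : ∀ k : ℕ, ∀ t : Fin d, d - t.val = k → (θ.1 t).val + (d - t.val) ≤ n := by
    intro k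
    induction k with
    | zero => intro t ht; omega
    | succ k ih =>
      intro t ht
      by_cases hk : k = 0
      · have := (θ.1 t).isLt; omega
      · have h1 := ih ⟨t.val + 1, by omega⟩ (by simp; omega)
        have h2 : θ.1 t < θ.1 ⟨t.val + 1, by omega⟩ := θ.2 (by simp [Fin.lt_def])
        rw [Fin.lt_def] at h2; simp at h1; omega
  intro t
  rw [Fin.le_def]
  have := key _ t rfl
  simp only [topIdx]; omega

theorem res_eq_zero_of_mem_plIdealTop (lo hi : Idx d n) {f : PlRing K d n} (hf : f ∈ plIdealTop K) :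
    res K lo hi f = 0 := by
  refine (show plIdealTop K ≤ RingHom.ker (res K lo hi).toRingHom from Ideal.span_le.2 ?_) hf
  rintro _ ⟨i, j, r, -, rfl⟩
  exact aeval_shuffleRel _ i j r

theorem exists_repr (f : PlRing K d n) :
    ∃ a : Chains d n →₀ K, f - Finsupp.linearCombination K (cmon K) a ∈ plIdealTop K := by
  have h := range_le_span_chains (Ideal.Quotient.mkₐ K (plIdealTop (d := d) (n := n) K)).toLinearMap
    (fun i j r g h => Ideal.Quotient.eq_zero_iff_mem.2
      (Ideal.mul_mem_right _ _ (Ideal.subset_span ⟨i, j, r, h, rfl⟩))) f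
  obtain ⟨a, ha⟩ := (Finsupp.mem_span_range_iff_exists_finsupp).1 h
  refine ⟨a, Ideal.Quotient.eq.1 ?_⟩
  change (Ideal.Quotient.mkₐ K (plIdealTop K)) f = Ideal.Quotient.mkₐ K (plIdealTop K) _
  rw [Finsupp.linearCombination_apply, map_finsuppSum]
  refine ha.symm.trans (Finsupp.sum_congr fun c _ => ?_)
  rw [map_smul]; rfl

/-- If the restriction to the chart `[lo, hi]` vanishes, so do the coefficients of the chains inside. -/
theorem coeff_eq_zero_of_res_eq_zero (hd : 0 < d) (lo hi : Idx d n) (a : Chains d n →₀ K)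
    (h : res K lo hi (Finsupp.linearCombination K (cmon K) a) = 0) (c : Chains d n)
    (hc : ∀ k, lo ≤ c.2.1 k ∧ c.2.1 k ≤ hi) : a c = 0 := by
  classical
  let ι : (Σ m : ℕ, {c : Fin m → Idx d n // Antitone c ∧ ∀ k, lo ≤ c k ∧ c k ≤ hi}) → Chains d n :=
    fun x => ⟨x.1, x.2.1, x.2.2.1⟩
  have hι : Function.Injective ι := by
    rintro ⟨m, x⟩ ⟨m', y⟩ hxy
    obtain ⟨rfl, hxy⟩ := Sigma.mk.inj_iff.1 hxy
    exact congrArg (Sigma.mk m) (Subtype.ext (congrArg Subtype.val (eq_of_heq hxy) :))
  have hz : ∀ x ∈ a.support, x ∉ Set.range ι → res K lo hi (cmon K x) = 0 := fun x _ hx => by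
    obtain ⟨k, hk⟩ : ∃ k, ¬ (lo ≤ x.2.1 k ∧ x.2.1 k ≤ hi) :=
      not_forall.1 fun hall => hx ⟨⟨x.1, x.2.1, x.2.2, hall⟩, rfl⟩
    exact res_chainMon_eq_zero _ hk
  have hsum : Finsupp.linearCombination K (fun x => res K lo hi (cmon K (ι x))) (a.comapDomain ι hι.injOn) = 0 := by
    rw [← h, Finsupp.linearCombination_apply, Finsupp.linearCombination_apply, map_finsuppSum, Finsupp.sum,
      Finsupp.sum]
    simp only [Finsupp.comapDomain_apply, map_smul]
    rw [Finsupp.comapDomain_support]
    refine (Finset.sum_preimage ι a.support hι.injOn (fun x => a x • res K lo hi (cmon K x)) ?_)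
    exact fun x hx hnr => by rw [hz x hx hnr, smul_zero]
  have := DFunLike.congr_fun (linearIndependent_iff.1 (linearIndependent_res hd lo hi) _ hsum)
    ⟨c.1, c.2.1, c.2.2, hc⟩
  rw [Finsupp.comapDomain_apply] at this
  exact this

/-- The monomial of a chain leaving `{≤ w}` lies in `plIdeal w`. -/
theorem cmon_mem_plIdeal {w : Idx d n} (c : Chains d n) {k : Fin c.1} (hk : ¬ c.2.1 k ≤ w) :
    cmon K c ∈ plIdeal K w :=
  Ideal.mem_of_dvd _ (Finset.dvd_prod_of_mem _ (Finset.mem_univ k))
    (Ideal.subset_span (Or.inr ⟨c.2.1 k, hk, rfl⟩))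

theorem plIdealTop_le (w : Idx d n) : plIdealTop K ≤ plIdeal K w :=
  Ideal.span_mono Set.subset_union_left

variable {k : Type u} [Field k]

theorem plIdeal_le_schubertVanishing (w : Idx d n) : plIdeal k w ≤ schubertVanishing k d n w := by
  rw [plIdeal, Ideal.span_le]
  rintro f (⟨i, j, r, -, rfl⟩ | ⟨φ, hφ, rfl⟩)
  · simp only [schubertVanishing, SetLike.mem_coe, Submodule.mem_iInf]
    exact fun A _ => aeval_shuffleRel A i j r
  · simp only [schubertVanishing, SetLike.mem_coe, Submodule.mem_iInf]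
    exact fun A hA => (aeval_X _ _).trans (hA φ hφ)

theorem res_eq_zero_of_mem_schubertVanishing [Infinite k] (lo : Idx d n) {w : Idx d n} {f : PlRing k d n}
    (hf : f ∈ schubertVanishing k d n w) : res k lo w f = 0 := by
  refine MvPolynomial.funext fun z => ?_
  rw [map_zero]
  let A : Matrix (Fin n) (Fin d) k := (boxMatrix k lo w).map (eval z)
  have key : ∀ θ : Idx d n, (A.submatrix θ.1 id).det = eval z (res k lo w (X θ)) := fun θ => by
    rw [res_X, RingHom.map_det]; rfl
  have hA : ∀ φ : Idx d n, ¬ φ ≤ w → (A.submatrix φ.1 id).det = 0 := fun φ hφ => by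
    rw [key, res_X_eq_zero fun h => hφ h.2, map_zero]
  simp only [schubertVanishing, Submodule.mem_iInf] at hf
  have h0 : evalMinors k d n A f = 0 := hf A hA
  rw [← h0, evalMinors, res]
  simp only [aeval_def, eval₂_comp_left (eval z)]
  congr 1
  · ext; simp
  · funext θ
    rw [key, res_X]; rfl

/-- Membership in the ideal of a Schubert variety, via any straightened representative. -/
theorem mem_schubertVanishing_iff [Infinite k] (hd : 0 < d) {w : Idx d n} {f : PlRing k d n}
    {a : Chains d n →₀ k} (ha : f - Finsupp.linearCombination k (cmon k) a ∈ plIdealTop k) :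
    f ∈ schubertVanishing k d n w ↔ ∀ c : Chains d n, (∀ i, c.2.1 i ≤ w) → a c = 0 := by
  constructor
  · intro hf c hc
    refine coeff_eq_zero_of_res_eq_zero hd (botIdx (le_of_idx w)) w a ?_ c fun i => ⟨botIdx_le _ _, hc i⟩
    have h1 := res_eq_zero_of_mem_plIdealTop (botIdx (le_of_idx w)) w ha
    rw [map_sub, res_eq_zero_of_mem_schubertVanishing _ hf, zero_sub, neg_eq_zero] at h1
    exact h1
  · intro h
    refine plIdeal_le_schubertVanishing w ?_
    have : Finsupp.linearCombination k (cmon k) a ∈ plIdeal k w := by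
      rw [Finsupp.linearCombination_apply]
      refine Ideal.sum_mem _ fun c _ => ?_
      dsimp only
      by_cases hc : ∀ i, c.2.1 i ≤ w
      · rw [h c hc, zero_smul]; exact Ideal.zero_mem _
      · obtain ⟨i, hi⟩ := not_forall.1 hc
        rw [smul_eq_C_mul]
        exact Ideal.mul_mem_left _ _ (cmon_mem_plIdeal c hi)
    simpa using Ideal.add_mem _ (plIdealTop_le w ha) this

theorem plIdeal_eq_schubertVanishing [Infinite k] (hd : 0 < d) (w : Idx d n) :
    plIdeal k w = schubertVanishing k d n w := by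
  refine le_antisymm (plIdeal_le_schubertVanishing w) fun f hf => ?_
  obtain ⟨a, ha⟩ := exists_repr f
  have h := (mem_schubertVanishing_iff hd ha).1 hf
  have : Finsupp.linearCombination k (cmon k) a ∈ plIdeal k w := by
    rw [Finsupp.linearCombination_apply]
    refine Ideal.sum_mem _ fun c _ => ?_
    dsimp only
    by_cases hc : ∀ i, c.2.1 i ≤ w
    · rw [h c hc, zero_smul]; exact Ideal.zero_mem _
    · obtain ⟨i, hi⟩ := not_forall.1 hc
      rw [smul_eq_C_mul]
      exact Ideal.mul_mem_left _ _ (cmon_mem_plIdeal c hi)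
  simpa using Ideal.add_mem _ (plIdealTop_le w ha) this

theorem schubertVanishing_eq_ker [Infinite k] (hd : 0 < d) (w : Idx d n) :
    schubertVanishing k d n w = RingHom.ker (res k (botIdx (le_of_idx w)) w).toRingHom := by
  refine le_antisymm (fun f hf => res_eq_zero_of_mem_schubertVanishing _ hf) fun f hf => ?_
  obtain ⟨a, ha⟩ := exists_repr f
  refine (mem_schubertVanishing_iff hd ha).2 fun c hc =>
    coeff_eq_zero_of_res_eq_zero hd (botIdx (le_of_idx w)) w a ?_ c fun i => ⟨botIdx_le _ _, hc i⟩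
  have h1 := res_eq_zero_of_mem_plIdealTop (botIdx (le_of_idx w)) w ha
  rw [map_sub, (show res k (botIdx (le_of_idx w)) w f = 0 from hf), zero_sub, neg_eq_zero] at h1
  exact h1

theorem schubertVanishing_antitone {v w : Idx d n} (h : v ≤ w) :
    schubertVanishing k d n w ≤ schubertVanishing k d n v := by
  intro f hf
  simp only [schubertVanishing, Submodule.mem_iInf] at hf ⊢
  exact fun A hA => hf A fun φ hφ => hA φ fun hle => hφ (hle.trans h)

theorem isRadical_schubertVanishing (w : Idx d n) : (schubertVanishing k d n w).IsRadical := by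
  intro f hf
  obtain ⟨m, hm⟩ := hf
  simp only [schubertVanishing, Submodule.mem_iInf] at hm ⊢
  intro A hA
  have h : evalMinors k d n A (f ^ m) = 0 := hm A hA
  rw [map_pow] at h
  exact eq_zero_of_pow_eq_zero h

theorem inf_le_left' (v w : Idx d n) : W4bk4grassmannian.inf v w ≤ v := fun _ => min_le_left _ _

theorem inf_le_right' (v w : Idx d n) : W4bk4grassmannian.inf v w ≤ w := fun _ => min_le_right _ _

theorem sup_schubertVanishing [Infinite k] (hd : 0 < d) (v w : Idx d n) :
    schubertVanishing k d n v ⊔ schubertVanishing k d n w =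
      schubertVanishing k d n (W4bk4grassmannian.inf v w) := by
  refine le_antisymm (sup_le (schubertVanishing_antitone (inf_le_left' v w))
    (schubertVanishing_antitone (inf_le_right' v w))) ?_
  rw [← plIdeal_eq_schubertVanishing hd, plIdeal, Ideal.span_le]
  rintro f (⟨i, j, r, h, rfl⟩ | ⟨φ, hφ, rfl⟩)
  · exact Submodule.mem_sup_left (plIdeal_le_schubertVanishing v (Ideal.subset_span (Or.inl ⟨i, j, r, h, rfl⟩)))
  · have hvw : ¬ φ ≤ v ∨ ¬ φ ≤ w := by
      by_contra hcon
      push Not at hcon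
      exact hφ fun t => le_min (hcon.1 t) (hcon.2 t)
    rcases hvw with h | h
    · exact Submodule.mem_sup_left (plIdeal_le_schubertVanishing v (Ideal.subset_span (Or.inr ⟨φ, h, rfl⟩)))
    · exact Submodule.mem_sup_right (plIdeal_le_schubertVanishing w (Ideal.subset_span (Or.inr ⟨φ, h, rfl⟩)))

theorem exists_divisor_ge {τ w : Idx d n} (h : τ < w) : ∃ φ ∈ divisors w, τ ≤ φ := by
  classical
  have he : (Finset.univ.filter fun t => τ.1 t < w.1 t).Nonempty := by
    by_contra hne
    exact h.not_ge fun t => le_of_not_gt fun hlt => hne ⟨t, by simp [hlt]⟩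
  set t := Finset.min' _ he
  have ht : τ.1 t < w.1 t := (Finset.mem_filter.1 (Finset.min'_mem _ he)).2
  have hlt : ∀ s, s < t → w.1 s = τ.1 s := fun s hs =>
    le_antisymm (le_of_not_gt fun hl => (Finset.min'_le _ s (by simp [hl])).not_gt hs) (h.le s)
  rw [Fin.lt_def] at ht
  let v : Fin n := ⟨(w.1 t).val - 1, by omega⟩
  have hv : (v : ℕ) + 1 = (w.1 t).val := by simp [v]; omega
  have hmono : StrictMono (Function.update w.1 t v) := by
    intro a b hab
    rcases eq_or_ne a t with rfl | ha
    · rw [Function.update_self, Function.update_of_ne hab.ne']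
      have := Fin.lt_def.1 (w.2 hab); rw [Fin.lt_def]; omega
    rcases eq_or_ne b t with rfl | hb
    · rw [Function.update_self, Function.update_of_ne ha, hlt a hab]
      have := Fin.lt_def.1 (τ.2 hab); rw [Fin.lt_def]; omega
    rw [Function.update_of_ne ha, Function.update_of_ne hb]; exact w.2 hab
  refine ⟨⟨_, hmono⟩, ⟨⟨fun s => ?_, fun hle => ?_⟩, ?_⟩, fun s => ?_⟩
  · rcases eq_or_ne s t with rfl | hs
    · simp only [Function.update_self]; rw [Fin.le_def]; omega
    · simp only [Function.update_of_ne hs]; exact le_rfl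
  · have := Fin.le_def.1 (hle t)
    simp only [Function.update_self] at this; omega
  · unfold codeg
    rw [← Finset.add_sum_erase _ _ (Finset.mem_univ t), ← Finset.add_sum_erase _ _ (Finset.mem_univ t)]
    rw [Finset.sum_congr rfl fun s hs => show ((Function.update w.1 t v s : ℕ) - s.val) = (w.1 s).val - s.val by
      rw [Function.update_of_ne (Finset.ne_of_mem_erase hs)]]
    simp only [Function.update_self]
    have : (t : ℕ) ≤ (τ.1 t).val := botIdx_le (le_of_idx τ) τ t
    omega
  · rcases eq_or_ne s t with rfl | hs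
    · simp only [Function.update_self]; rw [Fin.le_def]; omega
    · simp only [Function.update_of_ne hs]; exact h.le s

theorem schubertVanishing_sup_X [Infinite k] (hd : 0 < d) (τ : Idx d n) (hτ : ∃ φ, φ < τ) :
    schubertVanishing k d n τ ⊔ Ideal.span {X τ} = ⨅ φ ∈ divisors τ, schubertVanishing k d n φ := by
  refine le_antisymm (le_iInf₂ fun φ hφ => sup_le (schubertVanishing_antitone hφ.1.le) ?_) fun f hf => ?_
  · rw [Ideal.span_le, Set.singleton_subset_iff]
    exact plIdeal_le_schubertVanishing φ (Ideal.subset_span (Or.inr ⟨τ, hφ.1.not_ge, rfl⟩))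
  simp only [Submodule.mem_iInf] at hf
  obtain ⟨a, ha⟩ := exists_repr f
  have key : Finsupp.linearCombination k (cmon k) a ∈ schubertVanishing k d n τ ⊔ Ideal.span {X τ} := by
    rw [Finsupp.linearCombination_apply]
    refine Ideal.sum_mem _ fun c _ => ?_
    dsimp only
    rw [smul_eq_C_mul]
    by_cases hc : ∀ i, c.2.1 i ≤ τ
    swap
    · obtain ⟨i, hi⟩ := not_forall.1 hc
      exact Ideal.mul_mem_left _ _ (Submodule.mem_sup_left (plIdeal_le_schubertVanishing τ (cmon_mem_plIdeal c hi)))
    by_cases he : ∃ i, c.2.1 i = τ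
    · obtain ⟨i, hi⟩ := he
      refine Ideal.mul_mem_left _ _ (Submodule.mem_sup_right (Ideal.mem_span_singleton.2 ?_))
      rw [← hi]
      exact Finset.dvd_prod_of_mem _ (Finset.mem_univ i)
    push Not at he
    have hac : a c = 0 := by
      obtain ⟨φ, hφ, hle⟩ : ∃ φ ∈ divisors τ, ∀ i, c.2.1 i ≤ φ := by
        obtain ⟨m, c, hcm⟩ := c
        rcases Nat.eq_zero_or_pos m with rfl | hm
        · obtain ⟨φ', hφ'⟩ := hτ
          obtain ⟨φ, hφ, -⟩ := exists_divisor_ge hφ'
          exact ⟨φ, hφ, fun i => i.elim0⟩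
        · obtain ⟨φ, hφ, hle⟩ := exists_divisor_ge (lt_of_le_of_ne (hc ⟨0, hm⟩) (he _))
          exact ⟨φ, hφ, fun i => (hcm (Fin.mk_le_mk.2 (Nat.zero_le _) : (⟨0, hm⟩ : Fin m) ≤ i)).trans hle⟩
      exact (mem_schubertVanishing_iff hd ha).1 (hf φ hφ) c hle
    rw [hac, map_zero, zero_mul]; exact Ideal.zero_mem _
  simpa using Ideal.add_mem _ (Submodule.mem_sup_left (plIdeal_le_schubertVanishing τ (plIdealTop_le τ ha))) key

theorem standard_basis_union [Infinite k] (hd : 0 < d) {r : ℕ} (τs : Fin r → Idx d n) :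
    LinearIndependent k (fun c : (Σ m : ℕ, {c : Fin m → Idx d n // Antitone c ∧ ∃ i, ∀ k, c k ≤ τs i}) =>
        Ideal.Quotient.mk (⨅ i, schubertVanishing k d n (τs i)) (chainMon k c.2.1)) ∧
      Submodule.span k (Set.range fun c : (Σ m : ℕ, {c : Fin m → Idx d n // Antitone c ∧ ∃ i, ∀ k, c k ≤ τs i}) =>
        Ideal.Quotient.mk (⨅ i, schubertVanishing k d n (τs i)) (chainMon k c.2.1)) = ⊤ := by
  classical
  set J := ⨅ i, schubertVanishing k d n (τs i)
  let ι : (Σ m : ℕ, {c : Fin m → Idx d n // Antitone c ∧ ∃ i, ∀ k, c k ≤ τs i}) → Chains d n :=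
    fun x => ⟨x.1, x.2.1, x.2.2.1⟩
  have hι : Function.Injective ι := by
    rintro ⟨m, x⟩ ⟨m', y⟩ hxy
    obtain ⟨rfl, hxy⟩ := Sigma.mk.inj_iff.1 hxy
    exact congrArg (Sigma.mk m) (Subtype.ext (congrArg Subtype.val (eq_of_heq hxy) :))
  refine ⟨linearIndependent_iff.2 fun g hg => ?_, eq_top_iff.2 ?_⟩
  · have hmem : Finsupp.linearCombination k (cmon k) (g.mapDomain ι) ∈ J := by
      rw [← Ideal.Quotient.eq_zero_iff_mem, Finsupp.linearCombination_mapDomain, ← hg]
      rw [Finsupp.linearCombination_apply, Finsupp.linearCombination_apply, map_finsuppSum]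
      rfl
    ext ⟨m, c, hc, i, hi⟩
    rw [Submodule.mem_iInf] at hmem
    have h := (mem_schubertVanishing_iff hd (a := g.mapDomain ι) (by simp)).1 (hmem i) (ι ⟨m, c, hc, i, hi⟩) hi
    rwa [Finsupp.mapDomain_apply hι] at h
  · rintro x -
    obtain ⟨f, rfl⟩ := Ideal.Quotient.mk_surjective x
    obtain ⟨a, ha⟩ := exists_repr f
    have hJ : f - Finsupp.linearCombination k (cmon k) a ∈ J :=
      Submodule.mem_iInf _ |>.2 fun i => plIdeal_le_schubertVanishing _ (plIdealTop_le _ ha)
    rw [Ideal.Quotient.eq.2 hJ, Finsupp.linearCombination_apply, map_finsuppSum]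
    refine Submodule.sum_mem _ fun c _ => ?_
    show Ideal.Quotient.mkₐ k J (a c • cmon k c) ∈ _
    rw [map_smul]
    refine Submodule.smul_mem _ _ ?_
    by_cases hc : ∃ i, ∀ j, c.2.1 j ≤ τs i
    · exact Submodule.subset_span ⟨⟨c.1, c.2.1, c.2.2, hc⟩, rfl⟩
    · push Not at hc
      rw [show Ideal.Quotient.mkₐ k J (cmon k c) = 0 from Ideal.Quotient.eq_zero_iff_mem.2
        (Submodule.mem_iInf _ |>.2 fun i => by
          obtain ⟨j, hj⟩ := hc i
          exact plIdeal_le_schubertVanishing _ (cmon_mem_plIdeal c hj))]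
      exact Submodule.zero_mem _

end Groth.Agent.SMT
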