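import Mathlib
import Groth.Agent.SMT.Schubert

/-!
# Schubert varieties are projectively normal

The coordinate ring is a subalgebra of a polynomial ring whose monoid of leading exponents is cut out by
homogeneous linear inequalities, hence saturated; such a subalgebra is integrally closed.
-/

open MvPolynomial MonomialOrder

namespace Groth.Agent.SMT

open W4bk4grassmannian

universe u

/-- A subalgebra of a polynomial ring whose leading exponents form a saturated monoid contains every
element of the polynomial ring almost integral over it. -/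
theorem mem_of_almost_mem {k : Type u} [Field k] {σ : Type*} (m : MonomialOrder σ)
    (B : Subalgebra k (MvPolynomial σ k)) (M : Set (σ →₀ ℕ))
    (hlead : ∀ f ∈ B, f ≠ 0 → m.degree f ∈ M)
    (hmon : ∀ e ∈ M, ∃ b ∈ B, m.degree b = e ∧ coeff e b = 1)
    (hsat : ∀ a e, (∀ j : ℕ, a + j • e ∈ M) → e ∈ M)
    {G : MvPolynomial σ k} (hG : G ≠ 0) :
    ∀ h : MvPolynomial σ k, (∀ j : ℕ, G * h ^ j ∈ B) → h ∈ B := by
  intro h
  induction hd : m.toSyn (m.degree h) using WellFoundedLT.induction generalizing h with
  | ind s ih =>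
    intro hq
    by_cases h0 : h = 0
    · rw [h0]; exact B.zero_mem
    have he : m.degree h ∈ M := hsat (m.degree G) _ fun j => by
      have := hlead _ (hq j) (mul_ne_zero hG (pow_ne_zero _ h0))
      rwa [m.degree_mul hG (pow_ne_zero _ h0), m.degree_pow] at this
    obtain ⟨b, hb, hbd, hbc⟩ := hmon _ he
    set c := coeff (m.degree h) h
    have hcb : c • b ∈ B := B.smul_mem hb c
    have hq' : ∀ j : ℕ, G * (h - c • b) ^ j ∈ B := fun j => by
      rw [sub_eq_add_neg, add_pow, Finset.mul_sum]
      refine B.sum_mem fun i _ => ?_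
      have : G * (h ^ i * (-(c • b)) ^ (j - i) * (j.choose i : MvPolynomial σ k)) =
          (G * h ^ i) * ((-(c • b)) ^ (j - i) * (j.choose i : MvPolynomial σ k)) := by ring
      rw [this]
      exact B.mul_mem (hq i) (B.mul_mem (B.pow_mem (B.neg_mem hcb) _) (natCast_mem B _))
    suffices h - c • b ∈ B by simpa using B.add_mem this hcb
    by_cases h1 : h - c • b = 0
    · rw [h1]; exact B.zero_mem
    refine ih _ ?_ _ rfl hq'
    rw [← hd]
    have hle : m.toSyn (m.degree (h - c • b)) ≤ m.toSyn (m.degree h) :=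
      m.degree_sub_le.trans (sup_le le_rfl (m.degree_smul_le.trans (by rw [hbd])))
    refine lt_of_le_of_ne hle fun e => ?_
    have e' := m.toSyn.injective e
    apply m.coeff_degree_ne_zero_iff.2 h1
    rw [e', coeff_sub, coeff_smul, hbc, smul_eq_mul, mul_one, sub_self]

/-- Such a subalgebra is integrally closed. -/
theorem isIntegrallyClosed_of_almost_mem {k : Type u} [Field k] {σ : Type*}
    (B : Subalgebra k (MvPolynomial σ k))
    (hB : ∀ G : MvPolynomial σ k, G ≠ 0 → ∀ h : MvPolynomial σ k, (∀ j : ℕ, G * h ^ j ∈ B) → h ∈ B) :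
    IsIntegrallyClosed B := by
  let P := MvPolynomial σ k
  let L := FractionRing P
  refine (isIntegrallyClosed_iff (FractionRing B)).2 fun {x} hx => ?_
  let g : B →+* L := (algebraMap P L).comp B.val.toRingHom
  have hg : Function.Injective g := (IsFractionRing.injective P L).comp Subtype.val_injective
  let ι : FractionRing B →+* L := IsFractionRing.lift hg
  have hι : ∀ b : B, ι (algebraMap B (FractionRing B) b) = algebraMap P L b.1 := fun b =>
    IsFractionRing.lift_algebraMap hg b
  obtain ⟨h, hh⟩ : ∃ h : P, algebraMap P L h = ι x := by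
    refine (isIntegrallyClosed_iff L).1 inferInstance ?_
    obtain ⟨p, hp, hpx⟩ := hx
    refine ⟨p.map B.val.toRingHom, hp.map _, ?_⟩
    rw [Polynomial.eval₂_map]
    have := congrArg ι hpx
    rw [map_zero, Polynomial.hom_eval₂] at this
    rw [← this]
    congr 1
    exact RingHom.ext fun b => (hι b).symm
  obtain ⟨r, hr, hrn⟩ := hx.isAlmostIntegral
  have hr0 : (r : P) ≠ 0 := fun e => nonZeroDivisors.ne_zero hr (Subtype.ext e)
  have hmem : ∀ j : ℕ, (r : P) * h ^ j ∈ B := fun j => by
    obtain ⟨y, hy⟩ := hrn j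
    have e : algebraMap P L y.1 = algebraMap P L ((r : P) * h ^ j) := by
      rw [← hι, hy, Algebra.smul_def, map_mul, map_pow, hι, map_mul, map_pow, hh]
    rw [← IsFractionRing.injective P L e]
    exact y.2
  exact ⟨⟨h, hB _ hr0 h hmem⟩, ι.injective (by rw [hι, hh])⟩

variable {d n : ℕ}

/-- Column tail counts. -/
def tail (e : Vars d n →₀ ℕ) (t : Fin d) (i : ℕ) : ℕ :=
  ∑ j ∈ Finset.univ.filter (fun j : Fin n => i ≤ j.val), e (toLex (t, j))

/-- The saturated cone of leading exponents of the Schubert variety of `w`. -/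
def expCone (w : Idx d n) : Set (Vars d n →₀ ℕ) :=
  {e | (∀ t t' : Fin d, tail e t 0 = tail e t' 0) ∧
    (∀ t : Fin d, tail e t ((w.1 t).val + 1) = 0) ∧
    ∀ t t' : Fin d, t.val + 1 = t'.val → ∀ i : ℕ, tail e t i ≤ tail e t' (i + 1)}

theorem tail_add (a e : Vars d n →₀ ℕ) (t : Fin d) (i : ℕ) : tail (a + e) t i = tail a t i + tail e t i := by
  simp [tail, Finset.sum_add_distrib]

theorem tail_nsmul (e : Vars d n →₀ ℕ) (l : ℕ) (t : Fin d) (i : ℕ) : tail (l • e) t i = l * tail e t i := by
  simp [tail, Finset.mul_sum]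

theorem tail_antitone (e : Vars d n →₀ ℕ) (t : Fin d) {i i' : ℕ} (h : i ≤ i') : tail e t i' ≤ tail e t i :=
  Finset.sum_le_sum_of_subset fun j hj => by
    simp only [Finset.mem_filter, Finset.mem_univ, true_and] at hj ⊢; omega

theorem tail_top (e : Vars d n →₀ ℕ) (t : Fin d) {i : ℕ} (h : n ≤ i) : tail e t i = 0 :=
  Finset.sum_eq_zero fun j hj => by
    simp only [Finset.mem_filter, Finset.mem_univ, true_and] at hj
    omega

theorem tail_eq_add (e : Vars d n →₀ ℕ) (t : Fin d) (i : Fin n) :
    tail e t i.val = e (toLex (t, i)) + tail e t (i.val + 1) := by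
  rw [tail, tail, ← Finset.add_sum_erase _ _ (by simp : i ∈ Finset.univ.filter (fun j : Fin n => i.val ≤ j.val))]
  congr 1
  refine Finset.sum_congr ?_ fun _ _ => rfl
  ext j
  simp only [Finset.mem_erase, Finset.mem_filter, Finset.mem_univ, true_and, ne_eq, Fin.ext_iff]
  omega

theorem expCone_saturated (w : Idx d n) (a e : Vars d n →₀ ℕ) (h : ∀ j : ℕ, a + j • e ∈ expCone w) :
    e ∈ expCone w := by
  refine ⟨fun t t' => ?_, fun t => ?_, fun t t' htt i => ?_⟩
  · have h0 := (h 0).1 t t'
    have h1 := (h 1).1 t t'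
    simp only [tail_add, tail_nsmul] at h0 h1
    omega
  · have h1 := (h 1).2.1 t
    simp only [tail_add, tail_nsmul] at h1
    omega
  · have h1 := (h (tail a t' (i + 1) + 1)).2.2 t t' htt i
    simp only [tail_add, tail_nsmul] at h1
    by_contra hcon
    nlinarith

theorem tail_chainExp {m : ℕ} (c : Fin m → Idx d n) (t : Fin d) (i : ℕ) :
    tail (chainExp c) t i = (Finset.univ.filter fun k => i ≤ ((c k).1 t).val).card := by
  simp only [tail, chainExp_apply, Finset.card_filter]
  rw [Finset.sum_comm]
  refine Finset.sum_congr rfl fun k _ => ?_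
  rw [Finset.sum_ite_eq]
  simp

theorem chainExp_mem_expCone {w : Idx d n} {m : ℕ} (c : Fin m → Idx d n) (hc : ∀ k, c k ≤ w) :
    chainExp c ∈ expCone w := by
  refine ⟨fun t t' => ?_, fun t => ?_, fun t t' htt i => ?_⟩
  · simp [tail_chainExp]
  · rw [tail_chainExp, Finset.card_eq_zero, Finset.filter_eq_empty_iff]
    intro k _
    have := Fin.le_def.1 (hc k t)
    omega
  · simp only [tail_chainExp]
    refine Finset.card_le_card fun k hk => ?_
    simp only [Finset.mem_filter, Finset.mem_univ, true_and] at hk ⊢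
    have := Fin.lt_def.1 ((c k).2 (Fin.lt_def.2 (by omega) : t < t'))
    omega

theorem exists_chain_of_mem_expCone (hd : 0 < d) {w : Idx d n} {e : Vars d n →₀ ℕ} (he : e ∈ expCone w) :
    ∃ c : Chains d n, (∀ k, c.2.1 k ≤ w) ∧ chainExp c.2.1 = e := by
  classical
  obtain ⟨h1, h2, h3⟩ := he
  set m := tail e ⟨0, hd⟩ 0
  have hm : ∀ t, tail e t 0 = m := fun t => h1 _ _
  let v : Fin m → Fin d → ℕ := fun k t => Nat.findGreatest (fun i => k.val < tail e t i) n
  have hvs : ∀ k t, k.val < tail e t (v k t) := fun k t =>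
    Nat.findGreatest_spec (P := fun i => k.val < tail e t i) (Nat.zero_le n) (by rw [hm]; exact k.isLt)
  have hvn : ∀ k t, v k t < n := fun k t => by
    by_contra hcon
    have := hvs k t
    rw [tail_top e t (by omega)] at this
    omega
  have hiff : ∀ k t i, i ≤ v k t ↔ k.val < tail e t i := fun k t i => by
    refine ⟨fun hi => lt_of_lt_of_le (hvs k t) (tail_antitone e t hi), fun hlt => ?_⟩
    refine Nat.le_findGreatest ?_ hlt
    by_contra hcon
    rw [tail_top e t (by omega)] at hlt
    omega
  have hmono : ∀ k : Fin m, StrictMono fun t => (⟨v k t, hvn k t⟩ : Fin n) := fun k => by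
    intro a b hab
    rw [Fin.lt_def]
    simp only
    have key : ∀ l : ℕ, ∀ a b : Fin d, a.val + l + 1 = b.val → v k a < v k b := by
      intro l
      induction l with
      | zero =>
        intro a b hab
        have := (hiff k b _).2 (lt_of_lt_of_le (hvs k a) (h3 a b (by omega) _))
        omega
      | succ l ih =>
        intro a b hab
        have e1 := ih a ⟨a.val + l + 1, by omega⟩ rfl
        have e2 := (hiff k b _).2 (lt_of_lt_of_le (hvs k ⟨a.val + l + 1, by omega⟩)
          (h3 ⟨a.val + l + 1, by omega⟩ b (by simp; omega) _))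
        omega
    exact key (b.val - a.val - 1) a b (by rw [Fin.lt_def] at hab; omega)
  let c : Fin m → Idx d n := fun k => ⟨_, hmono k⟩
  have hc : Antitone c := fun a b hab t => by
    rw [Fin.le_def]
    exact (hiff a t _).2 (lt_of_le_of_lt hab (hvs b t))
  refine ⟨⟨m, c, hc⟩, fun k t => ?_, ?_⟩
  · rw [Fin.le_def]
    by_contra hcon
    have := (hiff k t ((w.1 t).val + 1)).1 (by simp only [c] at hcon; omega)
    rw [h2] at this
    omega
  · ext x
    obtain ⟨⟨t, i⟩, rfl⟩ := toLex.surjective x
    have ht : ∀ i, tail (chainExp c) t i = tail e t i := fun i => by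
      rw [tail_chainExp, Finset.filter_congr fun k _ => hiff k t i, Fin.card_filter_val_lt,
        min_eq_right ((tail_antitone e t (Nat.zero_le i)).trans (hm t).le)]
    have e1 := tail_eq_add (chainExp c) t i
    have e2 := tail_eq_add e t i
    rw [ht, ht] at e1
    show chainExp c (toLex (t, i)) = e (toLex (t, i))
    omega

variable {k : Type u} [Field k]

theorem degree_mem_expCone (hd : 0 < d) (w : Idx d n) {f : PlRing k d n}
    (hf : res k (botIdx (le_of_idx w)) w f ≠ 0) :
    (ord d n).degree (res k (botIdx (le_of_idx w)) w f) ∈ expCone w := by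
  classical
  set lo := botIdx (le_of_idx w)
  obtain ⟨a, ha⟩ := exists_repr f
  have h1 := res_eq_zero_of_mem_plIdealTop lo w ha
  rw [map_sub, sub_eq_zero, Finsupp.linearCombination_apply, map_finsuppSum, Finsupp.sum] at h1
  simp only [map_smul] at h1
  let T := a.support.filter fun c => ∀ i, c.2.1 i ≤ w
  have h2 : res k lo w f = ∑ c ∈ T, a c • res k lo w (cmon k c) := by
    rw [h1, Finset.sum_filter_of_ne]
    intro c _ hne i
    by_contra hi
    exact hne (by rw [cmon, res_chainMon_eq_zero _ fun h => hi h.2, smul_zero])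
  have hT : T.Nonempty := by
    by_contra hne
    rw [Finset.not_nonempty_iff_eq_empty] at hne
    exact hf (by rw [h2, hne, Finset.sum_empty])
  obtain ⟨c₀, hc₀, hmax⟩ := T.exists_max_image (fun c => (ord d n).toSyn (chainExp c.2.1)) hT
  have hlead : ∀ c ∈ T, (ord d n).degree (res k lo w (cmon k c)) = chainExp c.2.1 ∧
      (ord d n).Monic (res k lo w (cmon k c)) := fun c hc =>
    res_chainMon_leading _ fun i => ⟨botIdx_le _ _, (Finset.mem_filter.1 hc).2 i⟩
  have hcoeff : coeff (chainExp c₀.2.1) (res k lo w f) = a c₀ := by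
    rw [h2, coeff_sum, Finset.sum_eq_single c₀]
    · rw [coeff_smul, ← (hlead c₀ hc₀).1, (hlead c₀ hc₀).2.coeff_degree, smul_eq_mul, mul_one]
    · intro c hc hne
      rw [coeff_smul, (ord d n).coeff_eq_zero_of_lt, smul_zero]
      rw [(hlead c hc).1]
      refine lt_of_le_of_ne (hmax c hc) fun e => hne ?_
      obtain ⟨m, c, hcc⟩ := c
      obtain ⟨m', c', hcc'⟩ := c₀
      obtain ⟨rfl, rfl⟩ := chainExp_injective hd hcc hcc' ((ord d n).toSyn.injective e)
      rfl
    · exact fun h => absurd hc₀ h
  have hdeg : (ord d n).degree (res k lo w f) = chainExp c₀.2.1 := by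
    apply (ord d n).toSyn.injective
    refine le_antisymm ?_ ((ord d n).le_degree (mem_support_iff.2 ?_))
    · rw [h2]
      refine ((ord d n).degree_sum_le ..).trans (Finset.sup_le fun c hc => ?_)
      refine (ord d n).degree_smul_le.trans ?_
      rw [(hlead c hc).1]
      exact hmax c hc
    · rw [hcoeff]; exact Finsupp.mem_support_iff.1 (Finset.mem_filter.1 hc₀).1
  rw [hdeg]
  exact chainExp_mem_expCone _ (Finset.mem_filter.1 hc₀).2

theorem isIntegrallyClosed_schubert [Infinite k] (hd : 0 < d) (w : Idx d n) :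
    IsDomain (PlRing k d n ⧸ schubertVanishing k d n w) ∧
      IsIntegrallyClosed (PlRing k d n ⧸ schubertVanishing k d n w) := by
  set φ := res k (botIdx (le_of_idx w)) w
  let e : (PlRing k d n ⧸ schubertVanishing k d n w) ≃+* φ.range :=
    (Ideal.quotEquivOfEq (schubertVanishing_eq_ker hd w)).trans (Ideal.quotientKerEquivRange φ).toRingEquiv
  haveI : IsIntegrallyClosed φ.range := by
    refine isIntegrallyClosed_of_almost_mem φ.range fun G hG =>
      mem_of_almost_mem (ord d n) φ.range (expCone w) ?_ ?_ (expCone_saturated w) hG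
    · rintro _ ⟨f, rfl⟩ hf
      exact degree_mem_expCone hd w hf
    · intro x hx
      obtain ⟨c, hc, rfl⟩ := exists_chain_of_mem_expCone hd hx
      have := res_chainMon_leading (K := k) (lo := botIdx (le_of_idx w)) (hi := w) c.2.1
        fun i => ⟨botIdx_le _ _, hc i⟩
      exact ⟨_, ⟨chainMon k c.2.1, rfl⟩, this.1, by rw [← this.1]; exact this.2.coeff_degree⟩
  exact ⟨MulEquiv.isDomain φ.range e.toMulEquiv, IsIntegrallyClosed.of_equiv e.symm⟩

end Groth.Agent.SMT
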