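import Mathlib
import Groth.Agent.SMT.Normal

/-!
# Dimension of Schubert varieties

The upper bound comes from counting standard monomials: at most `(M+1)^(codeg w + 1)` of them have degree
`≤ M`, so there are at most `codeg w + 1` algebraically independent elements.  The lower bound is the chain of
prime ideals of the Richardson varieties `X(w) ∩ X^θ` along a saturated chain of indices.
-/

open MvPolynomial MonomialOrder

namespace Groth.Agent.SMT

open W4bk4grassmannian

universe u

theorem ringKrullDim_le_of_isIntegral {P B : Type*} [CommRing P] [CommRing B] [Algebra P B]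
    [Algebra.IsIntegral P B] : ringKrullDim B ≤ ringKrullDim P := by
  refine Order.krullDim_le_of_strictMono (fun p : PrimeSpectrum B => PrimeSpectrum.comap (algebraMap P B) p)
    fun p q hpq => ?_
  obtain ⟨x, hxq, hxp⟩ := SetLike.exists_of_lt (show p.asIdeal < q.asIdeal from hpq)
  exact Ideal.comap_lt_comap_of_integral_mem_sdiff hpq.le ⟨hxq, hxp⟩ (Algebra.IsIntegral.isIntegral x)

/-- Polynomially bounded growth bounds the dimension. -/
theorem ringKrullDim_le_of_growth {k : Type u} [Field k] {ι : Type*} {R : Type u} [CommRing R] [IsDomain R]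
    [Algebra k R] (φ : MvPolynomial ι k →ₐ[k] R) (hφ : Function.Surjective φ) (W : ℕ → Submodule k R)
    (N : ℕ) [∀ M, Module.Finite k (W M)] (hW : ∀ M, Module.finrank k (W M) ≤ (M + 1) ^ N)
    (hmem : ∀ M (f : MvPolynomial ι k), f.totalDegree ≤ M → φ f ∈ W M) [Algebra.FiniteType k R] :
    ringKrullDim R ≤ N := by
  obtain ⟨s, g, hg, hi⟩ := exists_integral_inj_algHom_of_fg k R
  letI := g.toRingHom.toAlgebra
  haveI : Algebra.IsIntegral (MvPolynomial (Fin s) k) R := ⟨hi⟩
  refine (ringKrullDim_le_of_isIntegral (P := MvPolynomial (Fin s) k)).trans ?_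
  rw [MvPolynomial.ringKrullDim_of_isNoetherianRing, ringKrullDim_eq_zero_of_field, zero_add, Nat.card_fin]
  suffices s ≤ N by exact_mod_cast this
  by_contra hcon
  choose f hf using fun i => hφ (g (X i))
  set D := ∑ i, (f i).totalDegree
  set L := (s * D + 1) ^ N + 1
  have hLI : LinearIndependent k fun a : Fin s → Fin L => g (∏ i, X i ^ (a i).val) := by
    refine LinearIndependent.map' ?_ g.toLinearMap (LinearMap.ker_eq_bot.2 hg)
    have e : (fun a : Fin s → Fin L => (∏ i, X i ^ (a i).val : MvPolynomial (Fin s) k)) =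
        (fun e => monomial e (1 : k)) ∘ fun a => Finsupp.equivFunOnFinite.symm fun i => (a i).val := by
      funext a
      simp only [Function.comp_apply]
      rw [monomial_eq, C_1, one_mul, Finsupp.prod_fintype _ _ (by simp)]
      rfl
    rw [e]
    refine LinearIndependent.comp (by simpa using (basisMonomials (Fin s) k).linearIndependent) _ fun a b hab => ?_
    funext i
    exact Fin.ext (congrFun (Finsupp.equivFunOnFinite.symm.injective hab) i)
  have hmemW : ∀ a : Fin s → Fin L, g (∏ i, X i ^ (a i).val) ∈ W (s * D * L) := fun a => by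
    have : φ (∏ i, f i ^ (a i).val) = g (∏ i, X i ^ (a i).val) := by simp [map_prod, hf]
    rw [← this]
    refine hmem _ _ ((totalDegree_finset_prod _ _).trans ?_)
    calc ∑ i, (f i ^ (a i).val).totalDegree ≤ ∑ _i : Fin s, L * D := Finset.sum_le_sum fun i _ =>
          (totalDegree_pow _ _).trans (Nat.mul_le_mul (a i).isLt.le
            (Finset.single_le_sum (f := fun i => (f i).totalDegree) (fun _ _ => Nat.zero_le _) (Finset.mem_univ i)))
      _ = s * D * L := by simp; ring
  have hcard : L ^ s ≤ Module.finrank k (W (s * D * L)) := by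
    have := (LinearIndependent.of_comp (W (s * D * L)).subtype
      (v := fun a : Fin s → Fin L => (⟨_, hmemW a⟩ : W (s * D * L))) hLI).fintype_card_le_finrank
    simpa using this
  have h1 : L ^ (N + 1) ≤ L ^ N * (s * D + 1) ^ N :=
    (Nat.pow_le_pow_right (by omega) (by omega)).trans <| hcard.trans <| (hW _).trans <| by
      rw [← Nat.mul_pow]
      refine Nat.pow_le_pow_left ?_ _
      have : 1 ≤ L := by omega
      nlinarith
  rw [pow_succ] at h1
  have := Nat.le_of_mul_le_mul_left h1 (Nat.pow_pos (by omega))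
  omega

variable {d n : ℕ}

/-- Free coordinates of the exponent of a chain below `w`. -/
abbrev FreeVars (w : Idx d n) : Type := Σ t : Fin d, {i : Fin n // t.val < i.val ∧ i.val ≤ (w.1 t).val}

theorem card_freeVars (w : Idx d n) : Fintype.card (FreeVars w) = codeg w := by
  classical
  rw [Fintype.card_sigma, codeg]
  refine Finset.sum_congr rfl fun t _ => ?_
  rw [Fintype.card_subtype]
  have : (Finset.univ.filter fun i : Fin n => t.val < i.val ∧ i.val ≤ (w.1 t).val) =
      Finset.Ioc (⟨t.val, lt_of_lt_of_le t.isLt (le_of_idx w)⟩ : Fin n) (w.1 t) := by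
    ext i; rw [Finset.mem_filter, Finset.mem_Ioc, Fin.lt_def, Fin.le_def]; exact ⟨fun h => h.2, fun h => ⟨Finset.mem_univ _, h⟩⟩
  rw [this, Fin.card_Ioc]

/-- Chains below `w` of length at most `M`. -/
abbrev ShortChains (w : Idx d n) (M : ℕ) : Type := {c : Chains d n // c.1 ≤ M ∧ ∀ k, c.2.1 k ≤ w}

/-- Coordinates of a short chain. -/
noncomputable def coords {w : Idx d n} {M : ℕ} (c : ShortChains w M) : Option (FreeVars w) → Fin (M + 1)
  | none => ⟨c.1.1, Nat.lt_succ_of_le c.2.1⟩
  | some x => ⟨chainExp c.1.2.1 (toLex (x.1, x.2.1)), by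
      rw [chainExp_apply]
      refine Nat.lt_succ_of_le (le_trans ?_ c.2.1)
      simpa using Finset.card_le_univ (Finset.univ.filter fun k => (c.1.2.1 k).1 x.1 = x.2.1)⟩

theorem coords_injective (hd : 0 < d) {w : Idx d n} {M : ℕ} : Function.Injective (coords (w := w) (M := M)) := by
  classical
  rintro ⟨⟨m, c, hc⟩, hm, hcw⟩ ⟨⟨m', c', hc'⟩, hm', hcw'⟩ h
  have h0 : m = m' := congrArg Fin.val (congrFun h none)
  subst h0
  have hdn := le_of_idx w
  have key : chainExp c = chainExp c' := by
    ext x
    obtain ⟨⟨t, i⟩, rfl⟩ := toLex.surjective x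
    show chainExp c (toLex (t, i)) = chainExp c' (toLex (t, i))
    have hoff : ∀ (e : Fin m → Idx d n), (∀ k, e k ≤ w) → ∀ j : Fin n,
        ¬ (t.val ≤ j.val ∧ j.val ≤ (w.1 t).val) → chainExp e (toLex (t, j)) = 0 := fun e he j hj => by
      rw [chainExp_apply, Finset.card_eq_zero, Finset.filter_eq_empty_iff]
      intro k _ hk
      have h1 := Fin.le_def.1 (he k t)
      have h2 := Fin.le_def.1 (botIdx_le hdn (e k) t)
      simp only [botIdx] at h2
      exact hj ⟨hk ▸ h2, hk ▸ h1⟩
    have hfree : ∀ j : Fin n, j.val ≠ t.val → chainExp c (toLex (t, j)) = chainExp c' (toLex (t, j)) := fun j hj => by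
      by_cases hin : t.val ≤ j.val ∧ j.val ≤ (w.1 t).val
      · exact congrArg Fin.val (congrFun h (some ⟨t, j, by omega, hin.2⟩))
      · rw [hoff c hcw j hin, hoff c' hcw' j hin]
    by_cases hi : i.val = t.val
    · have hsum : ∀ e : Fin m → Idx d n, ∑ j, chainExp e (toLex (t, j)) = m := fun e => by
        simp only [chainExp_apply]
        rw [← Finset.card_eq_sum_card_fiberwise fun _ _ => Finset.mem_univ _]
        simp
      have e1 := (hsum c).trans (hsum c').symm
      rw [← Finset.add_sum_erase _ _ (Finset.mem_univ i), ← Finset.add_sum_erase _ _ (Finset.mem_univ i),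
        Finset.sum_congr rfl fun j hj => hfree j fun e => (Finset.ne_of_mem_erase hj) (Fin.ext (by omega))] at e1
      omega
    · exact hfree i hi
  obtain ⟨-, rfl⟩ := chainExp_injective hd hc hc' key
  rfl

variable {k : Type u} [Field k]

/-- The quotient map to the coordinate ring of a Schubert variety. -/
noncomputable abbrev proj (k : Type u) [Field k] (w : Idx d n) :
    PlRing k d n →ₐ[k] PlRing k d n ⧸ schubertVanishing k d n w :=
  Ideal.Quotient.mkₐ k _

theorem proj_mem_span_short (w : Idx d n) {M : ℕ} {f : PlRing k d n} (hf : f.totalDegree ≤ M) :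
    proj k w f ∈ Submodule.span k (Set.range fun c : ShortChains w M => proj k w (cmon k c.1)) := by
  classical
  rw [f.as_sum, map_sum]
  refine Submodule.sum_mem _ fun e he => ?_
  rw [show monomial e (coeff e f) = coeff e f • mon k (Finsupp.toMultiset e) by
    rw [monomial_eq, smul_eq_C_mul, mon, Finsupp.toMultiset_map, Finsupp.prod_toMultiset]
    congr 1
    rw [Finsupp.prod_mapDomain_index (by simp) (by simp [pow_add])], map_smul]
  refine Submodule.smul_mem _ _ ?_
  have hkill : ∀ (i j : Idx d n) (r : Fin d) (g : PlRing k d n), IsPivot i j r →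
      (proj k w).toLinearMap (shuffleRel k i j r * g) = 0 := fun i j r g h =>
    Ideal.Quotient.eq_zero_iff_mem.2
      (Ideal.mul_mem_right _ _ (plIdeal_le_schubertVanishing w (Ideal.subset_span (Or.inl ⟨i, j, r, h, rfl⟩))))
  refine Submodule.span_le.2 ?_ (mem_span_std (proj k w).toLinearMap hkill _ (Finsupp.toMultiset e) (Nat.le_add_left _ _))
  rintro _ ⟨t, ⟨ht, hcard, -⟩, rfl⟩
  obtain ⟨m, c, hc, rfl⟩ := exists_monotone_of_isStd t ht
  show (proj k w).toLinearMap (mon k (Multiset.map c Finset.univ.val)) ∈ _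
  rw [mon_map]
  by_cases hcw : ∀ i, c i ≤ w
  · refine Submodule.subset_span ⟨⟨⟨m, c, hc⟩, ?_, hcw⟩, rfl⟩
    rw [Multiset.card_map, Finset.card_val, Finset.card_univ, Fintype.card_fin] at hcard
    rw [show (⟨m, c, hc⟩ : Chains d n).1 = m from rfl, hcard, Finsupp.card_toMultiset]
    exact (MvPolynomial.le_totalDegree he).trans hf
  · obtain ⟨i, hi⟩ := not_forall.1 hcw
    show proj k w (cmon k ⟨m, c, hc⟩) ∈ _
    rw [show proj k w (cmon k ⟨m, c, hc⟩) = 0 from Ideal.Quotient.eq_zero_iff_mem.2
      (plIdeal_le_schubertVanishing w (cmon_mem_plIdeal ⟨m, c, hc⟩ hi))]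
    exact Submodule.zero_mem _

theorem ringKrullDim_schubert_le [Infinite k] (hd : 0 < d) (w : Idx d n) :
    ringKrullDim (PlRing k d n ⧸ schubertVanishing k d n w) ≤ (codeg w + 1 : ℕ) := by
  classical
  haveI := (isIntegrallyClosed_schubert (k := k) hd w).1
  haveI : ∀ M, Finite (ShortChains w M) := fun M => Finite.of_injective _ (coords_injective hd)
  haveI : Algebra.FiniteType k (PlRing k d n ⧸ schubertVanishing k d n w) :=
    Algebra.FiniteType.of_surjective (proj k w) (Ideal.Quotient.mkₐ_surjective k _)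
  let W : ℕ → Submodule k (PlRing k d n ⧸ schubertVanishing k d n w) := fun M =>
    Submodule.span k (Set.range fun c : ShortChains w M => proj k w (cmon k c.1))
  haveI : ∀ M, Module.Finite k (W M) := fun M => Module.Finite.span_of_finite k (Set.finite_range _)
  refine ringKrullDim_le_of_growth (proj k w) (Ideal.Quotient.mkₐ_surjective k _) W _
    (fun M => ?_) fun M f hf => proj_mem_span_short w hf
  haveI := Fintype.ofFinite (ShortChains w M)
  refine (finrank_range_le_card _).trans ?_
  refine (Fintype.card_le_of_injective _ (coords_injective hd)).trans ?_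
  rw [Fintype.card_fun, Fintype.card_option, card_freeVars, Fintype.card_fin]

/-- The prime ideal of the Richardson variety `[θ, w]`. -/
noncomputable def richardson (k : Type u) [Field k] (θ w : Idx d n) : Ideal (PlRing k d n) :=
  RingHom.ker (res k θ w).toRingHom

theorem richardson_mono [Infinite k] (hd : 0 < d) {θ θ' w : Idx d n} (h : θ ≤ θ') :
    richardson k θ w ≤ richardson k θ' w := by
  intro f hf
  obtain ⟨a, ha⟩ := exists_repr f
  have h1 := res_eq_zero_of_mem_plIdealTop θ w ha
  rw [map_sub, (show res k θ w f = 0 from hf), zero_sub, neg_eq_zero] at h1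
  have h2 := res_eq_zero_of_mem_plIdealTop θ' w ha
  rw [map_sub, Finsupp.linearCombination_apply, map_finsuppSum] at h2
  show res k θ' w f = 0
  rw [sub_eq_zero.1 h2]
  refine Finset.sum_eq_zero fun c _ => ?_
  simp only [map_smul]
  by_cases hc : ∀ i, θ' ≤ c.2.1 i ∧ c.2.1 i ≤ w
  · rw [coeff_eq_zero_of_res_eq_zero hd θ w a h1 c fun i => ⟨h.trans (hc i).1, (hc i).2⟩, zero_smul]
  · obtain ⟨i, hi⟩ := not_forall.1 hc
    rw [cmon, res_chainMon_eq_zero _ hi, smul_zero]

theorem X_notMem_richardson {θ φ w : Idx d n} (h1 : θ ≤ φ) (h2 : φ ≤ w) :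
    (X φ : PlRing k d n) ∉ richardson k θ w := fun h =>
  (res_X_leading (K := k) h1 h2).2.ne_zero h

theorem X_mem_richardson {θ φ w : Idx d n} (h : ¬ θ ≤ φ) : (X φ : PlRing k d n) ∈ richardson k θ w :=
  res_X_eq_zero fun hh => h hh.1

theorem exists_series (w : Idx d n) :
    ∃ s : LTSeries (Idx d n), s.last = w ∧ s.length = codeg w := by
  induction h : codeg w generalizing w with
  | zero => exact ⟨RelSeries.singleton _ w, rfl, rfl⟩
  | succ m ih =>
    have hne : botIdx (le_of_idx w) < w := lt_of_le_of_ne (botIdx_le _ w) fun e => by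
      rw [← e] at h; simp [codeg, botIdx] at h
    obtain ⟨φ, ⟨hlt, hcod⟩, -⟩ := exists_divisor_ge hne
    obtain ⟨s, hs, hlen⟩ := ih φ (by omega)
    exact ⟨s.snoc w (by rw [hs]; exact hlt), RelSeries.last_snoc .., by simp [hlen]⟩

theorem codeg_add_one_le_ringKrullDim [Infinite k] (hd : 0 < d) (w : Idx d n) :
    ((codeg w + 1 : ℕ) : WithBot ℕ∞) ≤ ringKrullDim (PlRing k d n ⧸ schubertVanishing k d n w) := by
  classical
  set J := schubertVanishing k d n w
  obtain ⟨s, hlast, hlen⟩ := exists_series w
  have hle : ∀ i, s i ≤ w := fun i => hlast ▸ s.monotone (Fin.le_last i)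
  have hJ : ∀ θ : Idx d n, J ≤ richardson k θ w := fun θ f hf => res_eq_zero_of_mem_schubertVanishing θ hf
  let P : Fin (s.length + 2) → Ideal (PlRing k d n) :=
    Fin.snoc (fun i => richardson k (s i) w) (RingHom.ker (constantCoeff : PlRing k d n →+* k))
  have hmax : ∀ θ ≤ w, richardson k θ w < RingHom.ker (constantCoeff : PlRing k d n →+* k) := fun θ hθ => by
    refine SetLike.lt_iff_le_and_exists.2 ⟨fun f hf => ?_, X w, by simp, X_notMem_richardson hθ le_rfl⟩
    rw [RingHom.mem_ker]
    obtain ⟨a, ha⟩ := exists_repr f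
    have h1 := res_eq_zero_of_mem_plIdealTop θ w ha
    rw [map_sub, (show res k θ w f = 0 from hf), zero_sub, neg_eq_zero] at h1
    have h2 : ∀ g ∈ plIdealTop (d := d) (n := n) k, constantCoeff g = 0 := fun g hg => by
      refine (show plIdealTop k ≤ RingHom.ker (constantCoeff : PlRing k d n →+* k) from Ideal.span_le.2 ?_) hg
      rintro _ ⟨i, j, r, -, rfl⟩
      rw [SetLike.mem_coe, RingHom.mem_ker, shuffleRel, map_sum]
      refine Finset.sum_eq_zero fun A _ => ?_
      unfold shuffleTerm coord
      split_ifs <;> simp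
    have h3 := h2 _ ha
    rw [map_sub, sub_eq_zero] at h3
    rw [h3, Finsupp.linearCombination_apply, map_finsuppSum]
    refine Finset.sum_eq_zero fun c _ => ?_
    simp only [smul_eq_C_mul, map_mul, constantCoeff_C]
    rcases Nat.eq_zero_or_pos c.1 with h0 | h0
    · rw [coeff_eq_zero_of_res_eq_zero hd θ w a h1 c fun i => absurd i.isLt (by omega), zero_mul]
    · rw [cmon, chainMon, map_prod, Finset.prod_eq_zero (Finset.mem_univ ⟨0, h0⟩) (constantCoeff_X _ _), mul_zero]
  have hstep : ∀ i : Fin (s.length + 1), P i.castSucc < P i.succ := fun i => by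
    rcases Fin.eq_castSucc_or_eq_last i with ⟨j, rfl⟩ | rfl
    · simp only [P, Fin.succ_castSucc, Fin.snoc_castSucc]
      refine SetLike.lt_iff_le_and_exists.2 ⟨richardson_mono hd (s.step j).le, X (s j.castSucc),
        X_mem_richardson (s.step j).not_ge, X_notMem_richardson le_rfl (hle _)⟩
    · simp only [P, Fin.succ_last, Fin.snoc_castSucc, Fin.snoc_last]
      exact hmax _ (hle _)
  have hJP : ∀ i, J ≤ P i := fun i => by
    rcases Fin.eq_castSucc_or_eq_last i with ⟨j, rfl⟩ | rfl
    · simpa [P] using hJ (s j)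
    · simpa [P] using (hJ w).trans (hmax w le_rfl).le
  have hprime : ∀ i, (P i).IsPrime := fun i => by
    rcases Fin.eq_castSucc_or_eq_last i with ⟨j, rfl⟩ | rfl
    · simpa [P, richardson] using RingHom.ker_isPrime (res k (s j) w).toRingHom
    · simpa [P] using RingHom.ker_isPrime (constantCoeff : PlRing k d n →+* k)
  let Q : Fin (s.length + 2) → PrimeSpectrum (PlRing k d n ⧸ J) := fun i =>
    ⟨(P i).map (Ideal.Quotient.mk J),
      haveI := hprime i
      Ideal.map_isPrime_of_surjective Ideal.Quotient.mk_surjective (by rw [Ideal.mk_ker]; exact hJP i)⟩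
  have hQ : ∀ i : Fin (s.length + 1), Q i.castSucc < Q i.succ := fun i => by
    show (P i.castSucc).map (Ideal.Quotient.mk J) < (P i.succ).map (Ideal.Quotient.mk J)
    refine lt_of_le_of_ne (Ideal.map_mono (hstep i).le) fun e => (hstep i).ne ?_
    have := congrArg (Ideal.comap (Ideal.Quotient.mk J)) e
    rwa [Ideal.comap_map_mk (hJP _), Ideal.comap_map_mk (hJP _)] at this
  have := Order.LTSeries.length_le_krullDim (⟨s.length + 1, Q, hQ⟩ : LTSeries (PrimeSpectrum (PlRing k d n ⧸ J)))
  rw [← hlen]
  exact this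

theorem ringKrullDim_schubert [Infinite k] (hd : 0 < d) (w : Idx d n) :
    ringKrullDim (PlRing k d n ⧸ schubertVanishing k d n w) = (codeg w + 1 : ℕ) :=
  le_antisymm (ringKrullDim_schubert_le hd w) (codeg_add_one_le_ringKrullDim hd w)

end Groth.Agent.SMT
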