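import Mathlib
import Groth.Agent.SMT.Schubert

/-!
# The shape of the straightening relation of a skew pair
-/

open MvPolynomial MonomialOrder

namespace Groth.Agent.SMT

open W4bk4grassmannian

universe u

variable {K : Type u} [CommRing K] {d n : ℕ}

/-- The chain of a comparable pair. -/
def pairChain (α β : Idx d n) (h : β ≤ α) : Chains d n :=
  ⟨2, ![α, β], by
    intro a b hab
    fin_cases a <;> fin_cases b <;> simp_all [Fin.le_def]⟩

theorem inf_le_sup' (τ φ : Idx d n) : W4bk4grassmannian.inf τ φ ≤ W4bk4grassmannian.sup τ φ :=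
  fun _ => min_le_max

theorem diagExp_sup_add_inf (τ φ : Idx d n) :
    diagExp (W4bk4grassmannian.sup τ φ) + diagExp (W4bk4grassmannian.inf τ φ) = diagExp τ + diagExp φ := by
  ext v
  obtain ⟨⟨t, i⟩, rfl⟩ := toLex.surjective v
  simp only [Finsupp.add_apply, diagExp_apply]
  rcases le_total (τ.1 t) (φ.1 t) with h | h
  · simp only [W4bk4grassmannian.sup, W4bk4grassmannian.inf, max_eq_right h, min_eq_left h]; ring
  · simp only [W4bk4grassmannian.sup, W4bk4grassmannian.inf, max_eq_left h, min_eq_right h]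

theorem cmon_pairChain (α β : Idx d n) (h : β ≤ α) : cmon K (pairChain α β h) = X α * X β := by
  show ∏ x : Fin 2, X (![α, β] x) = _
  simp [Fin.prod_univ_two]

theorem chainExp_pairChain (α β : Idx d n) (h : β ≤ α) :
    chainExp (pairChain α β h).2.1 = diagExp α + diagExp β := by
  show ∑ x : Fin 2, diagExp (![α, β] x) = _
  simp [Fin.sum_univ_two]

theorem S_sup_add_inf (τ φ : Idx d n) :
    S (W4bk4grassmannian.sup τ φ) + S (W4bk4grassmannian.inf τ φ) = S τ + S φ := by
  simp only [S, ← Finset.sum_add_distrib]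
  refine Finset.sum_congr rfl fun t _ => ?_
  rcases le_total (τ.1 t) (φ.1 t) with h | h
  · simp only [W4bk4grassmannian.sup, W4bk4grassmannian.inf, max_eq_right h, min_eq_left h]; ring
  · simp only [W4bk4grassmannian.sup, W4bk4grassmannian.inf, max_eq_left h, min_eq_right h]

theorem eq_of_le_of_S_eq {α β : Idx d n} (h : α ≤ β) (hS : S α = S β) : α = β := by
  refine Subtype.ext (funext fun t => ?_)
  have := (Finset.sum_eq_sum_iff_of_le fun t _ => Fin.le_def.1 (h t)).1 hS t (Finset.mem_univ _)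
  exact Fin.ext this

theorem S_lt_of_lt {α β : Idx d n} (h : α < β) : S α < S β := by
  refine lt_of_le_of_ne (Finset.sum_le_sum fun t _ => Fin.le_def.1 (h.le t)) fun he => h.ne (eq_of_le_of_S_eq h.le he)

/-- Straightening a skew pair: the leading term is `(sup, inf)`, the others are strictly outside, with
smaller leading exponent. -/
theorem straighten_pair [IsDomain K] (hd : 0 < d) {τ φ : Idx d n} (h₁ : ¬ τ ≤ φ) (h₂ : ¬ φ ≤ τ) :
    ∃ b : Chains d n →₀ K,
      (∀ c ∈ b.support, ∃ (α β : Idx d n) (h : β ≤ α), c = pairChain α β h ∧ W4bk4grassmannian.sup τ φ < α ∧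
        β < W4bk4grassmannian.inf τ φ ∧ S α + S β = S τ + S φ ∧ diagExp α + diagExp β ≺[ord d n] diagExp τ + diagExp φ) ∧
      X τ * X φ - (X (W4bk4grassmannian.sup τ φ) * X (W4bk4grassmannian.inf τ φ) +
        Finsupp.linearCombination K (cmon K) b) ∈ plIdealTop K := by
  classical
  set J := plIdealTop (d := d) (n := n) K
  set Φ := (Ideal.Quotient.mkₐ K J).toLinearMap
  set P : Set (Chains d n) := {c | c.1 = 2 ∧ (∑ i, S (c.2.1 i)) = S τ + S φ}
  have hspan : Φ (X τ * X φ) ∈ Submodule.span K ((fun c => Φ (cmon K c)) '' P) := by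
    have h := mem_span_std Φ (fun i j r g h => Ideal.Quotient.eq_zero_iff_mem.2
      (Ideal.mul_mem_right _ _ (Ideal.subset_span ⟨i, j, r, h, rfl⟩))) _ (τ ::ₘ φ ::ₘ 0) (Nat.le_add_left _ _)
    rw [show mon K (τ ::ₘ φ ::ₘ 0) = X τ * X φ by simp [mon]] at h
    refine Submodule.span_le.2 ?_ h
    rintro _ ⟨t, ⟨ht, hcard, hS⟩, rfl⟩
    obtain ⟨m, c, hc, rfl⟩ := exists_monotone_of_isStd t ht
    refine Submodule.subset_span ⟨⟨m, c, hc⟩, ⟨?_, ?_⟩, congrArg Φ (mon_map c).symm⟩
    · simpa using hcard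
    · rw [Multiset.map_map] at hS
      simpa [Finset.sum, Function.comp_def] using hS
  obtain ⟨a, haP, ha⟩ := (Finsupp.mem_span_image_iff_linearCombination K).1 hspan
  have hmem : X τ * X φ - Finsupp.linearCombination K (cmon K) a ∈ J := by
    refine Ideal.Quotient.eq.1 ?_
    show Φ _ = Φ _
    rw [← ha, Finsupp.linearCombination_apply, Finsupp.linearCombination_apply, map_finsuppSum]
    exact Finsupp.sum_congr fun c _ => (map_smul Φ _ _).symm
  have hres : ∀ lo hi : Idx d n, res K lo hi (X τ) * res K lo hi (X φ) =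
      res K lo hi (Finsupp.linearCombination K (cmon K) a) := fun lo hi => by
    have := res_eq_zero_of_mem_plIdealTop lo hi hmem
    rw [map_sub, map_mul, sub_eq_zero] at this
    exact this
  set σ₁ := W4bk4grassmannian.sup τ φ with hσ₁
  set σ₂ := W4bk4grassmannian.inf τ φ with hσ₂
  set c₀ : Chains d n := pairChain σ₁ σ₂ (inf_le_sup' τ φ)
  have hshape : ∀ c ∈ a.support, c = c₀ ∨ ∃ (α β : Idx d n) (h : β ≤ α), c = pairChain α β h ∧ σ₁ < α ∧ β < σ₂ ∧ S α + S β = S τ + S φ := by
    intro c hc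
    obtain ⟨h2, hS⟩ : c.1 = 2 ∧ (∑ i, S (c.2.1 i)) = S τ + S φ := (Finsupp.mem_supported K a).1 haP hc
    obtain ⟨m, cf, hcf⟩ := c
    change m = 2 at h2
    subst h2
    set α := cf 0
    set β := cf 1
    have hβα : β ≤ α := hcf (show (0 : Fin 2) ≤ 1 by decide)
    have hceq : (⟨2, cf, hcf⟩ : Chains d n) = pairChain α β hβα := by
      refine congrArg (Sigma.mk 2) (Subtype.ext (funext fun i => ?_))
      fin_cases i <;> rfl
    have hbounds : (β ≤ τ ∧ τ ≤ α) ∧ (β ≤ φ ∧ φ ≤ α) := by
      by_contra hcon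
      have hz : res K β α (X τ) * res K β α (X φ) = 0 := by
        rcases not_and_or.1 hcon with h | h
        · rw [res_X_eq_zero h, zero_mul]
        · rw [res_X_eq_zero h, mul_zero]
      rw [hres] at hz
      exact Finsupp.mem_support_iff.1 hc (coeff_eq_zero_of_res_eq_zero hd β α a hz _ fun i => by
        fin_cases i <;> exact ⟨by first | exact hβα | exact le_rfl, by first | exact hβα | exact le_rfl⟩)
    have hα : σ₁ ≤ α := fun t => max_le (hbounds.1.2 t) (hbounds.2.2 t)
    have hβ : β ≤ σ₂ := fun t => le_min (hbounds.1.1 t) (hbounds.2.1 t)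
    have hsum : S α + S β = S σ₁ + S σ₂ := by
      rw [hσ₁, hσ₂, S_sup_add_inf, ← hS, Fin.sum_univ_two]
    rcases hα.eq_or_lt with he | hlt
    · left
      have hb : β = σ₂ := eq_of_le_of_S_eq hβ (by rw [← he] at hsum; omega)
      rw [hceq]
      exact congrArg (Sigma.mk 2) (Subtype.ext (funext fun i => by fin_cases i <;> simp [pairChain, he, hb]))
    · refine Or.inr ⟨α, β, hβα, hceq, hlt, lt_of_le_of_ne hβ fun he => hlt.ne (eq_of_le_of_S_eq hα ?_), ?_⟩
      · rw [he] at hsum; omega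
      · rw [hsum, hσ₁, hσ₂, S_sup_add_inf]
  set m := ord d n
  have hdn := le_of_idx τ
  set lo := botIdx hdn
  set hi := topIdx hdn
  have hin : ∀ θ : Idx d n, lo ≤ θ ∧ θ ≤ hi := fun θ => ⟨botIdx_le _ θ, le_topIdx _ θ⟩
  have hlead : m.degree (res K lo hi (X τ) * res K lo hi (X φ)) = diagExp τ + diagExp φ ∧
      (res K lo hi (X τ) * res K lo hi (X φ)).coeff (diagExp τ + diagExp φ) = 1 := by
    obtain ⟨h1, h1'⟩ := res_X_leading (K := K) (hin τ).1 (hin τ).2
    obtain ⟨h2, h2'⟩ := res_X_leading (K := K) (hin φ).1 (hin φ).2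
    have e := m.degree_mul_of_isRegular_left
      (f := res K lo hi (X τ)) (by rw [h1'.leadingCoeff_eq_one]; exact isRegular_one) h2'.ne_zero
    rw [h1, h2] at e
    refine ⟨e, ?_⟩
    rw [← e]
    exact (h1'.mul h2').coeff_degree
  have hcm : ∀ c : Chains d n, m.degree (res K lo hi (cmon K c)) = chainExp c.2.1 ∧ m.Monic (res K lo hi (cmon K c)) :=
    fun c => res_chainMon_leading _ fun k => hin _
  have hinj : ∀ c c' : Chains d n, chainExp c.2.1 = chainExp c'.2.1 → c = c' := by
    rintro ⟨p, c, hc⟩ ⟨p', c', hc'⟩ he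
    obtain ⟨rfl, rfl⟩ := chainExp_injective hd hc hc' he
    rfl
  have hcoeff : ∀ e, (∀ c ∈ a.support, chainExp c.2.1 ≠ e → chainExp c.2.1 ≺[m] e) →
      ∀ c₁ : Chains d n, chainExp c₁.2.1 = e →
        coeff e (res K lo hi (Finsupp.linearCombination K (cmon K) a)) = a c₁ := by
    intro e he c₁ hc₁
    rw [Finsupp.linearCombination_apply, map_finsuppSum, Finsupp.sum, coeff_sum,
      Finset.sum_eq_single c₁]
    · rw [map_smul, coeff_smul, ← hc₁, ← (hcm c₁).1, (hcm c₁).2.coeff_degree, smul_eq_mul, mul_one]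
    · intro c hc hne
      rw [map_smul, coeff_smul, m.coeff_eq_zero_of_lt, smul_zero]
      rw [(hcm c).1]
      exact he c hc fun h => hne (hinj _ _ (h.trans hc₁.symm))
    · intro h; rw [Finsupp.notMem_support_iff.1 h, zero_smul, map_zero, coeff_zero]
  set M₀ := diagExp τ + diagExp φ with hM₀
  have hc₀ : chainExp c₀.2.1 = M₀ := by rw [chainExp_pairChain, diagExp_sup_add_inf]
  have hle : ∀ c ∈ a.support, chainExp c.2.1 ≼[m] M₀ := by
    intro c hc
    by_contra hgt
    obtain ⟨c₁, hc₁, hmax⟩ := Finset.exists_max_image a.support (fun c => m.toSyn (chainExp c.2.1)) ⟨c, hc⟩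
    have := hcoeff (chainExp c₁.2.1) (fun x hx hne => lt_of_le_of_ne (hmax x hx) fun h => hne (m.toSyn.injective h)) c₁ rfl
    rw [← hres, m.coeff_eq_zero_of_lt] at this
    · exact Finsupp.mem_support_iff.1 hc₁ this.symm
    · rw [hlead.1]; exact lt_of_lt_of_le (not_le.1 hgt) (hmax c hc)
  have ha₀ : a c₀ = 1 := by
    have := hcoeff M₀ (fun x hx hne => lt_of_le_of_ne (hle x hx) fun h => hne (m.toSyn.injective h)) c₀ hc₀
    rw [← hres, hlead.2] at this
    exact this.symm
  refine ⟨a.erase c₀, fun c hc => ?_, ?_⟩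
  · rw [Finsupp.support_erase, Finset.mem_erase] at hc
    obtain ⟨α, β, h, rfl, hlt⟩ := (hshape c hc.2).resolve_left hc.1
    refine ⟨α, β, h, rfl, hlt.1, hlt.2.1, hlt.2.2, ?_⟩
    rw [← chainExp_pairChain α β h]
    exact lt_of_le_of_ne (hle _ hc.2) fun he => hc.1 (hinj _ _ ((m.toSyn.injective he).trans hc₀.symm))
  · have e : Finsupp.linearCombination K (cmon K) a =
        X σ₁ * X σ₂ + Finsupp.linearCombination K (cmon K) (a.erase c₀) := by
      conv_lhs => rw [← Finsupp.single_add_erase c₀ a, map_add, Finsupp.linearCombination_single, ha₀, one_smul]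
      rw [cmon_pairChain]
    rwa [e] at hmem

end Groth.Agent.SMT
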