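import Mathlib
import Groth.Agent.CMGraded.Free
import Groth.Agent.SMT.Pair
import Groth.Agent.SMT.Dimension

/-!
# Schubert varieties and unions of Schubert divisors are Cohen–Macaulay

The sums of the Plücker coordinates of each rank form a regular sequence of full length.
-/

open MvPolynomial RingTheory.Sequence

namespace Groth.Agent.SMT

open W4bk4grassmannian

universe u

variable {k : Type u} [Field k] {d n : ℕ}

theorem S_eq_codeg (θ : Idx d n) : S θ = codeg θ + ∑ t : Fin d, t.val := by
  rw [S, codeg, ← Finset.sum_add_distrib]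
  refine Finset.sum_congr rfl fun t _ => ?_
  have := Fin.le_def.1 (botIdx_le (le_of_idx θ) θ t)
  simp only [botIdx] at this
  omega

theorem codeg_lt_of_lt {φ w : Idx d n} (h : φ < w) : codeg φ < codeg w := by
  have := S_lt_of_lt h
  have := S_eq_codeg φ
  have := S_eq_codeg w
  omega

theorem codeg_le_of_le {φ w : Idx d n} (h : φ ≤ w) : codeg φ ≤ codeg w := by
  rcases h.eq_or_lt with rfl | h
  · exact le_rfl
  · exact (codeg_lt_of_lt h).le

variable (k d n) in
/-- The sum of the Plücker coordinates of rank `r`. -/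
noncomputable def rankForm (r : ℕ) : PlRing k d n :=
  ∑ φ ∈ Finset.univ.filter fun φ : Idx d n => codeg φ = r, X φ

variable (k d n) in
/-- The rank forms of ranks `< m`, from the top. -/
noncomputable def rankForms (m : ℕ) : Fin m → PlRing k d n := fun i => rankForm k d n i.rev.val

theorem ofFn_rankForms (m : ℕ) :
    List.ofFn (rankForms k d n (m + 1)) = rankForm k d n m :: List.ofFn (rankForms k d n m) := by
  rw [List.ofFn_succ]
  refine congrArg₂ List.cons (by simp [rankForms]) (congrArg List.ofFn (funext fun i => ?_))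
  show rankForm k d n _ = rankForm k d n _
  congr 1
  simp [Fin.val_rev]

theorem rankForm_isHomogeneous (r : ℕ) : (rankForm k d n r).IsHomogeneous 1 :=
  IsHomogeneous.sum _ _ _ fun φ _ => isHomogeneous_X k φ

theorem X_mem_schubertVanishing {φ w : Idx d n} (h : ¬ φ ≤ w) : (X φ : PlRing k d n) ∈ schubertVanishing k d n w :=
  plIdeal_le_schubertVanishing w (Ideal.subset_span (Or.inr ⟨φ, h, rfl⟩))

theorem rankForm_mem {ψ : Idx d n} {r : ℕ} (h : codeg ψ < r) : rankForm k d n r ∈ schubertVanishing k d n ψ :=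
  Ideal.sum_mem _ fun φ hφ => X_mem_schubertVanishing fun hle => by
    have := codeg_le_of_le hle
    rw [(Finset.mem_filter.1 hφ).2] at this
    omega

theorem rankForm_sub_X_mem (τ : Idx d n) :
    rankForm k d n (codeg τ) - X τ ∈ schubertVanishing k d n τ := by
  classical
  have hτ : τ ∈ Finset.univ.filter fun φ : Idx d n => codeg φ = codeg τ := by simp
  rw [rankForm, ← Finset.add_sum_erase _ _ hτ, add_sub_cancel_left]
  refine Ideal.sum_mem _ fun φ hφ => X_mem_schubertVanishing fun hle => ?_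
  obtain ⟨hne, hφ⟩ := Finset.mem_erase.1 hφ
  exact (codeg_lt_of_lt (lt_of_le_of_ne hle hne)).ne (Finset.mem_filter.1 hφ).2

theorem isHomog_schubertVanishing [Infinite k] (hd : 0 < d) (w : Idx d n) :
    CMGraded.IsHomog (schubertVanishing k d n w) := by
  rw [← plIdeal_eq_schubertVanishing hd, plIdeal]
  refine CMGraded.isHomog_span ?_
  rintro f (⟨i, j, r, -, rfl⟩ | ⟨φ, -, rfl⟩)
  · refine ⟨2, IsHomogeneous.sum _ _ _ fun A _ => ?_⟩
    have hc : ∀ a : Fin d → Fin n, (coord k d n a).IsHomogeneous 1 := fun a => by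
      unfold coord
      split_ifs
      · rw [show ((-1 : PlRing k d n)) ^ invCount d n a = C ((-1 : k) ^ invCount d n a) by simp]
        exact (isHomogeneous_X k _).C_mul _
      · exact isHomogeneous_zero _ _ _
    unfold shuffleTerm
    split_ifs with hA
    · rw [show ((-1 : PlRing k d n)) ^ shuffleSign r A = C ((-1 : k) ^ shuffleSign r A) by simp, mul_assoc]
      exact ((hc _).mul (hc _)).C_mul _
    · exact isHomogeneous_zero _ _ _
  · exact ⟨1, isHomogeneous_X k φ⟩

theorem inf_mem_divisors {τ φ ψ : Idx d n} (hψ : ψ ∈ divisors τ) (hφ : φ ∈ divisors τ) (hne : ψ ≠ φ) :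
    W4bk4grassmannian.inf ψ φ ∈ divisors φ := by
  have hlt : φ < W4bk4grassmannian.sup ψ φ := by
    refine lt_of_le_of_ne (fun _ => le_max_right _ _) fun e => ?_
    have hle : ψ ≤ φ := fun t => by
      conv_rhs => rw [e]
      exact le_max_left _ _
    have := codeg_lt_of_lt (lt_of_le_of_ne hle hne)
    have := hψ.2
    have := hφ.2
    omega
  have hsup : W4bk4grassmannian.sup ψ φ ≤ τ := fun t => max_le (hψ.1.le t) (hφ.1.le t)
  have h1 := codeg_lt_of_lt hlt
  have h2 := codeg_le_of_le hsup
  have h3 := S_sup_add_inf ψ φ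
  rw [S_eq_codeg, S_eq_codeg, S_eq_codeg, S_eq_codeg] at h3
  have := hψ.2
  have := hφ.2
  refine ⟨lt_of_le_of_ne (inf_le_right' _ _) fun e => ?_, by omega⟩
  rw [e] at h3
  omega

theorem iInf_sup_schubertVanishing [Infinite k] (hd : 0 < d) (Φ : Finset (Idx d n)) (φ : Idx d n) :
    (⨅ ψ ∈ Φ, schubertVanishing k d n ψ) ⊔ schubertVanishing k d n φ =
      ⨅ ψ ∈ Φ, schubertVanishing k d n (W4bk4grassmannian.inf ψ φ) := by
  classical
  refine le_antisymm (sup_le (iInf₂_mono fun ψ _ => schubertVanishing_antitone (inf_le_left' _ _))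
    (le_iInf₂ fun ψ _ => schubertVanishing_antitone (inf_le_right' _ _))) fun f hf => ?_
  simp only [Submodule.mem_iInf] at hf
  obtain ⟨a, ha⟩ := exists_repr f
  let a₁ := a.filter fun c => ∀ i, c.2.1 i ≤ φ
  let a₂ := a.filter fun c => ¬ ∀ i, c.2.1 i ≤ φ
  have h1 : Finsupp.linearCombination k (cmon k) a₁ ∈ ⨅ ψ ∈ Φ, schubertVanishing k d n ψ := by
    simp only [Submodule.mem_iInf]
    intro ψ hψ
    refine (mem_schubertVanishing_iff hd (a := a₁) (by simp)).2 fun c hc => ?_
    by_cases hcφ : ∀ i, c.2.1 i ≤ φ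
    · rw [Finsupp.filter_apply_pos _ _ hcφ]
      exact (mem_schubertVanishing_iff hd ha).1 (hf ψ hψ) c fun i t => le_min (hc i t) (hcφ i t)
    · exact Finsupp.filter_apply_neg _ _ hcφ
  have h2 : Finsupp.linearCombination k (cmon k) a₂ ∈ schubertVanishing k d n φ :=
    (mem_schubertVanishing_iff hd (a := a₂) (by simp)).2 fun c hc =>
      Finsupp.filter_apply_neg _ _ (not_not_intro hc)
  have hrest : f - Finsupp.linearCombination k (cmon k) a ∈ schubertVanishing k d n φ :=
    plIdeal_le_schubertVanishing φ (plIdealTop_le φ ha)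
  rw [show f = Finsupp.linearCombination k (cmon k) a₁ +
    (Finsupp.linearCombination k (cmon k) a₂ + (f - Finsupp.linearCombination k (cmon k) a)) by
    rw [← add_assoc, ← map_add, Finsupp.filter_pos_add_filter_neg]; ring]
  exact Submodule.add_mem_sup h1 (Ideal.add_mem _ h2 hrest)

theorem isWeaklyRegular_rankForms [Infinite k] (hd : 0 < d) (hdn : d ≤ n) (D : ℕ) :
    ∀ τ : Idx d n, codeg τ = D →
      IsWeaklyRegular (PlRing k d n ⧸ schubertVanishing k d n τ) (List.ofFn (rankForms k d n (D + 1))) ∧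
      ∀ Φ : Finset (Idx d n), Φ.Nonempty → (∀ ψ ∈ Φ, ψ ∈ divisors τ) →
        IsWeaklyRegular (PlRing k d n ⧸ ⨅ ψ ∈ Φ, schubertVanishing k d n ψ) (List.ofFn (rankForms k d n D)) := by
  classical
  induction D using Nat.strong_induction_on with
  | _ D ih =>
    intro τ hτ
    have hunion : ∀ Φ : Finset (Idx d n), Φ.Nonempty → (∀ ψ ∈ Φ, ψ ∈ divisors τ) →
        IsWeaklyRegular (PlRing k d n ⧸ ⨅ ψ ∈ Φ, schubertVanishing k d n ψ) (List.ofFn (rankForms k d n D)) := by
      intro Φ hΦ hdiv
      induction hΦ using Finset.Nonempty.cons_induction with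
      | singleton φ =>
        have hφ := (hdiv φ (by simp)).2
        rw [Finset.iInf_singleton]
        have h := (ih (codeg φ) (by omega) φ rfl).1
        rwa [show codeg φ + 1 = D by omega] at h
      | cons φ Φ hnot hne ihΦ =>
        have hφ : φ ∈ divisors τ := hdiv φ (by simp)
        have hψ : ∀ ψ ∈ Φ, ψ ∈ divisors τ := fun ψ h => hdiv ψ (by simp [h])
        rw [Finset.cons_eq_insert, Finset.iInf_insert, inf_comm]
        obtain ⟨E, rfl⟩ : ∃ E, D = E + 1 := ⟨codeg φ, by have := hφ.2; omega⟩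
        have hE : codeg φ = E := by have := hφ.2; omega
        rw [ofFn_rankForms]
        have hin : ∀ ψ ∈ Φ, W4bk4grassmannian.inf ψ φ ∈ divisors φ := fun ψ h =>
          inf_mem_divisors (hψ ψ h) hφ fun e => hnot (e ▸ h)
        refine CMGraded.isWeaklyRegular_glue ?_ (by rw [← ofFn_rankForms]; exact ihΦ hψ)
          (by rw [← ofFn_rankForms]; exact (ih E (by omega) φ hE).1) ?_
        · rw [iInf_sup_schubertVanishing hd]
          simp only [Submodule.mem_iInf]
          intro ψ h
          refine rankForm_mem ?_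
          have := (hin ψ h).2
          omega
        · rw [iInf_sup_schubertVanishing hd]
          have := (ih E (by omega) φ hE).2 (Φ.image fun ψ => W4bk4grassmannian.inf ψ φ) (hne.image _)
            (fun x hx => by obtain ⟨ψ, h, rfl⟩ := Finset.mem_image.1 hx; exact hin ψ h)
          rwa [Finset.iInf_finset_image] at this
    refine ⟨?_, hunion⟩
    haveI : (schubertVanishing k d n τ).IsPrime := by
      rw [schubertVanishing_eq_ker hd]; exact RingHom.ker_isPrime _
    have hXτ : (X τ : PlRing k d n) ∉ schubertVanishing k d n τ := fun h => by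
      rw [schubertVanishing_eq_ker hd] at h
      exact X_notMem_richardson (botIdx_le _ τ) le_rfl h
    have hsub := rankForm_sub_X_mem (k := k) τ
    rw [hτ] at hsub
    have hθ : rankForm k d n D ∉ schubertVanishing k d n τ := fun h => hXτ <| by
      simpa using Ideal.sub_mem _ h hsub
    rw [ofFn_rankForms, CMGraded.isWeaklyRegular_quotient_cons_iff]
    refine ⟨fun a ha => (Ideal.IsPrime.mem_or_mem inferInstance ha).resolve_left hθ, ?_⟩
    have hJ : schubertVanishing k d n τ ⊔ Ideal.span {rankForm k d n D} =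
        schubertVanishing k d n τ ⊔ Ideal.span {X τ} := by
      refine le_antisymm (sup_le le_sup_left ?_) (sup_le le_sup_left ?_) <;>
        rw [Ideal.span_le, Set.singleton_subset_iff, SetLike.mem_coe]
      · rw [show rankForm k d n D = (rankForm k d n D - X τ) + X τ by ring]
        exact Submodule.add_mem_sup hsub (Ideal.mem_span_singleton_self _)
      · rw [show (X τ : PlRing k d n) = -(rankForm k d n D - X τ) + rankForm k d n D by ring]
        exact Submodule.add_mem_sup (Ideal.neg_mem_iff _ |>.2 hsub) (Ideal.mem_span_singleton_self _)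
    rw [hJ]
    rcases Nat.eq_zero_or_pos D with rfl | hD
    · simp
    have hlt : ∃ φ, φ < τ := ⟨botIdx hdn, lt_of_le_of_ne (botIdx_le _ _) fun e => by
      rw [← e] at hτ; simp [codeg, botIdx] at hτ; omega⟩
    rw [schubertVanishing_sup_X hd τ hlt]
    have hne : (Finset.univ.filter fun φ => φ ∈ divisors τ).Nonempty := by
      obtain ⟨φ, hφ⟩ := hlt
      obtain ⟨ψ, hψ, -⟩ := exists_divisor_ge hφ
      exact ⟨ψ, by simp [hψ]⟩
    have := hunion _ hne (fun ψ h => (Finset.mem_filter.1 h).2)
    rwa [le_antisymm (le_iInf₂ fun ψ h => iInf₂_le ψ (Finset.mem_filter.2 ⟨Finset.mem_univ _, h⟩))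
      (le_iInf₂ fun ψ h => iInf₂_le ψ (Finset.mem_filter.1 h).2)] at this

theorem X_mem_radical (hd : 0 < d) {I : Ideal (PlRing k d n)} (hI : plIdealTop k ≤ I) {m : ℕ}
    (hlow : ∀ r < m, rankForm k d n r ∈ I) (hhigh : ∀ φ, m ≤ codeg φ → X φ ∈ I) (φ : Idx d n) :
    X φ ∈ I.radical := by
  classical
  induction hr : codeg φ using Nat.strong_induction_on generalizing φ with
  | _ r ih =>
    by_cases hm : m ≤ r
    · exact Ideal.le_radical (hhigh φ (hr ▸ hm))
    have hψ : ∀ ψ, codeg ψ < r → X ψ ∈ I.radical := fun ψ h => ih _ h ψ rfl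
    have hφmem : φ ∈ Finset.univ.filter fun ψ : Idx d n => codeg ψ = r := by simp [hr]
    have hother : ∀ ψ, codeg ψ = r → ψ ≠ φ → X φ * X ψ ∈ I.radical := fun ψ hr' hne => by
      have h1 : ¬ φ ≤ ψ := fun h => (codeg_lt_of_lt (lt_of_le_of_ne h (Ne.symm hne))).ne (hr.trans hr'.symm)
      have h2 : ¬ ψ ≤ φ := fun h => (codeg_lt_of_lt (lt_of_le_of_ne h hne)).ne (hr'.trans hr.symm)
      obtain ⟨b, hb, hmem⟩ := straighten_pair (K := k) hd h1 h2
      have hinf : codeg (W4bk4grassmannian.inf φ ψ) < r := hr ▸ codeg_lt_of_lt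
        (lt_of_le_of_ne (inf_le_left' φ ψ) fun e => h1 (e ▸ inf_le_right' φ ψ))
      rw [show X φ * X ψ = (X φ * X ψ - (X (W4bk4grassmannian.sup φ ψ) * X (W4bk4grassmannian.inf φ ψ) +
          Finsupp.linearCombination k (cmon k) b)) + (X (W4bk4grassmannian.sup φ ψ) * X (W4bk4grassmannian.inf φ ψ) +
          Finsupp.linearCombination k (cmon k) b) by ring]
      refine Ideal.add_mem _ (Ideal.le_radical (hI hmem)) (Ideal.add_mem _ (Ideal.mul_mem_left _ _ (hψ _ hinf)) ?_)
      rw [Finsupp.linearCombination_apply]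
      refine Ideal.sum_mem _ fun c hc => ?_
      obtain ⟨α, β, h, rfl, -, hβ, -⟩ := hb c hc
      dsimp only
      rw [cmon_pairChain, smul_eq_C_mul]
      exact Ideal.mul_mem_left _ _ (Ideal.mul_mem_left _ _ (hψ _ ((codeg_lt_of_lt hβ).trans hinf)))
    have hsq : X φ ^ 2 ∈ I.radical := by
      have h := Ideal.mul_mem_left _ (X φ) (Ideal.le_radical (hlow r (by omega)))
      rw [rankForm, ← Finset.add_sum_erase _ _ hφmem, mul_add, Finset.mul_sum] at h
      rw [sq]
      refine (Ideal.add_mem_iff_left _ (Ideal.sum_mem _ fun ψ hψ' => ?_)).1 h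
      exact hother ψ (Finset.mem_filter.1 (Finset.mem_of_mem_erase hψ')).2 (Finset.ne_of_mem_erase hψ')
    exact (Ideal.radical_isRadical I) ⟨2, hsq⟩

theorem finite_quotient_of_radical {σ : Type*} [Finite σ] (I : Ideal (MvPolynomial σ k))
    (h : ∀ i, X i ∈ I.radical) : Module.Finite k (MvPolynomial σ k ⧸ I) := by
  have hint : Algebra.IsIntegral k (MvPolynomial σ k ⧸ I) := by
    refine ⟨fun x => ?_⟩
    obtain ⟨f, rfl⟩ := Ideal.Quotient.mk_surjective x
    induction f using MvPolynomial.induction_on with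
    | C a => exact isIntegral_algebraMap
    | add p q hp hq => rw [map_add]; exact hp.add hq
    | mul_X p i hp =>
      rw [map_mul]
      refine hp.mul ?_
      obtain ⟨m, hm⟩ := h i
      refine ⟨Polynomial.X ^ m, Polynomial.monic_X_pow m, ?_⟩
      rw [Polynomial.eval₂_pow, Polynomial.eval₂_X, ← map_pow]
      exact Ideal.Quotient.eq_zero_iff_mem.2 hm
  haveI : Algebra.FiniteType k (MvPolynomial σ k ⧸ I) :=
    Algebra.FiniteType.of_surjective (Ideal.Quotient.mkₐ k I) (Ideal.Quotient.mkₐ_surjective k I)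
  exact Algebra.IsIntegral.finite

theorem finite_quotient_rankForms (hd : 0 < d) {ι : Sort*} [hne : Nonempty ι] (ψ : ι → Idx d n) {m : ℕ}
    (hm : ∀ i, codeg (ψ i) < m) :
    Module.Finite k (PlRing k d n ⧸ ((⨅ i, schubertVanishing k d n (ψ i)) ⊔ CMGraded.formsIdeal (rankForms k d n m))) := by
  refine finite_quotient_of_radical _ (X_mem_radical hd (m := m) ?_ (fun r hr => ?_) fun φ hφ => ?_)
  · exact le_sup_of_le_left (le_iInf fun i => (plIdealTop_le (ψ i)).trans (plIdeal_le_schubertVanishing _))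
  · refine Submodule.mem_sup_right (Ideal.subset_span ⟨(⟨r, hr⟩ : Fin m).rev, ?_⟩)
    simp [rankForms, Fin.rev_rev]
  · refine Submodule.mem_sup_left ((Submodule.mem_iInf _).2 fun i => X_mem_schubertVanishing fun hle => ?_)
    have := codeg_le_of_le hle
    have := hm i
    omega

theorem schubertVanishing_ne_top (w : Idx d n) [Infinite k] (hd : 0 < d) : schubertVanishing k d n w ≠ ⊤ := by
  rw [schubertVanishing_eq_ker hd]; exact (RingHom.ker_isPrime _).ne_top

theorem isCohenMacaulay_schubert [Infinite k] (hd : 0 < d) (τ : Idx d n) :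
    LocCoh.IsCohenMacaulayRing (PlRing k d n ⧸ schubertVanishing k d n τ) ∧
      ringKrullDim (PlRing k d n ⧸ schubertVanishing k d n τ) = (codeg τ + 1 : ℕ) := by
  refine CMGraded.isCohenMacaulayRing_and_ringKrullDim _ (schubertVanishing_ne_top τ hd)
    (isHomog_schubertVanishing hd τ) (rankForms k d n (codeg τ + 1)) (fun i => rankForm_isHomogeneous _)
    (isWeaklyRegular_rankForms hd (le_of_idx τ) _ τ rfl).1 ?_
  have := finite_quotient_rankForms (k := k) hd (fun _ : Unit => τ) (m := codeg τ + 1) fun _ => Nat.lt_succ_self _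
  rwa [iInf_const] at this

theorem isCohenMacaulay_union [Infinite k] (hd : 0 < d) (τ : Idx d n) {s : ℕ} (φ : Fin s → Idx d n)
    (hφ : ∀ i, φ i ∈ divisors τ) :
    LocCoh.IsCohenMacaulayRing (PlRing k d n ⧸ ⨅ i, schubertVanishing k d n (φ i)) := by
  classical
  rcases Nat.eq_zero_or_pos s with rfl | hs
  · haveI : Subsingleton (PlRing k d n ⧸ ⨅ i, schubertVanishing k d n (φ i)) :=
      Ideal.Quotient.subsingleton_iff.2 (iInf_of_empty _)
    exact { isCohenMacaulayLocalRing_localization := fun p hp => absurd (Subsingleton.elim p ⊤) hp.ne_top }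
  haveI : Nonempty (Fin s) := ⟨⟨0, hs⟩⟩
  refine (CMGraded.isCohenMacaulayRing_and_ringKrullDim _ ?_ (CMGraded.isHomog_iInf fun i => isHomog_schubertVanishing hd _)
    (rankForms k d n (codeg τ)) (fun i => rankForm_isHomogeneous _) ?_
    (finite_quotient_rankForms hd φ fun i => codeg_lt_of_lt (hφ i).1)).1
  · exact fun h => schubertVanishing_ne_top (φ ⟨0, hs⟩) hd (eq_top_iff.2 (h ▸ iInf_le _ _))
  · have := (isWeaklyRegular_rankForms (k := k) hd (le_of_idx τ) _ τ rfl).2 (Finset.univ.image φ)
      (Finset.univ_nonempty.image _) (fun x hx => by obtain ⟨i, -, rfl⟩ := Finset.mem_image.1 hx; exact hφ i)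
    have e : (⨅ ψ ∈ Finset.univ.image φ, schubertVanishing k d n ψ) = ⨅ i, schubertVanishing k d n (φ i) := by
      refine le_antisymm (le_iInf fun i => iInf₂_le (φ i) (Finset.mem_image_of_mem _ (Finset.mem_univ i))) ?_
      refine le_iInf₂ fun ψ hψ => ?_
      obtain ⟨i, -, rfl⟩ := Finset.mem_image.1 hψ
      exact iInf_le _ i
    rw [e] at this
    exact this

end Groth.Agent.SMT
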