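import Mathlib
import Groth.Prelude.Def_CAlgX
import Groth.Agent.SMT.Schubert

/-!
# The opposite big cell and determinantal loci
-/

open MvPolynomial

namespace Groth.Agent.SMT

open W4bk4grassmannian

universe u

/-- A determinant with more than `s` rows taken from a matrix `Z` lies in its ideal of `(s+1)`-minors. -/
theorem det_mem_minorIdeal {R : Type u} [CommRing R] {a b : ℕ} (Z : Matrix (Fin a) (Fin b) R) (s : ℕ) :
    ∀ (N : ℕ) (M : Matrix (Fin N) (Fin N) R) (T : Finset (Fin N)) (f : Fin N → Fin a) (g : Fin N → Fin b),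
      s + 1 ≤ T.card → (∀ i ∈ T, ∀ j, M i j = Z (f i) (g j)) → M.det ∈ CAlgX.minorIdeal Z (s + 1) := by
  intro N
  induction N with
  | zero => intro M T f g hT _; rw [Finset.eq_empty_of_isEmpty T] at hT; simp at hT
  | succ N ih =>
    intro M T f g hT hM
    have hcu : T.card ≤ N + 1 := by simpa using T.card_le_univ
    by_cases hfull : N = s
    · subst hfull
      have hTu : T = Finset.univ := Finset.eq_univ_of_card T (by simp; omega)
      exact Ideal.subset_span ⟨(f, g), congrArg Matrix.det (Matrix.ext fun i j => (hM i (hTu ▸ Finset.mem_univ i) j).symm)⟩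
    obtain ⟨i₀, hi₀⟩ : ∃ i₀ : Fin (N + 1), s + 1 ≤ (T.erase i₀).card := by
      by_cases hT' : T = Finset.univ
      · exact ⟨0, by rw [hT', Finset.card_erase_of_mem (Finset.mem_univ _)]; simp; omega⟩
      · obtain ⟨i₀, hi⟩ : ∃ i₀, i₀ ∉ T := by simpa [Finset.eq_univ_iff_forall] using hT'
        exact ⟨i₀, by rw [Finset.erase_eq_of_notMem hi]; exact hT⟩
    rw [Matrix.det_succ_row M i₀]
    refine Ideal.sum_mem _ fun j _ => Ideal.mul_mem_left _ _ ?_
    refine ih _ (T.preimage i₀.succAbove (Fin.succAbove_right_injective.injOn)) (f ∘ i₀.succAbove) (g ∘ j.succAbove) ?_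
      fun i hi j' => hM _ (Finset.mem_preimage.1 hi) _
    refine hi₀.trans (le_of_eq_of_le ?_ (Finset.card_image_le (f := i₀.succAbove)))
    congr 1
    ext x
    simp only [Finset.mem_image, Finset.mem_preimage, Finset.mem_erase]
    constructor
    · rintro ⟨hne, hx⟩
      obtain ⟨y, rfl⟩ := Fin.exists_succAbove_eq hne
      exact ⟨y, hx, rfl⟩
    · rintro ⟨y, hy, rfl⟩
      exact ⟨Fin.succAbove_ne _ _, hy⟩

variable (K : Type u) [CommRing K] (d r : ℕ)

/-- Restriction to the opposite big cell. -/
noncomputable def cellEval : PlRing K d (d + r) →ₐ[K] CellRing K d r :=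
  aeval fun θ : Idx d (d + r) => cellMinor K d r θ

/-- The index whose Schubert variety meets the cell in the matrices of rank at most `s`. -/
def rankIdx (s : ℕ) (hsd : s ≤ d) (hsr : s ≤ r) : Idx d (d + r) :=
  ⟨fun t => if t.val < d - s then ⟨s + t.val, by omega⟩ else ⟨r + t.val, by omega⟩, by
    intro a b hab
    rw [Fin.lt_def] at hab
    dsimp only
    split_ifs <;> rw [Fin.lt_def] <;> simp only <;> omega⟩

variable {K d r}

theorem le_rankIdx_iff {s : ℕ} {hsd : s ≤ d} {hsr : s ≤ r} (θ : Idx d (d + r)) :
    θ ≤ rankIdx d r s hsd hsr ↔ ∀ t : Fin d, t.val < d - s → (θ.1 t).val < d := by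
  constructor
  · intro h t ht
    have := Fin.le_def.1 (h t)
    simp only [rankIdx, if_pos ht] at this
    omega
  · intro h t
    have top : ∀ u : Fin d, (θ.1 u).val + (d - u.val) ≤ d + r := fun u => by
      have := Fin.le_def.1 (le_topIdx (Nat.le_add_right d r) θ u)
      simp only [topIdx] at this
      omega
    rw [Fin.le_def]
    simp only [rankIdx]
    split_ifs with ht
    · simp only
      have hlast : d - s - 1 < d := by omega
      have h1 := h ⟨d - s - 1, hlast⟩ (by show d - s - 1 < d - s; omega)
      have key : ∀ k, ∀ u : Fin d, u.val + k = d - s - 1 → (θ.1 u).val + k < d := by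
        intro k
        induction k with
        | zero =>
          intro u hu
          rw [show u = ⟨d - s - 1, hlast⟩ from Fin.ext (by simp only; omega)]
          simpa using h1
        | succ k ih =>
          intro u hu
          have h2 : θ.1 u < θ.1 ⟨u.val + 1, by omega⟩ := θ.2 (by simp [Fin.lt_def])
          rw [Fin.lt_def] at h2
          have := ih ⟨u.val + 1, by omega⟩ (by simp only; omega)
          omega
      have := key (d - s - 1 - t.val) t (by omega)
      omega
    · have := top t
      simp only; omega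

theorem le_card_of_not_le_rankIdx {s : ℕ} {hsd : s ≤ d} {hsr : s ≤ r} {θ : Idx d (d + r)}
    (h : ¬ θ ≤ rankIdx d r s hsd hsr) :
    s + 1 ≤ (Finset.univ.filter fun t : Fin d => d ≤ (θ.1 t).val).card := by
  rw [le_rankIdx_iff] at h
  push Not at h
  obtain ⟨t, ht, hle⟩ := h
  refine le_trans ?_ (Finset.card_le_card (show Finset.Ici t ⊆ _ from fun u hu => ?_))
  · rw [Fin.card_Ici]; omega
  · refine Finset.mem_filter.2 ⟨Finset.mem_univ _, hle.trans ?_⟩
    exact θ.2.monotone (Finset.mem_Ici.1 hu)

variable {k : Type u} [Field k]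

/-- The cell image of the Schubert ideal of `rankIdx s` consists of `(s+1)`-minor combinations. -/
theorem cellEval_mem_minorIdeal [Infinite k] (hd : 0 < d) {s : ℕ} (hsd : s ≤ d) (hsr : s ≤ r)
    {f : PlRing k d (d + r)} (hf : f ∈ schubertVanishing k d (d + r) (rankIdx d r s hsd hsr)) :
    cellEval k d r f ∈ CAlgX.minorIdeal (genMatrix k r d) (s + 1) := by
  rw [← plIdeal_eq_schubertVanishing hd] at hf
  refine (show plIdeal k (rankIdx d r s hsd hsr) ≤
    (CAlgX.minorIdeal (genMatrix k r d) (s + 1)).comap (cellEval k d r) from Ideal.span_le.2 ?_) hf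
  rintro f (⟨i, j, p, -, rfl⟩ | ⟨θ, hθ, rfl⟩)
  · simp only [SetLike.mem_coe, Ideal.mem_comap]
    have : cellEval k d r (shuffleRel k i j p) = 0 := aeval_shuffleRel (cellMatrix k d r) i j p
    rw [this]; exact Ideal.zero_mem _
  · simp only [SetLike.mem_coe, Ideal.mem_comap, cellEval, aeval_X, cellMinor]
    have hr : 0 < r := by
      by_contra hr0
      refine hθ ((le_rankIdx_iff θ).2 fun t _ => ?_)
      have := (θ.1 t).isLt; omega
    refine det_mem_minorIdeal (genMatrix k r d) s d _ (Finset.univ.filter fun t => d ≤ (θ.1 t).val)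
      (fun t => ⟨(θ.1 t).val - d, by have := (θ.1 t).isLt; omega⟩) id (le_card_of_not_le_rankIdx hθ) fun i hi j => ?_
    have := (Finset.mem_filter.1 hi).2
    simp only [Matrix.submatrix_apply, id, cellMatrix, Matrix.of_apply, genMatrix]
    rw [dif_neg (by omega)]

/-- Minors of `A` through those of `A * B`. -/
theorem det_submatrix_mul {R : Type*} [CommRing R] {n : ℕ} (A : Matrix (Fin n) (Fin d) R) (B : Matrix (Fin d) (Fin d) R)
    (θ : Fin d → Fin n) : ((A * B).submatrix θ id).det = (A.submatrix θ id).det * B.det := by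
  rw [← Matrix.det_mul]
  congr 1

/-- Normalised coordinates: `det A_{θ[j ↦ i]} = (A A_θ⁻¹) i j * det A_θ`. -/
theorem det_update_eq {n : ℕ} (A : Matrix (Fin n) (Fin d) k) (θ : Fin d → Fin n)
    (h : (A.submatrix θ id).det ≠ 0) (i : Fin n) (j : Fin d) :
    (A.submatrix (Function.update θ j i) id).det =
      (A * (A.submatrix θ id)⁻¹) i j * (A.submatrix θ id).det := by
  set B := A.submatrix θ id
  set A' := A * B⁻¹
  have hB : IsUnit B.det := isUnit_iff_ne_zero.2 h
  have hA : A = A' * B := by rw [Matrix.mul_assoc, Matrix.nonsing_inv_mul B hB, Matrix.mul_one]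
  have hθ : A'.submatrix θ id = 1 := by
    rw [show A'.submatrix θ id = B * B⁻¹ from Matrix.submatrix_mul_equiv A B⁻¹ θ (Equiv.refl _) id |>.symm.trans (by rfl)]
    exact Matrix.mul_nonsing_inv B hB
  conv_lhs => rw [hA, det_submatrix_mul]
  congr 1
  have : A'.submatrix (Function.update θ j i) id = (1 : Matrix (Fin d) (Fin d) k).updateRow j (A' i) := by
    ext a b
    rcases eq_or_ne a j with rfl | ha
    · simp
    · rw [Matrix.updateRow_ne ha, ← hθ]
      simp [Function.update_of_ne ha]
  rw [this, ← Matrix.cramer_transpose_apply, Matrix.transpose_one, Matrix.cramer_one]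
  rfl

/-- Rank bound on the normalised lower block of a point of the Schubert variety of `rankIdx s`. -/
theorem finrank_rows_le {s : ℕ} (hsd : s ≤ d) (hsr : s ≤ r) (A : Matrix (Fin (d + r)) (Fin d) k)
    (hA : ∀ θ : Idx d (d + r), ¬ θ ≤ rankIdx d r s hsd hsr → (A.submatrix θ.1 id).det = 0)
    (h : (A.submatrix (Fin.castAdd r) id).det ≠ 0) :
    Module.finrank k (Submodule.span k (Set.range fun a : Fin r =>
      (A * (A.submatrix (Fin.castAdd r) id)⁻¹) (Fin.natAdd d a))) ≤ s := by
  classical
  set B := A.submatrix (Fin.castAdd r) id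
  set A' := A * B⁻¹
  have hB : IsUnit B.det := isUnit_iff_ne_zero.2 h
  by_contra hcon
  rw [not_le] at hcon
  set low : Set (Fin (d + r)) := Set.range (Fin.natAdd d)
  obtain ⟨T, hTlow, -, hTspan, hTind⟩ :=
    exists_linearIndepOn_extension (K := k) (v := fun i => A' i) (linearIndepOn_empty k _) (Set.empty_subset low)
  obtain ⟨S, -, hTS, hSspan, hSind⟩ :=
    exists_linearIndepOn_extension (K := k) (v := fun i => A' i) hTind (Set.subset_univ T)
  have htop : Submodule.span k ((fun i => A' i) '' S) = ⊤ := by
    rw [eq_top_iff, ← (Pi.basisFun k (Fin d)).span_eq, Submodule.span_le]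
    rintro _ ⟨j, rfl⟩
    have hj : A' (Fin.castAdd r j) = Pi.basisFun k (Fin d) j := by
      have e : (A'.submatrix (Fin.castAdd r) id) = 1 := by
        rw [show A'.submatrix (Fin.castAdd r) id = B * B⁻¹ from rfl]
        exact Matrix.mul_nonsing_inv B hB
      funext l
      have := congrFun (congrFun e j) l
      simp only [Matrix.submatrix_apply, id] at this
      rw [this]
      simp [Matrix.one_apply, Pi.single_apply, eq_comm]
    rw [← hj]
    exact hSspan ⟨_, Set.mem_univ _, rfl⟩
  have hScard : S.toFinset.card = d := by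
    have := (linearIndependent_iff_card_eq_finrank_span.1 hSind)
    rw [Set.finrank, ← Set.image_eq_range, htop,
      finrank_top, Module.finrank_fin_fun] at this
    rw [Set.toFinset_card]; exact this
  have hTcard : s < T.toFinset.card := by
    refine lt_of_lt_of_le hcon ?_
    calc Module.finrank k (Submodule.span k (Set.range fun a : Fin r => A' (Fin.natAdd d a)))
        ≤ Module.finrank k (Submodule.span k ((fun i => A' i) '' T)) := by
          refine Submodule.finrank_mono (Submodule.span_le.2 ?_)
          rintro _ ⟨a, rfl⟩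
          exact hTspan ⟨_, Set.mem_range_self a, rfl⟩
      _ ≤ ((fun i => A' i) '' T).toFinset.card := finrank_span_le_card _
      _ ≤ T.toFinset.card := by rw [Set.toFinset_image]; exact Finset.card_image_le
  let θ : Idx d (d + r) := ⟨S.toFinset.orderEmbOfFin hScard, (S.toFinset.orderEmbOfFin hScard).strictMono⟩
  have hθ : ¬ θ ≤ rankIdx d r s hsd hsr := by
    rw [le_rankIdx_iff]
    intro hle
    have hsub : T.toFinset ⊆ (Finset.univ.filter fun t : Fin d => d - s ≤ t.val).image θ.1 := by
      intro x hx
      rw [Set.mem_toFinset] at hx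
      obtain ⟨t, ht⟩ : x ∈ Set.range (S.toFinset.orderEmbOfFin hScard) := by
        rw [Finset.range_orderEmbOfFin, Finset.mem_coe, Set.mem_toFinset]; exact hTS hx
      refine Finset.mem_image.2 ⟨t, Finset.mem_filter.2 ⟨Finset.mem_univ _, ?_⟩, ht⟩
      by_contra hlt
      obtain ⟨a, rfl⟩ := hTlow hx
      have := hle t (by omega)
      rw [show θ.1 t = Fin.natAdd d a from ht] at this
      simp at this
    have h1 := (Finset.card_le_card hsub).trans Finset.card_image_le
    have h2 : (Finset.univ.filter fun t : Fin d => d - s ≤ t.val).card ≤ s := by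
      have h3 : (Finset.univ.filter fun t : Fin d => d - s ≤ t.val).card ≤ (Finset.range s).card :=
        Finset.card_le_card_of_injOn (fun t => t.val - (d - s))
          (fun t ht => by simp at ht ⊢; omega)
          (fun a ha b hb hab => Fin.ext (by simp at ha hb hab; omega))
      simpa using h3
    omega
  have h0 := hA θ hθ
  have hne : (A'.submatrix θ.1 id).det ≠ 0 := by
    refine ((Matrix.isUnit_iff_isUnit_det _).1 (Matrix.linearIndependent_rows_iff_isUnit.1 ?_)).ne_zero
    have hmem : ∀ t, θ.1 t ∈ S := fun t => Set.mem_toFinset.1 (Finset.orderEmbOfFin_mem S.toFinset hScard t)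
    exact hSind.comp (fun t => ⟨θ.1 t, hmem t⟩)
      fun a b hab => θ.2.injective (Subtype.ext_iff.1 hab :)
  apply hne
  rw [det_submatrix_mul, h0, zero_mul]

theorem castAdd_eq_botIdx : (botIdx (Nat.le_add_right d r) : Idx d (d + r)).1 = Fin.castAdd r := rfl

/-- The `s`-block of the last `s` rows and first `s` columns. -/
noncomputable def cornerMinor (k : Type u) [CommRing k] (d r s : ℕ) (hsd : s ≤ d) (hsr : s ≤ r) : CellRing k d r :=
  ((genMatrix k r d).submatrix (fun a : Fin s => (⟨r - s + a.val, by omega⟩ : Fin r)) (Fin.castLE hsd)).det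

theorem cellEval_X_rankIdx {s : ℕ} (hsd : s ≤ d) (hsr : s ≤ r) :
    ∃ ε : ℤˣ, cellEval K d r (X (rankIdx d r s hsd hsr)) = ε • cornerMinor K d r s hsd hsr := by
  let er : Fin (d - s) ⊕ Fin s ≃ Fin d := finSumFinEquiv.trans (finCongr (by omega))
  let ec : Fin (d - s) ⊕ Fin s ≃ Fin d :=
    (Equiv.sumComm _ _).trans (finSumFinEquiv.trans (finCongr (by omega)))
  have herl : ∀ t, (er (Sum.inl t)).val = t.val := fun t => rfl
  have herr : ∀ a, (er (Sum.inr a)).val = d - s + a.val := fun a => rfl
  have hecl : ∀ t, (ec (Sum.inl t)).val = s + t.val := fun t => rfl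
  have hecr : ∀ a, (ec (Sum.inr a)).val = a.val := fun a => rfl
  set N := (cellMatrix K d r).submatrix (rankIdx d r s hsd hsr).1 id
  have e1 : (N.submatrix id (er.symm.trans ec)).det = (N.submatrix er ec).det := by
    rw [← Matrix.det_submatrix_equiv_self er (N.submatrix id (er.symm.trans ec))]
    congr 1
    ext x y; simp
  rw [Matrix.det_permute'] at e1
  have e2 : N.submatrix er ec = Matrix.fromBlocks 1 0
      (Matrix.of fun (a : Fin s) (t : Fin (d - s)) => N (er (Sum.inr a)) (ec (Sum.inl t)))
      ((genMatrix K r d).submatrix (fun a : Fin s => (⟨r - s + a.val, by omega⟩ : Fin r)) (Fin.castLE hsd)) := by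
    refine Matrix.ext ?_
    rintro (t | a) (t' | b)
    · have ht : (er (Sum.inl t)).val < d - s := by rw [herl]; exact t.isLt
      simp only [Matrix.submatrix_apply, N, id, rankIdx, if_pos ht, cellMatrix, Matrix.of_apply,
        Matrix.fromBlocks_apply₁₁]
      rw [dif_pos (by simp only [herl]; omega)]
      simp only [herl, hecl, Matrix.one_apply, Fin.ext_iff, Nat.add_left_cancel_iff]
    · have ht : (er (Sum.inl t)).val < d - s := by rw [herl]; exact t.isLt
      simp only [Matrix.submatrix_apply, N, id, rankIdx, if_pos ht, cellMatrix, Matrix.of_apply,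
        Matrix.fromBlocks_apply₁₂, Matrix.zero_apply]
      rw [dif_pos (by simp only [herl]; omega), if_neg (by simp only [herl, hecr]; omega)]
    · simp
    · have ha : ¬ (er (Sum.inr a)).val < d - s := by rw [herr]; omega
      simp only [Matrix.submatrix_apply, N, id, rankIdx, if_neg ha, cellMatrix, Matrix.of_apply,
        Matrix.fromBlocks_apply₂₂, genMatrix]
      rw [dif_neg (by simp only [herr]; omega)]
      refine congrArg (X (R := K)) (Prod.ext (Fin.ext ?_) (Fin.ext ?_)) <;> simp [herr, hecr] <;> omega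
  rw [e2, Matrix.det_fromBlocks_zero₁₂, Matrix.det_one, one_mul] at e1
  refine ⟨Equiv.Perm.sign (er.symm.trans ec), ?_⟩
  rw [cornerMinor, ← e1, Units.smul_def, zsmul_eq_mul, ← mul_assoc, ← Int.cast_mul, ← Units.val_mul,
    Int.units_mul_self, Units.val_one, Int.cast_one, one_mul, cellEval, aeval_X]
  rfl

end Groth.Agent.SMT
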