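import Mathlib
import Groth.Agent.SMT.Cell

/-!
# Full-rank matrices have a nonzero maximal minor
-/

namespace Groth.Agent.SMT

open W4bk4grassmannian

universe u

variable {k : Type u} [Field k] {d n : ℕ}

theorem exists_minor_ne_zero (A : Matrix (Fin n) (Fin d) k) (hA : LinearIndependent k A.transpose) :
    ∃ θ : Idx d n, (A.submatrix θ.1 id).det ≠ 0 := by
  classical
  obtain ⟨S, -, -, hSspan, hSind⟩ :=
    exists_linearIndepOn_extension (K := k) (v := fun i => A i) (linearIndepOn_empty k _)
      (Set.empty_subset Set.univ)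
  have hrow : Module.finrank k (Submodule.span k (Set.range A)) = d := by
    rw [show Submodule.span k (Set.range A) = Submodule.span k (Set.range A.row) from rfl,
      ← Matrix.rank_eq_finrank_span_row]
    have := Matrix.rank_eq_finrank_span_cols A
    rw [this]
    exact (linearIndependent_iff_card_eq_finrank_span.1 hA).symm.trans (Fintype.card_fin d)
  have htop : Submodule.span k ((fun i => A i) '' S) = Submodule.span k (Set.range A) := by
    refine le_antisymm (Submodule.span_mono (Set.image_subset_range _ _)) (Submodule.span_le.2 ?_)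
    rintro _ ⟨i, rfl⟩
    exact hSspan ⟨i, Set.mem_univ _, rfl⟩
  have hScard : S.toFinset.card = d := by
    have := (linearIndependent_iff_card_eq_finrank_span.1 hSind)
    rw [Set.finrank, ← Set.image_eq_range, htop, hrow] at this
    rw [Set.toFinset_card]; exact this
  refine ⟨⟨S.toFinset.orderEmbOfFin hScard, (S.toFinset.orderEmbOfFin hScard).strictMono⟩, ?_⟩
  refine ((Matrix.isUnit_iff_isUnit_det _).1 (Matrix.linearIndependent_rows_iff_isUnit.1 ?_)).ne_zero
  have hmem : ∀ t, S.toFinset.orderEmbOfFin hScard t ∈ S := fun t => Set.mem_toFinset.1 (Finset.orderEmbOfFin_mem S.toFinset hScard t)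
  exact hSind.comp (fun t => ⟨_, hmem t⟩)
    fun a b hab => (S.toFinset.orderEmbOfFin hScard).injective (Subtype.ext_iff.1 hab :)

/-- Minors of arbitrary row tuples are proportional as soon as those of increasing tuples are. -/
theorem det_submatrix_of_proportional (A A' : Matrix (Fin n) (Fin d) k) (c : k)
    (h : ∀ θ : Idx d n, (A.submatrix θ.1 id).det = c * (A'.submatrix θ.1 id).det) (a : Fin d → Fin n) :
    (A.submatrix a id).det = c * (A'.submatrix a id).det := by
  rw [← aeval_coord (K := k) A a, ← aeval_coord (K := k) A' a]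
  by_cases hc : (Finset.univ.image a).card = d
  · simp only [coord_of_card_eq hc, map_mul, MvPolynomial.aeval_X, map_pow, map_neg, map_one, h]
    ring
  · simp [coord_of_card_ne hc]

theorem mul_inv_eq_of_proportional (A A' : Matrix (Fin n) (Fin d) k) (c : k)
    (h : ∀ θ : Idx d n, (A.submatrix θ.1 id).det = c * (A'.submatrix θ.1 id).det) (θ : Idx d n)
    (hθ : (A.submatrix θ.1 id).det ≠ 0) :
    A * (A.submatrix θ.1 id)⁻¹ = A' * (A'.submatrix θ.1 id)⁻¹ := by
  have hθ' : (A'.submatrix θ.1 id).det ≠ 0 := fun e => hθ (by rw [h θ, e, mul_zero])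
  have hc : c ≠ 0 := fun e => hθ (by rw [h θ, e, zero_mul])
  ext i j
  have e := det_submatrix_of_proportional A A' c h (Function.update θ.1 j i)
  rw [det_update_eq A θ.1 hθ i j, det_update_eq A' θ.1 hθ' i j, h θ] at e
  exact mul_right_cancel₀ (mul_ne_zero hc hθ') (by linear_combination e)

theorem span_cols_mul_of_isUnit (A : Matrix (Fin n) (Fin d) k) (B : Matrix (Fin d) (Fin d) k) (hB : IsUnit B) :
    Submodule.span k (Set.range (A * B).transpose) = Submodule.span k (Set.range A.transpose) := by
  show Submodule.span k (Set.range (A * B).col) = Submodule.span k (Set.range A.col)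
  rw [← Matrix.range_mulVecLin, ← Matrix.range_mulVecLin, Matrix.mulVecLin_mul, LinearMap.range_comp,
    LinearMap.range_eq_top.2 (Matrix.mulVec_surjective_iff_isUnit.2 hB), Submodule.map_top]

end Groth.Agent.SMT
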