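import Mathlib
import Groth.Agent.SMT.Cell

/-!
# The Plücker quadrics cut out the Grassmannian
-/

open MvPolynomial

namespace Groth.Agent.SMT

open W4bk4grassmannian

universe u

variable {k : Type u} [Field k] {e n : ℕ}

theorem eval_coord_minors {d : ℕ} (A : Matrix (Fin n) (Fin d) k) (a : Fin d → Fin n) :
    eval (fun θ : Idx d n => (A.submatrix θ.1 id).det) (coord k d n a) = (A.submatrix a id).det := by
  rw [← aeval_coord (K := k) A a, aeval_eq_eval]

/-- The quadrics vanish on minors. -/
theorem eval_quadric_minors (A : Matrix (Fin n) (Fin (e + 1)) k) (i' : Idx e n) (j' : Idx (e + 2) n) :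
    eval (fun θ : Idx (e + 1) n => (A.submatrix θ.1 id).det) (quadric k i' j') = 0 := by
  simp only [quadric, map_sum, map_mul, map_pow, map_neg, map_one, eval_coord_minors]
  let m : Fin (e + 1) → k := fun c => (-1) ^ (e + c.val) * ((A.submatrix i'.1 id).submatrix id c.succAbove).det
  have hlin : ∀ x : Fin n, (A.submatrix (Fin.snoc i'.1 x) id).det = ∑ c, A x c * m c := fun x => by
    rw [Matrix.det_succ_row _ (Fin.last e)]
    refine Finset.sum_congr rfl fun c _ => ?_
    simp only [m, Fin.val_last, Matrix.submatrix_apply, id, Fin.snoc_last]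
    rw [show ((A.submatrix (Fin.snoc i'.1 x) id).submatrix (Fin.last e).succAbove c.succAbove) =
      (A.submatrix i'.1 id).submatrix id c.succAbove by ext a b; simp]
    ring
  have hrep : ∀ c : Fin (e + 1), ∑ h : Fin (e + 2),
      (-1 : k) ^ h.val * A (j'.1 h) c * (A.submatrix (j'.1 ∘ h.succAbove) id).det = 0 := fun c => by
    let B : Matrix (Fin (e + 2)) (Fin (e + 2)) k := Matrix.of fun h l => Fin.cases (A (j'.1 h) c) (A (j'.1 h)) l
    have hB : B.det = 0 := Matrix.det_zero_of_column_eq (i := 0) (j := c.succ) (Fin.succ_ne_zero c).symm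
      fun h => by simp [B]
    rw [Matrix.det_succ_column_zero] at hB
    refine Eq.trans (Finset.sum_congr rfl fun h _ => ?_) hB
    congr 2
  simp only [hlin, Finset.mul_sum, Finset.sum_mul]
  rw [Finset.sum_comm]
  refine Finset.sum_eq_zero fun c _ => ?_
  calc _ = -(m c) * ∑ h : Fin (e + 2),
        (-1 : k) ^ h.val * A (j'.1 h) c * (A.submatrix (j'.1 ∘ h.succAbove) id).det := by
        rw [Finset.mul_sum]; exact Finset.sum_congr rfl fun h _ => by rw [pow_succ]; ring
    _ = 0 := by rw [hrep, mul_zero]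

/-- Two solutions of the quadrics agreeing near a coordinate where they are nonzero agree. -/
theorem eq_of_quadrics {q p : Idx (e + 1) n → k}
    (hq : ∀ (i' : Idx e n) (j' : Idx (e + 2) n), eval q (quadric k i' j') = 0)
    (hp : ∀ (i' : Idx e n) (j' : Idx (e + 2) n), eval p (quadric k i' j') = 0)
    {θ₀ : Idx (e + 1) n} (h₀ : q θ₀ ≠ 0)
    (hnear : ∀ θ : Idx (e + 1) n,
      ((Finset.univ.image θ.1) \ Finset.univ.image θ₀.1).card ≤ 1 → p θ = q θ) :
    p = q := by
  classical
  funext θ
  induction hN : ((Finset.univ.image θ.1) \ Finset.univ.image θ₀.1).card using Nat.strong_induction_on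
    generalizing θ with
  | _ N ih =>
    by_cases hN1 : N ≤ 1
    · exact hnear θ (hN ▸ hN1)
    obtain ⟨x, hx⟩ := Finset.card_pos.1 (by omega : 0 < ((Finset.univ.image θ.1) \ Finset.univ.image θ₀.1).card)
    rw [Finset.mem_sdiff] at hx
    obtain ⟨hxθ, hx0⟩ := hx
    have hcθ : (Finset.univ.image θ.1).card = e + 1 := (card_image_eq_iff θ.1).2 θ.2.injective
    have hc₀ : (Finset.univ.image θ₀.1).card = e + 1 := (card_image_eq_iff θ₀.1).2 θ₀.2.injective
    have hi : ((Finset.univ.image θ.1).erase x).card = e := by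
      rw [Finset.card_erase_of_mem hxθ, hcθ, Nat.add_sub_cancel]
    have hj : (insert x (Finset.univ.image θ₀.1)).card = e + 2 := by
      rw [Finset.card_insert_of_notMem hx0, hc₀]
    let i' : Idx e n := ⟨_, (((Finset.univ.image θ.1).erase x).orderEmbOfFin hi).strictMono⟩
    let j' : Idx (e + 2) n := ⟨_, ((insert x (Finset.univ.image θ₀.1)).orderEmbOfFin hj).strictMono⟩
    have hii : Finset.univ.image i'.1 = (Finset.univ.image θ.1).erase x :=
      Finset.image_orderEmbOfFin_univ _ hi
    have hjj : ∀ h : Fin (e + 2), j'.1 h ∈ insert x (Finset.univ.image θ₀.1) := fun h => Finset.orderEmbOfFin_mem _ hj h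
    have hsnoc : ∀ y, Finset.univ.image (Fin.snoc i'.1 y : Fin (e + 1) → Fin n) =
        insert y ((Finset.univ.image θ.1).erase x) := fun y => by
      rw [← hii]; ext z; simp [Fin.exists_fin_succ', or_comm, eq_comm]
    obtain ⟨h₁, hh₁⟩ : ∃ h : Fin (e + 2), j'.1 h = x := by
      have : x ∈ Finset.univ.image j'.1 := by
        rw [show Finset.univ.image j'.1 = _ from Finset.image_orderEmbOfFin_univ _ hj]; simp
      simpa using this
    have hA : ∀ h : Fin (e + 2), h ≠ h₁ → eval p (coord k (e + 1) n (Fin.snoc i'.1 (j'.1 h))) =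
        eval q (coord k (e + 1) n (Fin.snoc i'.1 (j'.1 h))) := fun h hne => by
      by_cases hc : (Finset.univ.image (Fin.snoc i'.1 (j'.1 h) : Fin (e + 1) → Fin n)).card = e + 1
      · simp only [coord_of_card_eq hc, map_mul, eval_X]
        congr 1
        · simp
        refine ih _ ?_ _ rfl
        rw [show Finset.univ.image (sortIdx (e + 1) n _ hc).1 = _ from Finset.image_orderEmbOfFin_univ _ hc, hsnoc]
        have hy : j'.1 h ∈ Finset.univ.image θ₀.1 := (Finset.mem_insert.1 (hjj h)).resolve_left
          fun e1 => hne (j'.2.injective (e1.trans hh₁.symm))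
        rw [Finset.insert_sdiff_of_mem _ hy, Finset.erase_sdiff_comm, Finset.card_erase_of_mem (Finset.mem_sdiff.2 ⟨hxθ, hx0⟩)]
        omega
      · simp [coord_of_card_ne hc]
    have hB : ∀ h : Fin (e + 2), eval p (coord k (e + 1) n (j'.1 ∘ h.succAbove)) =
        eval q (coord k (e + 1) n (j'.1 ∘ h.succAbove)) := fun h => by
      by_cases hc : (Finset.univ.image (j'.1 ∘ h.succAbove)).card = e + 1
      · simp only [coord_of_card_eq hc, map_mul, eval_X]
        congr 1
        · simp
        refine hnear _ ?_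
        rw [show Finset.univ.image (sortIdx (e + 1) n _ hc).1 = _ from Finset.image_orderEmbOfFin_univ _ hc]
        refine le_trans (Finset.card_le_card (t := {x}) fun y hy => ?_) (by simp)
        obtain ⟨hy1, hy2⟩ := Finset.mem_sdiff.1 hy
        obtain ⟨z, -, rfl⟩ := Finset.mem_image.1 hy1
        exact Finset.mem_singleton.2 ((Finset.mem_insert.1 (hjj _)).resolve_right hy2)
      · simp [coord_of_card_ne hc]
    have hθc : (Finset.univ.image (Fin.snoc i'.1 x : Fin (e + 1) → Fin n)).card = e + 1 := by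
      rw [hsnoc, Finset.insert_erase hxθ, hcθ]
    have hsort : sortIdx (e + 1) n _ hθc = θ := Subtype.ext
      (Finset.orderEmbOfFin_unique hθc (fun t => by rw [hsnoc, Finset.insert_erase hxθ]; simp) θ.2).symm
    have hrem : j'.1 ∘ h₁.succAbove = θ₀.1 := by
      refine (Finset.orderEmbOfFin_unique hc₀ (fun t => ?_) (j'.2.comp (Fin.strictMono_succAbove _))).trans
        (Finset.orderEmbOfFin_unique hc₀ (fun t => by simp) θ₀.2).symm
      exact (Finset.mem_insert.1 (hjj _)).resolve_left
        fun e1 => Fin.succAbove_ne h₁ t (j'.2.injective (e1.trans hh₁.symm))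
    have hp' := hp i' j'
    have hq' := hq i' j'
    simp only [quadric, map_sum, map_mul, map_pow, map_neg, map_one] at hp' hq'
    rw [← Finset.add_sum_erase _ _ (Finset.mem_univ h₁)] at hp' hq'
    rw [Finset.sum_congr rfl fun h hh => by rw [hA h (Finset.ne_of_mem_erase hh), hB h]] at hp'
    have heq := add_right_cancel (hp'.trans hq'.symm)
    rw [hrem, coord_self, eval_X, eval_X, hh₁, coord_of_card_eq hθc, hsort,
      hnear θ₀ (by simp)] at heq
    simpa [h₀] using heq

theorem exists_matrix_of_quadrics {q : Idx (e + 1) n → k} (hq0 : q ≠ 0)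
    (hq : ∀ (i' : Idx e n) (j' : Idx (e + 2) n), eval q (quadric k i' j') = 0) :
    ∃ A : Matrix (Fin n) (Fin (e + 1)) k, ∀ θ : Idx (e + 1) n, q θ = (A.submatrix θ.1 id).det := by
  classical
  obtain ⟨θ₀, h₀⟩ := Function.ne_iff.1 hq0
  simp only [Pi.zero_apply] at h₀
  let A₀ : Matrix (Fin n) (Fin (e + 1)) k := Matrix.of fun i j =>
    eval q (coord k (e + 1) n (Function.update θ₀.1 j i)) / q θ₀
  have hA₀ : A₀.submatrix θ₀.1 id = 1 := by
    ext l j
    rcases eq_or_ne l j with rfl | hne
    · simp [A₀, coord_self, h₀]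
    · have hc : (Finset.univ.image (Function.update θ₀.1 j (θ₀.1 l))).card ≠ e + 1 := fun hc => by
        apply hne
        refine (card_image_eq_iff _).1 hc ?_
        rw [Function.update_self, Function.update_of_ne hne]
      simp [A₀, coord_of_card_ne hc, hne]
  let D : Fin (e + 1) → k := Function.update (fun _ => 1) 0 (q θ₀)
  let A : Matrix (Fin n) (Fin (e + 1)) k := A₀ * Matrix.diagonal D
  have hdet : ∀ a : Fin (e + 1) → Fin n, (A.submatrix a id).det = (A₀.submatrix a id).det * q θ₀ := fun a => by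
    rw [det_submatrix_mul, Matrix.det_diagonal, Finset.prod_update_of_mem (Finset.mem_univ _)]
    simp
  refine ⟨A, fun θ => (congrFun (eq_of_quadrics hq (fun i' j' => eval_quadric_minors A i' j') h₀ ?_) θ).symm⟩
  intro θ hθ
  rcases Nat.le_one_iff_eq_zero_or_eq_one.1 hθ with hθ | hθ
  · have : θ = θ₀ := by
      rw [Finset.card_eq_zero, Finset.sdiff_eq_empty_iff_subset] at hθ
      have heq := Finset.eq_of_subset_of_card_le hθ
        (by rw [(card_image_eq_iff θ.1).2 θ.2.injective, (card_image_eq_iff θ₀.1).2 θ₀.2.injective])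
      exact Subtype.ext ((θ.2.range_inj θ₀.2).1 (by simpa [← Finset.coe_inj] using heq))
    subst this
    rw [hdet, hA₀, Matrix.det_one, one_mul]
  obtain ⟨x, hx⟩ := Finset.card_eq_one.1 hθ
  have hxθ : x ∈ Finset.univ.image θ.1 := (Finset.mem_sdiff.1 (hx ▸ Finset.mem_singleton_self x)).1
  obtain ⟨j, hj⟩ : ∃ j, θ₀.1 j ∉ Finset.univ.image θ.1 := by
    by_contra hcon
    push Not at hcon
    have heq : Finset.univ.image θ₀.1 = Finset.univ.image θ.1 := Finset.eq_of_subset_of_card_le
      (Finset.image_subset_iff.2 fun j _ => hcon j)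
      (by rw [(card_image_eq_iff θ.1).2 θ.2.injective, (card_image_eq_iff θ₀.1).2 θ₀.2.injective])
    rw [heq, Finset.sdiff_self] at hθ
    simp at hθ
  have hinj : Function.Injective (Function.update θ₀.1 j x) := by
    have hx0 : x ∉ Finset.univ.image θ₀.1 := (Finset.mem_sdiff.1 (hx ▸ Finset.mem_singleton_self x)).2
    intro a b hab
    simp only [Function.update_apply] at hab
    split_ifs at hab with ha hb hb
    · rw [ha, hb]
    · exact absurd (hab ▸ Finset.mem_image_of_mem _ (Finset.mem_univ b)) hx0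
    · exact absurd (hab ▸ Finset.mem_image_of_mem _ (Finset.mem_univ a)) hx0
    · exact θ₀.2.injective hab
  have hc := (card_image_eq_iff _).2 hinj
  have hset : Finset.univ.image θ.1 = Finset.univ.image (Function.update θ₀.1 j x) := by
    refine Finset.eq_of_subset_of_card_le (fun y hy => ?_)
      (by rw [hc, (card_image_eq_iff θ.1).2 θ.2.injective])
    by_cases hy0 : y ∈ Finset.univ.image θ₀.1
    · obtain ⟨l, -, rfl⟩ := Finset.mem_image.1 hy0
      have hlj : l ≠ j := fun e1 => hj (e1 ▸ hy)
      exact Finset.mem_image.2 ⟨l, Finset.mem_univ _, Function.update_of_ne hlj _ _⟩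
    · have : y ∈ ({x} : Finset (Fin n)) := hx ▸ Finset.mem_sdiff.2 ⟨hy, hy0⟩
      exact Finset.mem_image.2 ⟨j, Finset.mem_univ _, by rw [Function.update_self, Finset.mem_singleton.1 this]⟩
  have hsort : sortIdx (e + 1) n _ hc = θ := Subtype.ext
    (Finset.orderEmbOfFin_unique hc (fun t => by rw [← hset]; simp) θ.2).symm
  have e1 : (A₀.submatrix (Function.update θ₀.1 j x) id).det =
      eval q (coord k (e + 1) n (Function.update θ₀.1 j x)) / q θ₀ := by
    rw [det_update_eq A₀ θ₀.1 (by rw [hA₀]; simp) x j, hA₀, inv_one, Matrix.mul_one, Matrix.det_one, mul_one]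
    rfl
  have e2 := aeval_coord (K := k) A₀ (Function.update θ₀.1 j x)
  rw [e1, coord_of_card_eq hc, hsort] at e2
  simp only [map_mul, map_pow, map_neg, map_one, aeval_X, eval_X] at e2
  rw [hdet, eq_div_iff h₀] at *
  have : ((-1 : k) ^ invCount (e + 1) n (Function.update θ₀.1 j x)) ≠ 0 := pow_ne_zero _ (by simp)
  exact mul_left_cancel₀ this (by linear_combination e2)

end Groth.Agent.SMT
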