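import Mathlib
import Groth.Agent.SMT.Schubert
import Groth.Agent.SMT.Cell

/-!
# Affine charts of Schubert varieties inside a localization at a Plücker coordinate
-/

open MvPolynomial

namespace Groth.Agent.SMT

open W4bk4grassmannian

universe u

variable {k : Type u} [Field k] {d n : ℕ}

variable (k) in
/-- The matrix of the signed coordinates obtained from `b` by changing one row. -/
noncomputable def chartMatrix (b : Idx d n) : Matrix (Fin n) (Fin d) (PlRing k d n) :=
  Matrix.of fun i j => coord k d n (Function.update b.1 j i)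

theorem chartMatrix_self (b : Idx d n) (l j : Fin d) :
    chartMatrix k b (b.1 l) j = if l = j then X b else 0 := by
  rcases eq_or_ne l j with rfl | hne
  · simp [chartMatrix, coord_self]
  · rw [if_neg hne]
    refine coord_of_card_ne fun hc => hne ((card_image_eq_iff _).1 hc ?_)
    rw [Function.update_self, Function.update_of_ne hne]

/-- In the chart of `b` every coordinate is a minor of the normalised matrix. -/
theorem chart_identity [Infinite k] (hd : 0 < d) {b w : Idx d n} (hb : b ≤ w) (φ : Idx d n) :
    ((chartMatrix k b).submatrix φ.1 id).det - X b ^ (d - 1) * X φ ∈ schubertVanishing k d n w := by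
  have hprime : (schubertVanishing k d n w).IsPrime := by
    rw [schubertVanishing_eq_ker hd]; exact RingHom.ker_isPrime _
  have hXb : (X b : PlRing k d n) ∉ schubertVanishing k d n w := fun h => by
    rw [schubertVanishing_eq_ker hd] at h
    exact (res_X_leading (K := k) (botIdx_le (le_of_idx w) b) hb).2.ne_zero h
  refine (hprime.mem_or_mem (?_ : X b * _ ∈ _)).resolve_left hXb
  simp only [schubertVanishing, Submodule.mem_iInf]
  intro A _
  show evalMinors k d n A _ = 0
  rw [map_mul]
  by_cases h : (A.submatrix b.1 id).det = 0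
  · rw [evalMinors, aeval_X, h, zero_mul]
  refine mul_eq_zero_of_right _ ?_
  rw [map_sub, map_mul, map_pow, AlgHom.map_det, sub_eq_zero]
  have hmat : (evalMinors k d n A).mapMatrix ((chartMatrix k b).submatrix φ.1 id) =
      (A.submatrix b.1 id).det • ((A * (A.submatrix b.1 id)⁻¹).submatrix φ.1 id) := by
    ext s j
    simp only [AlgHom.mapMatrix_apply, Matrix.map_apply, Matrix.submatrix_apply, id, chartMatrix, Matrix.of_apply,
      Matrix.smul_apply, smul_eq_mul]
    rw [evalMinors, aeval_coord, det_update_eq A b.1 h, mul_comm]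
  rw [hmat, Matrix.det_smul, Fintype.card_fin, det_submatrix_mul, Matrix.det_nonsing_inv, Ring.inverse_eq_inv',
    evalMinors, aeval_X, aeval_X]
  obtain ⟨e, rfl⟩ : ∃ e, d = e + 1 := ⟨d - 1, by omega⟩
  rw [Nat.add_sub_cancel, pow_succ]
  field_simp

/-- The normalised matrix over the localization at `X b`. -/
noncomputable def locMatrix (b w : Idx d n) :
    Matrix (Fin n) (Fin d) (Localization.Away (Ideal.Quotient.mk (schubertVanishing k d n w) (X b))) :=
  Matrix.of fun i j => IsLocalization.mk' _ (Ideal.Quotient.mk (schubertVanishing k d n w) (chartMatrix k b i j))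
    (⟨_, Submonoid.mem_powers (Ideal.Quotient.mk (schubertVanishing k d n w) (X b))⟩ :
      Submonoid.powers (Ideal.Quotient.mk (schubertVanishing k d n w) (X b)))

variable (k) in
/-- The map to the localization at `X b`. -/
noncomputable def toLoc (b w : Idx d n) :
    PlRing k d n →+* Localization.Away (Ideal.Quotient.mk (schubertVanishing k d n w) (X b)) :=
  (algebraMap _ _).comp (Ideal.Quotient.mk (schubertVanishing k d n w))

theorem toLoc_X_mul_locMatrix (b w : Idx d n) (i : Fin n) (j : Fin d) :
    toLoc k b w (X b) * locMatrix b w i j = toLoc k b w (chartMatrix k b i j) := by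
  simp only [toLoc, locMatrix, RingHom.comp_apply, Matrix.of_apply]
  exact IsLocalization.mk'_spec' _ _ (⟨_, Submonoid.mem_powers (Ideal.Quotient.mk (schubertVanishing k d n w) (X b))⟩ :
    Submonoid.powers (Ideal.Quotient.mk (schubertVanishing k d n w) (X b)))

theorem isUnit_toLoc (b w : Idx d n) : IsUnit (toLoc k b w (X b)) :=
  IsLocalization.Away.algebraMap_isUnit (Ideal.Quotient.mk (schubertVanishing k d n w) (X b))

/-- Plücker coordinates in the chart. -/
theorem toLoc_X [Infinite k] (hd : 0 < d) {b w : Idx d n} (hb : b ≤ w) (φ : Idx d n) :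
    toLoc k b w (X φ) = toLoc k b w (X b) * ((locMatrix b w).submatrix φ.1 id).det := by
  refine (IsUnit.mul_left_cancel ((isUnit_toLoc b w).pow (d - 1))) ?_
  have h : toLoc k b w (((chartMatrix k b).submatrix φ.1 id).det) = toLoc k b w (X b ^ (d - 1) * X φ) := by
    simp only [toLoc, RingHom.comp_apply]
    rw [Ideal.Quotient.eq.2 (chart_identity hd hb φ)]
  rw [map_mul, map_pow] at h
  rw [← h, ← mul_assoc, ← pow_succ, Nat.sub_add_cancel hd]
  rw [show toLoc k b w (X b) ^ d * ((locMatrix b w).submatrix φ.1 id).det =
    (toLoc k b w (X b) • (locMatrix b w).submatrix φ.1 id).det by rw [Matrix.det_smul, Fintype.card_fin]]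
  rw [RingHom.map_det]
  congr 1
  ext s j
  simp only [RingHom.mapMatrix_apply, Matrix.map_apply, Matrix.submatrix_apply, id, Matrix.smul_apply, smul_eq_mul]
  exact (toLoc_X_mul_locMatrix b w _ _).symm

theorem locMatrix_self (b w : Idx d n) (l j : Fin d) : locMatrix (k := k) b w (b.1 l) j = if l = j then 1 else 0 := by
  refine (IsUnit.mul_left_cancel (isUnit_toLoc b w)) ?_
  rw [toLoc_X_mul_locMatrix, chartMatrix_self]
  split_ifs <;> simp

end Groth.Agent.SMT
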