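import Mathlib
import Groth.Agent.SMT.Chart
import Groth.Agent.SMT.Dimension
import Groth.Agent.SMT.CohenMacaulay

/-!
# The chart of a Schubert variety at its top coordinate

`(S/J(τ))[1/X_τ]` is a polynomial ring with one variable inverted.
-/

open MvPolynomial

namespace Groth.Agent.SMT

open W4bk4grassmannian

universe u

variable {k : Type u} [Field k] {d n : ℕ}

/-- The free entries of the normalised matrix of the open cell of `τ`. -/
abbrev CellVars (τ : Idx d n) : Type :=
  {p : Fin n × Fin d // p.1 < τ.1 p.2 ∧ p.1 ∉ Set.range τ.1}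

/-- Polynomials in the cell coordinates and one scale. -/
abbrev ConeCell (k : Type u) [Field k] (τ : Idx d n) : Type u := MvPolynomial (Option (CellVars τ)) k

open Classical in
variable (k) in
/-- The normalised matrix of the open cell of `τ`. -/
noncomputable def openMatrix (τ : Idx d n) : Matrix (Fin n) (Fin d) (ConeCell k τ) :=
  Matrix.of fun i j => if h : i < τ.1 j ∧ i ∉ Set.range τ.1 then X (some ⟨(i, j), h⟩)
    else if i = τ.1 j then 1 else 0

theorem openMatrix_self (τ : Idx d n) : (openMatrix k τ).submatrix τ.1 id = 1 := by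
  ext l j
  rw [Matrix.submatrix_apply, openMatrix, Matrix.of_apply, dif_neg fun h => h.2 ⟨l, rfl⟩, Matrix.one_apply]
  simp [τ.2.injective.eq_iff]

theorem openMatrix_eq_zero {τ : Idx d n} {i : Fin n} {j : Fin d} (h : τ.1 j < i) : openMatrix k τ i j = 0 := by
  rw [openMatrix, Matrix.of_apply, dif_neg fun h' => lt_asymm h h'.1, if_neg h.ne']

theorem det_openMatrix_eq_zero {τ φ : Idx d n} (h : ¬ φ ≤ τ) :
    ((openMatrix k τ).submatrix φ.1 id).det = 0 := by
  classical
  obtain ⟨r, hr⟩ : ∃ r, τ.1 r < φ.1 r := by
    by_contra hcon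
    push Not at hcon
    exact h hcon
  rw [Matrix.det_apply]
  refine Finset.sum_eq_zero fun σ _ => ?_
  obtain ⟨j, hj, hσ⟩ : ∃ j, j ≤ r ∧ r ≤ σ j := by
    by_contra hcon
    push Not at hcon
    have := Finset.card_le_card_of_injOn (s := Finset.Iic r) (t := Finset.Iio r) σ
      (fun j hj => by simpa using hcon j (by simpa using hj)) σ.injective.injOn
    simp at this
  rw [Finset.prod_eq_zero (Finset.mem_univ j), smul_zero]
  exact openMatrix_eq_zero (((τ.2.monotone hj).trans_lt hr).trans_le (φ.2.monotone hσ))

theorem det_openMatrix_update (τ : Idx d n) (i : Fin n) (j : Fin d) :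
    ((openMatrix k τ).submatrix (Function.update τ.1 j i) id).det = openMatrix k τ i j := by
  rw [show (openMatrix k τ).submatrix (Function.update τ.1 j i) id =
      (1 : Matrix (Fin d) (Fin d) (ConeCell k τ)).updateRow j (fun l => openMatrix k τ i l) from ?_,
    ← Matrix.cramer_transpose_apply, Matrix.transpose_one, Matrix.cramer_one]
  · rfl
  ext l l'
  rcases eq_or_ne l j with rfl | hl
  · simp
  · rw [Matrix.updateRow_ne hl, Matrix.submatrix_apply, Function.update_of_ne hl, ← openMatrix_self τ]
    rfl

theorem chartMatrix_mem {τ : Idx d n} {i : Fin n} {j : Fin d} (h : τ.1 j < i) :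
    chartMatrix k τ i j ∈ schubertVanishing k d n τ := by
  classical
  rw [chartMatrix, Matrix.of_apply]
  by_cases hc : (Finset.univ.image (Function.update τ.1 j i)).card = d
  swap
  · rw [coord_of_card_ne hc]; exact Ideal.zero_mem _
  rw [coord_of_card_eq hc]
  refine Ideal.mul_mem_left _ _ (X_mem_schubertVanishing fun hle => ?_)
  have h1 : S (sortIdx d n _ hc) ≤ S τ := by
    rcases hle.eq_or_lt with e | e
    · rw [e]
    · exact (S_lt_of_lt e).le
  rw [S_sortIdx, S, ← Finset.add_sum_erase _ _ (Finset.mem_univ j),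
    ← Finset.add_sum_erase _ (fun t => (τ.1 t : ℕ)) (Finset.mem_univ j), Function.update_self,
    Finset.sum_congr rfl fun t ht => show ((Function.update τ.1 j i t : Fin n) : ℕ) = (τ.1 t : ℕ) by
      rw [Function.update_of_ne (Finset.ne_of_mem_erase ht)]] at h1
  rw [Fin.lt_def] at h
  omega

variable (k) in
/-- The scaled minors of the normalised matrix. -/
noncomputable def coneEval (hd : 0 < d) (τ : Idx d n) : PlRing k d n →ₐ[k] ConeCell k τ :=
  aeval fun φ => ((openMatrix k τ * Matrix.diagonal (Function.update (1 : Fin d → ConeCell k τ) (⟨0, hd⟩ : Fin d) (X none))).submatrix φ.1 id).det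

theorem det_scale (hd : 0 < d) (τ : Idx d n) :
    (Matrix.diagonal (Function.update (1 : Fin d → ConeCell k τ) ⟨0, hd⟩ (X none))).det = X none := by
  rw [Matrix.det_diagonal, Finset.prod_update_of_mem (Finset.mem_univ _)]
  simp

theorem coneEval_coord (hd : 0 < d) (τ : Idx d n) (a : Fin d → Fin n) :
    coneEval k hd τ (coord k d n a) = ((openMatrix k τ).submatrix a id).det * X none := by
  rw [coneEval, aeval_coord, det_submatrix_mul, det_scale]

theorem coneEval_X (hd : 0 < d) (τ φ : Idx d n) :
    coneEval k hd τ (X φ) = ((openMatrix k τ).submatrix φ.1 id).det * X none := by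
  rw [← coord_self, coneEval_coord]

theorem coneEval_eq_zero [Infinite k] (hd : 0 < d) {τ : Idx d n} {f : PlRing k d n}
    (hf : f ∈ schubertVanishing k d n τ) : coneEval k hd τ f = 0 := by
  refine MvPolynomial.funext fun v => ?_
  rw [map_zero]
  simp only [schubertVanishing, Submodule.mem_iInf] at hf
  set M := openMatrix k τ * Matrix.diagonal (Function.update (1 : Fin d → ConeCell k τ) (⟨0, hd⟩ : Fin d) (X none)) with hM
  let ev : ConeCell k τ →ₐ[k] k := aeval v
  have h := hf (M.map ev) fun φ hφ => by
    rw [show Matrix.submatrix (M.map ev) φ.1 id = ev.mapMatrix (M.submatrix φ.1 id) from rfl, ← AlgHom.map_det, hM,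
      det_submatrix_mul, det_openMatrix_eq_zero hφ, zero_mul, map_zero]
  have e : ev.comp (coneEval k hd τ) = evalMinors k d n (M.map ev) := by
    refine algHom_ext fun φ => ?_
    rw [AlgHom.comp_apply, coneEval, aeval_X, evalMinors, aeval_X, AlgHom.map_det, ← hM]
    rfl
  rw [← MvPolynomial.coe_aeval_eq_eval]
  exact (DFunLike.congr_fun e f).trans h

/-- The open cell of a Schubert cone is a polynomial ring with one variable inverted. -/
theorem exists_chartEquiv [Infinite k] (hd : 0 < d) (τ : Idx d n) :
    Nonempty (Localization.Away (X none : ConeCell k τ) ≃+*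
      Localization.Away (Ideal.Quotient.mk (schubertVanishing k d n τ) (X τ))) := by
  classical
  set J := schubertVanishing k d n τ
  let Φ : PlRing k d n ⧸ J →+* ConeCell k τ :=
    Ideal.Quotient.lift J (coneEval k hd τ).toRingHom fun f hf => coneEval_eq_zero hd hf
  have hΦ : ∀ f, Φ (Ideal.Quotient.mk J f) = coneEval k hd τ f := fun f => rfl
  set x := Ideal.Quotient.mk J (X τ) with hx
  set Q := Localization.Away (X none : ConeCell k τ)
  set L := Localization.Away x
  have hΦx : Φ x = X none := by rw [hx, hΦ, coneEval_X, openMatrix_self, Matrix.det_one, one_mul]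
  let Ψ : ConeCell k τ →+* L :=
    eval₂Hom ((toLoc k τ τ).comp C) fun o => o.elim (toLoc k τ τ (X τ)) fun p => locMatrix τ τ p.1.1 p.1.2
  have hu : IsUnit (algebraMap (ConeCell k τ) Q (Φ x)) := by
    rw [hΦx]; exact IsLocalization.Away.algebraMap_isUnit _
  let g : L →+* Q := IsLocalization.Away.lift x (g := (algebraMap _ Q).comp Φ) hu
  have hΨT : Ψ (X none) = toLoc k τ τ (X τ) := by simp [Ψ]
  let h : Q →+* L := IsLocalization.Away.lift (X none : ConeCell k τ) (g := Ψ)
    (by rw [hΨT]; exact isUnit_toLoc τ τ)
  have hg : ∀ f, g (toLoc k τ τ f) = algebraMap _ Q (coneEval k hd τ f) := fun f =>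
    IsLocalization.Away.lift_eq x hu _
  have hh : ∀ p, h (algebraMap _ Q p) = Ψ p := fun p => IsLocalization.Away.lift_eq _ _ p
  have hM : ∀ i j, Ψ (openMatrix k τ i j) = locMatrix τ τ i j := by
    intro i j
    rw [openMatrix, Matrix.of_apply]
    split_ifs with h1 h2
    · simp [Ψ]
    · rw [map_one, h2, locMatrix_self, if_pos rfl]
    · rw [map_zero]
      by_cases hr : i ∈ Set.range τ.1
      · obtain ⟨l, rfl⟩ := hr
        rw [locMatrix_self, if_neg fun e => h2 (congrArg τ.1 e)]
      · have hlt : τ.1 j < i := lt_of_le_of_ne (not_lt.1 fun hl => h1 ⟨hl, hr⟩) fun e => h2 e.symm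
        refine ((isUnit_toLoc (k := k) τ τ).mul_right_eq_zero.1 ?_).symm
        rw [toLoc_X_mul_locMatrix]
        exact (congrArg (algebraMap (PlRing k d n ⧸ J) L)
          (Ideal.Quotient.eq_zero_iff_mem.2 (chartMatrix_mem hlt))).trans (map_zero _)
  have e1 : g.comp h = RingHom.id Q := by
    refine IsLocalization.ringHom_ext (Submonoid.powers (X none : ConeCell k τ)) (MvPolynomial.ringHom_ext ?_ ?_)
    · intro c
      simp only [RingHom.comp_apply, RingHom.id_apply, hh, Ψ, eval₂Hom_C, hg]
      rw [show coneEval k hd τ (C c) = C c from (coneEval k hd τ).commutes c]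
    · rintro (_ | ⟨⟨i, j⟩, hp⟩)
      · simp only [RingHom.comp_apply, RingHom.id_apply, hh, hΨT, hg, coneEval_X, openMatrix_self,
          Matrix.det_one, one_mul]
      · simp only [RingHom.comp_apply, RingHom.id_apply, hh, Ψ, eval₂Hom_X', Option.elim_some]
        have e := congrArg g (toLoc_X_mul_locMatrix (k := k) τ τ i j)
        rw [map_mul, hg, hg, coneEval_X, openMatrix_self, Matrix.det_one, one_mul,
          show coneEval k hd τ (chartMatrix k τ i j) = openMatrix k τ i j * X none from by
            rw [chartMatrix, Matrix.of_apply, coneEval_coord, det_openMatrix_update],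
          map_mul, mul_comm] at e
        rw [(IsLocalization.Away.algebraMap_isUnit (S := Q) (X none : ConeCell k τ)).mul_right_cancel e,
          openMatrix, Matrix.of_apply, dif_pos hp]
  have e2 : h.comp g = RingHom.id L := by
    refine IsLocalization.ringHom_ext (Submonoid.powers x) (Ideal.Quotient.ringHom_ext (MvPolynomial.ringHom_ext ?_ ?_))
    · intro c
      show h (g (toLoc k τ τ (C c))) = toLoc k τ τ (C c)
      rw [hg, hh, show coneEval k hd τ (C c) = C c from (coneEval k hd τ).commutes c]
      simp [Ψ]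
    · intro φ
      show h (g (toLoc k τ τ (X φ))) = toLoc k τ τ (X φ)
      rw [hg, hh, coneEval_X, map_mul, hΨT, toLoc_X hd le_rfl φ, mul_comm, RingHom.map_det]
      congr 2
      ext s t
      exact hM _ _
  exact ⟨RingEquiv.ofRingHom h g e2 e1⟩

theorem uniqueFactorizationMonoid_away [Infinite k] (hd : 0 < d) (τ : Idx d n) :
    UniqueFactorizationMonoid (Localization.Away (Ideal.Quotient.mk (schubertVanishing k d n τ) (X τ))) := by
  obtain ⟨e⟩ := exists_chartEquiv (k := k) hd τ
  haveI : IsDomain (Localization.Away (X none : ConeCell k τ)) :=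
    IsLocalization.Away.isDomain (x := (X none : ConeCell k τ)) _ (MvPolynomial.X_ne_zero none)
  exact e.toMulEquiv.uniqueFactorizationMonoid
    (UniqueFactorizationMonoid.of_isLocalization (Submonoid.powers (X none : ConeCell k τ)) _)

end Groth.Agent.SMT
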