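import Mathlib
import Groth.Agent.SMT.Schubert

/-!
# The least Plücker coordinate is prime on every Schubert variety
-/

open MvPolynomial

namespace Groth.Agent.SMT

open W4bk4grassmannian

universe u

variable {k : Type u} [Field k] {d n : ℕ}

/-- The unique cover `(0, …, d - 2, d)` of the least index. -/
def firstCover (hdn : d < n) : Idx d n :=
  ⟨fun t => ⟨if t.val + 1 = d then d else t.val, by have := t.isLt; split <;> omega⟩, fun a b hab => by
    rw [Fin.lt_def] at hab ⊢
    have := b.isLt
    simp only
    split <;> split <;> omega⟩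

theorem firstCover_le_iff (hd : 0 < d) (hdn : d < n) (θ : Idx d n) :
    firstCover hdn ≤ θ ↔ θ ≠ botIdx hdn.le := by
  have hlast : d - 1 < d := by omega
  constructor
  · rintro h rfl
    have := Fin.le_def.1 (h ⟨d - 1, hlast⟩)
    simp only [firstCover, botIdx] at this
    rw [if_pos (by omega)] at this
    omega
  · intro hne t
    rw [Fin.le_def]
    simp only [firstCover]
    split
    · rename_i ht
      by_contra hcon
      apply hne
      have hlt : ∀ s : Fin d, (θ.1 s).val < d := fun s => by
        have : θ.1 s ≤ θ.1 t := θ.2.monotone (Fin.le_def.2 (by have := s.isLt; omega))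
        rw [Fin.le_def] at this; omega
      let θ' : Idx d d := ⟨fun s => ⟨(θ.1 s).val, hlt s⟩, fun a b hab => Fin.lt_def.2 (Fin.lt_def.1 (θ.2 hab))⟩
      refine le_antisymm (fun s => ?_) (botIdx_le _ θ)
      have := Fin.le_def.1 (le_topIdx le_rfl θ' s)
      simp only [topIdx, θ', Nat.sub_self, zero_add] at this
      rw [Fin.le_def]; exact this
    · exact botIdx_le hdn.le θ t

theorem sup_X_botIdx_eq_ker [Infinite k] (hd : 0 < d) (hdn : d < n) (w : Idx d n) :
    schubertVanishing k d n w ⊔ Ideal.span {X (botIdx hdn.le)} =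
      RingHom.ker (res k (firstCover hdn) w).toRingHom := by
  refine le_antisymm (sup_le (fun f hf => res_eq_zero_of_mem_schubertVanishing _ hf) ?_) fun f hf => ?_
  · rw [Ideal.span_le, Set.singleton_subset_iff]
    exact res_X_eq_zero fun h => (firstCover_le_iff hd hdn _).1 h.1 rfl
  obtain ⟨a, ha⟩ := exists_repr f
  have key : Finsupp.linearCombination k (cmon k) a ∈
      schubertVanishing k d n w ⊔ Ideal.span {X (botIdx hdn.le)} := by
    rw [Finsupp.linearCombination_apply]
    refine Ideal.sum_mem _ fun c _ => ?_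
    dsimp only
    rw [smul_eq_C_mul]
    by_cases hc : ∀ i, c.2.1 i ≤ w
    swap
    · obtain ⟨i, hi⟩ := not_forall.1 hc
      exact Ideal.mul_mem_left _ _ (Submodule.mem_sup_left (plIdeal_le_schubertVanishing w (cmon_mem_plIdeal c hi)))
    by_cases he : ∃ i, c.2.1 i = botIdx hdn.le
    · obtain ⟨i, hi⟩ := he
      refine Ideal.mul_mem_left _ _ (Submodule.mem_sup_right (Ideal.mem_span_singleton.2 ?_))
      rw [← hi]
      exact Finset.dvd_prod_of_mem _ (Finset.mem_univ i)
    push Not at he
    have hac : a c = 0 := by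
      refine coeff_eq_zero_of_res_eq_zero hd (firstCover hdn) w a ?_ c
        fun i => ⟨(firstCover_le_iff hd hdn _).2 (he i), hc i⟩
      have h1 := res_eq_zero_of_mem_plIdealTop (firstCover hdn) w ha
      rw [map_sub, (show res k (firstCover hdn) w f = 0 from hf), zero_sub, neg_eq_zero] at h1
      exact h1
    rw [hac, map_zero, zero_mul]; exact Ideal.zero_mem _
  simpa using Ideal.add_mem _ (Submodule.mem_sup_left (plIdeal_le_schubertVanishing w (plIdealTop_le w ha))) key

theorem X_botIdx_notMem [Infinite k] (hd : 0 < d) (hdn : d ≤ n) (w : Idx d n) :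
    (X (botIdx hdn) : PlRing k d n) ∉ schubertVanishing k d n w := by
  let c : Chains d n := ⟨1, fun _ => botIdx hdn, fun _ _ _ => le_rfl⟩
  intro h
  have := (mem_schubertVanishing_iff hd (a := Finsupp.single c 1) (by
    simp [c, cmon, chainMon])).1 h c fun _ => botIdx_le hdn w
  simp at this

theorem prime_botIdx [Infinite k] (hd : 0 < d) (hdn : d < n) (w : Idx d n) :
    Prime (Ideal.Quotient.mk (schubertVanishing k d n w) (X (botIdx hdn.le))) := by
  rw [← Ideal.span_singleton_prime
    (fun h => X_botIdx_notMem hd hdn.le w (Ideal.Quotient.eq_zero_iff_mem.1 h))]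
  have e : Ideal.span {Ideal.Quotient.mk (schubertVanishing k d n w) (X (botIdx hdn.le))} =
      (schubertVanishing k d n w ⊔ Ideal.span {X (botIdx hdn.le)}).map (Ideal.Quotient.mk _) := by
    rw [Ideal.map_sup, Ideal.map_span, Set.image_singleton, Ideal.map_quotient_self, bot_sup_eq]
  rw [e]
  haveI : (schubertVanishing k d n w ⊔ Ideal.span {X (botIdx hdn.le)}).IsPrime := by
    rw [sup_X_botIdx_eq_ker hd hdn w]; exact RingHom.ker_isPrime _
  exact Ideal.map_isPrime_of_surjective Ideal.Quotient.mk_surjective (by rw [Ideal.mk_ker]; exact le_sup_left)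

end Groth.Agent.SMT
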