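import Mathlib
import Groth.Agent.SMT.Cell

/-!
# First and second fundamental theorems of invariant theory

The first fundamental theorems follow by clearing a power of an extremal Plücker coordinate and
removing it again: the homogeneous ideal of the union of the Schubert divisors is `J(w) + (X_w)`.
-/

open MvPolynomial

namespace Groth.Agent.SMT

open W4bk4grassmannian

universe u

variable {K : Type u} [Field K]

theorem eval_aeval {σ τ : Type*} (z : τ → K) (g : σ → MvPolynomial τ K) (f : MvPolynomial σ K) :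
    eval z (aeval g f) = eval (fun i => eval z (g i)) f := by
  induction f using MvPolynomial.induction_on with
  | C c => simp
  | add p q hp hq => simp only [map_add, hp, hq]
  | mul_X p i hp => rw [map_mul, map_mul, hp, map_mul, aeval_X, eval_X]

/-- Clearing denominators. -/
theorem exists_clear {σ τ : Type*} (f : MvPolynomial σ K) (num : σ → MvPolynomial τ K) (δ : MvPolynomial τ K)
    (S : Subalgebra K (MvPolynomial τ K)) (hnum : ∀ i, num i ∈ S) (hδ : δ ∈ S) :
    ∃ (D : ℕ), ∃ G ∈ S, ∀ z : τ → K, eval z δ ≠ 0 →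
      eval z G = eval z δ ^ D * eval (fun i => eval z (num i) / eval z δ) f := by
  induction f using MvPolynomial.induction_on with
  | C c => exact ⟨0, C c, S.algebraMap_mem c, fun z _ => by simp⟩
  | add p q hp hq =>
    obtain ⟨D, G, hG, hGz⟩ := hp
    obtain ⟨E, H, hH, hHz⟩ := hq
    refine ⟨D + E, δ ^ E * G + δ ^ D * H, S.add_mem (S.mul_mem (S.pow_mem hδ E) hG) (S.mul_mem (S.pow_mem hδ D) hH),
      fun z hz => ?_⟩
    simp only [map_add, map_mul, map_pow, hGz z hz, hHz z hz]
    ring
  | mul_X p i hp =>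
    obtain ⟨D, G, hG, hGz⟩ := hp
    refine ⟨D + 1, G * num i, S.mul_mem hG (hnum i), fun z hz => ?_⟩
    simp only [map_mul, eval_X, hGz z hz]
    field_simp
    ring

theorem eq_of_eval_eq {τ : Type*} [Infinite K] {δ f g : MvPolynomial τ K} (hδ : δ ≠ 0)
    (h : ∀ z, eval z δ ≠ 0 → eval z f = eval z g) : f = g := by
  refine mul_left_cancel₀ hδ (MvPolynomial.funext fun z => ?_)
  rw [map_mul, map_mul]
  by_cases hz : eval z δ = 0
  · rw [hz, zero_mul, zero_mul]
  · rw [h z hz]

variable {d n : ℕ}

theorem evalMinors_coord (A : Matrix (Fin n) (Fin d) K) (a : Fin d → Fin n) :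
    evalMinors K d n A (coord K d n a) = (A.submatrix a id).det :=
  aeval_coord A a

theorem eval_pluckerMap (z : Fin n × Fin d → K) (F : PlRing K d n) :
    eval z (pluckerMap K d n F) = evalMinors K d n (Matrix.of fun i j => z (i, j)) F := by
  rw [pluckerMap, eval_aeval, evalMinors, aeval_eq_eval]
  show eval _ F = eval _ F
  congr 2
  funext θ
  rw [minor, RingHom.map_det]
  congr 1
  ext s t
  simp

theorem evalMinors_eq_zero_of_top [Infinite K] (hdn : d ≤ n) {F : PlRing K d n}
    (hF : F ∈ schubertVanishing K d n (topIdx hdn)) : pluckerMap K d n F = 0 := by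
  refine MvPolynomial.funext fun z => ?_
  rw [map_zero, eval_pluckerMap]
  simp only [schubertVanishing, Submodule.mem_iInf] at hF
  exact hF _ fun φ hφ => absurd (le_topIdx hdn φ) hφ

theorem botIdx_lt_topIdx (hd : 0 < d) (hdn : d < n) : botIdx hdn.le < topIdx hdn.le := by
  refine lt_of_le_of_ne (botIdx_le _ _) fun h => ?_
  have := congrArg (fun θ : Idx d n => (θ.1 ⟨0, hd⟩).val) h
  simp [botIdx, topIdx] at this
  omega

theorem mem_range_of_minor_mul [Infinite K] (hd : 0 < d) (hdn : d < n) {h : MatRing K d n}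
    {F : PlRing K d n} (e : pluckerMap K d n (X (topIdx hdn.le)) * h = pluckerMap K d n F) :
    h ∈ (pluckerMap K d n).range := by
  have hF : F ∈ ⨅ φ ∈ divisors (topIdx hdn.le), schubertVanishing K d n φ := by
    simp only [Submodule.mem_iInf]
    intro φ hφ
    simp only [schubertVanishing, Submodule.mem_iInf]
    intro A hA
    show evalMinors K d n A F = 0
    let z : Fin n × Fin d → K := fun p => A p.1 p.2
    have hz : (Matrix.of fun i j => z (i, j)) = A := rfl
    rw [← hz, ← eval_pluckerMap, ← e, map_mul, eval_pluckerMap, hz, evalMinors, aeval_X,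
      hA _ hφ.1.not_ge, zero_mul]
  rw [← schubertVanishing_sup_X hd _ ⟨_, botIdx_lt_topIdx hd hdn⟩, Submodule.mem_sup] at hF
  obtain ⟨F₀, hF₀, F₁, hF₁, rfl⟩ := hF
  obtain ⟨G, rfl⟩ := Ideal.mem_span_singleton'.1 hF₁
  rw [map_add, evalMinors_eq_zero_of_top hdn.le hF₀, zero_add, map_mul] at e
  have hne : pluckerMap K d n (X (topIdx hdn.le)) ≠ 0 := by
    intro h0
    let z : Fin n × Fin d → K := fun p => if p.1 = (topIdx hdn.le).1 p.2 then 1 else 0
    have h1 := congrArg (eval z) h0
    rw [map_zero, eval_pluckerMap, evalMinors, aeval_X] at h1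
    have : (Matrix.of fun i j => z (i, j)).submatrix (topIdx hdn.le).1 id = 1 := by
      ext s t
      simp [z, Matrix.one_apply, (topIdx hdn.le).2.injective.eq_iff]
    rw [this, Matrix.det_one] at h1
    exact one_ne_zero h1
  exact ⟨G, mul_left_cancel₀ hne (by rw [e]; exact mul_comm _ _)⟩

/-- FFT for `SL_d`. -/
theorem mem_range_pluckerMap_of_invariant [Infinite K] (hd : 0 < d) (hdn : d < n) (f : MatRing K d n)
    (hf : ∀ g : Matrix.SpecialLinearGroup (Fin d) K, rightTranslate K d n g f = f) :
    f ∈ (pluckerMap K d n).range := by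
  classical
  set θ := topIdx hdn.le
  set δ := pluckerMap K d n (X θ)
  let num : Fin n × Fin d → MatRing K d n := fun p =>
    (if p.2 = ⟨0, hd⟩ then δ else 1) * pluckerMap K d n (coord K d n (Function.update θ.1 p.2 p.1))
  obtain ⟨D, G, hG, hGz⟩ := exists_clear f num δ (pluckerMap K d n).range (fun p => by
    refine Subalgebra.mul_mem _ ?_ ⟨_, rfl⟩
    split_ifs
    · exact ⟨_, rfl⟩
    · exact Subalgebra.one_mem _) ⟨_, rfl⟩
  have key : δ ^ D * f = G := by
    have hne : δ ≠ 0 := by
      intro h0
      let z : Fin n × Fin d → K := fun p => if p.1 = θ.1 p.2 then 1 else 0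
      have h1 := congrArg (eval z) h0
      rw [map_zero, eval_pluckerMap, evalMinors, aeval_X] at h1
      have : (Matrix.of fun i j => z (i, j)).submatrix θ.1 id = 1 := by
        ext s t
        simp [z, Matrix.one_apply, θ.2.injective.eq_iff]
      rw [this, Matrix.det_one] at h1
      exact one_ne_zero h1
    refine eq_of_eval_eq hne fun z hz => ?_
    rw [hGz z hz, map_mul, map_pow]
    congr 1
    set A : Matrix (Fin n) (Fin d) K := Matrix.of fun i j => z (i, j)
    have hB : (A.submatrix θ.1 id).det = eval z δ := by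
      simp only [δ, eval_pluckerMap, evalMinors, aeval_X]; rfl
    have hB0 : (A.submatrix θ.1 id).det ≠ 0 := by rw [hB]; exact hz
    set Dg : Fin d → K := fun j => if j = ⟨0, hd⟩ then eval z δ else 1
    let g : Matrix.SpecialLinearGroup (Fin d) K := ⟨(A.submatrix θ.1 id)⁻¹ * Matrix.diagonal Dg, by
      rw [Matrix.det_mul, Matrix.det_diagonal, Matrix.det_nonsing_inv, Finset.prod_ite_eq' Finset.univ]
      rw [if_pos (Finset.mem_univ _), ← hB, Ring.inverse_eq_inv', inv_mul_cancel₀ hB0]⟩
    have h1 := congrArg (eval z) (hf g)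
    rw [rightTranslate, eval_aeval] at h1
    rw [← h1]
    congr 2
    funext ⟨i, j⟩
    have e : (A * ((A.submatrix θ.1 id)⁻¹ * Matrix.diagonal Dg)) i j =
        eval z (num (i, j)) / eval z δ := by
      rw [← Matrix.mul_assoc, Matrix.mul_diagonal]
      simp only [num, map_mul, apply_ite (eval z), map_one, eval_pluckerMap, evalMinors_coord, Dg]
      rw [show (Matrix.of fun i j => z (i, j)) = A from rfl, det_update_eq A θ.1 hB0 i j, hB]
      field_simp
    rw [← e]
    simp [g, Matrix.mul_apply, A]
  have : ∀ D : ℕ, δ ^ D * f ∈ (pluckerMap K d n).range → f ∈ (pluckerMap K d n).range := by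
    intro D
    induction D with
    | zero => simp
    | succ D ih =>
      intro h
      obtain ⟨F, hF⟩ := h
      refine ih (mem_range_of_minor_mul hd hdn (F := F) ?_)
      exact (by rw [pow_succ]; ring : δ * (δ ^ D * f) = δ ^ (D + 1) * f).trans hF.symm
  exact this D (key ▸ hG)

theorem rightTranslate_minor (g : Matrix.SpecialLinearGroup (Fin d) K) (a : Fin d → Fin n) :
    rightTranslate K d n g (minor K d n a) = minor K d n a := by
  unfold minor
  rw [AlgHom.map_det]
  have : (rightTranslate K d n g).mapMatrix (Matrix.of fun s t => (X (a s, t) : MatRing K d n)) =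
      (Matrix.of fun s t => (X (a s, t) : MatRing K d n)) * (g : Matrix (Fin d) (Fin d) K).map C := by
    refine Matrix.ext fun s t => ?_
    simp [rightTranslate, Matrix.mul_apply]
  rw [this, Matrix.det_mul]
  have hg : ((g : Matrix (Fin d) (Fin d) K).map (C : K → MatRing K d n)).det = 1 := by
    have := (RingHom.map_det (C : K →+* MatRing K d n) (g : Matrix (Fin d) (Fin d) K)).symm
    rw [g.2, map_one] at this
    exact this
  rw [hg, mul_one]

theorem invariants_SL [Infinite K] (hd : 0 < d) (hdn : d < n) (f : MatRing K d n) :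
    (∀ g : Matrix.SpecialLinearGroup (Fin d) K, rightTranslate K d n g f = f) ↔
      f ∈ Algebra.adjoin K (Set.range fun θ : Idx d n => minor K d n θ.1) := by
  rw [Algebra.adjoin_range_eq_range_aeval]
  constructor
  · exact mem_range_pluckerMap_of_invariant hd hdn f
  · rintro ⟨F, rfl⟩ g
    show ((rightTranslate K d n g).comp (aeval fun θ : Idx d n => minor K d n θ.1)) F = _
    show _ = (aeval fun θ : Idx d n => minor K d n θ.1) F
    congr 1
    refine MvPolynomial.algHom_ext fun θ => ?_
    simp [rightTranslate_minor]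

/-! ### The cell -/

variable {r : ℕ}

/-- The point `[I ; Z]`. -/
def cellPoint (Z : Fin r × Fin d → K) : Matrix (Fin (d + r)) (Fin d) K :=
  Matrix.of fun i j => if h : i.val < d then (if i.val = j.val then 1 else 0)
    else Z (⟨i.val - d, by omega⟩, j)

theorem eval_cellEval (z : Fin r × Fin d → K) (F : PlRing K d (d + r)) :
    eval z (cellEval K d r F) = evalMinors K d (d + r) (cellPoint z) F := by
  rw [cellEval, eval_aeval, evalMinors, aeval_eq_eval]
  show eval _ F = eval _ F
  congr 2
  funext θ
  rw [cellMinor, RingHom.map_det]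
  congr 1
  refine Matrix.ext fun s t => ?_
  simp only [RingHom.mapMatrix_apply, Matrix.map_apply, Matrix.submatrix_apply, id, cellMatrix, cellPoint,
    Matrix.of_apply]
  split_ifs <;> simp

theorem cellPoint_top (z : Fin r × Fin d → K) : (cellPoint z).submatrix (Fin.castAdd r) id = 1 := by
  ext a b
  simp [cellPoint, Matrix.one_apply, Fin.ext_iff]

theorem cellPoint_low (z : Fin r × Fin d → K) (a : Fin r) (j : Fin d) : cellPoint z (Fin.natAdd d a) j = z (a, j) := by
  simp [cellPoint]

/-- The normalised lower block of a matrix. -/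
noncomputable def lowBlock (A : Matrix (Fin (d + r)) (Fin d) K) : Fin r × Fin d → K :=
  fun p => (A * (A.submatrix (Fin.castAdd r) id)⁻¹) (Fin.natAdd d p.1) p.2

theorem cellPoint_lowBlock (A : Matrix (Fin (d + r)) (Fin d) K) (h : (A.submatrix (Fin.castAdd r) id).det ≠ 0) :
    cellPoint (lowBlock A) = A * (A.submatrix (Fin.castAdd r) id)⁻¹ := by
  set B := A.submatrix (Fin.castAdd r) id
  have e : (A * B⁻¹).submatrix (Fin.castAdd r) id = 1 :=
    (show (A * B⁻¹).submatrix (Fin.castAdd r) id = B * B⁻¹ from rfl).trans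
      (Matrix.mul_nonsing_inv B (isUnit_iff_ne_zero.2 h))
  refine Matrix.ext fun i j => ?_
  obtain ⟨a, rfl⟩ | ⟨a, rfl⟩ : (∃ a, Fin.castAdd r a = i) ∨ ∃ a, Fin.natAdd d a = i := by
    induction i using Fin.addCases with
    | left a => exact Or.inl ⟨a, rfl⟩
    | right a => exact Or.inr ⟨a, rfl⟩
  · have h1 := congrFun (congrFun e a) j
    simp only [Matrix.submatrix_apply, id] at h1
    rw [h1]
    exact congrFun (congrFun (cellPoint_top (lowBlock A)) a) j
  · rw [cellPoint_low]; rfl

/-- Homogenisation from the cell. -/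
theorem exists_homogenization [Infinite K] (f : CellRing K d r) :
    ∃ F : PlRing K d (d + r), cellEval K d r F = f ∧ ∀ A : Matrix (Fin (d + r)) (Fin d) K,
      ((A.submatrix (Fin.castAdd r) id).det = 0 ∨ eval (lowBlock A) f = 0) → evalMinors K d (d + r) A F = 0 := by
  classical
  set θ : Idx d (d + r) := botIdx (Nat.le_add_right d r)
  obtain ⟨D, G, -, hG⟩ := exists_clear f
    (fun p : Fin r × Fin d => coord K d (d + r) (Function.update θ.1 p.2 (Fin.natAdd d p.1)))
    (X θ) ⊤ (fun _ => trivial) trivial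
  let mins : Matrix (Fin (d + r)) (Fin d) K → Idx d (d + r) → K := fun A φ => (A.submatrix φ.1 id).det
  have hev : ∀ A F, evalMinors K d (d + r) A F = eval (mins A) F := fun A F => by
    rw [evalMinors, aeval_eq_eval]
  have key : ∀ A : Matrix (Fin (d + r)) (Fin d) K, (A.submatrix (Fin.castAdd r) id).det ≠ 0 →
      evalMinors K d (d + r) A G = (A.submatrix (Fin.castAdd r) id).det ^ D * eval (lowBlock A) f := by
    intro A hA
    rw [hev, hG _ (by rw [eval_X]; exact hA), eval_X]
    show (A.submatrix (Fin.castAdd r) id).det ^ D * _ = _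
    congr 3
    funext p
    rw [← hev, evalMinors_coord, det_update_eq A θ.1 hA]
    exact mul_div_cancel_right₀ _ hA
  refine ⟨X θ * G, MvPolynomial.funext fun z => ?_, fun A hA => ?_⟩
  · have h1 : ((cellPoint z).submatrix (Fin.castAdd r) id).det = 1 := by rw [cellPoint_top, Matrix.det_one]
    rw [eval_cellEval, map_mul, key _ (by rw [h1]; exact one_ne_zero), evalMinors, aeval_X]
    show ((cellPoint z).submatrix (Fin.castAdd r) id).det * _ = _
    rw [h1, one_pow, one_mul, one_mul]
    congr 2
    funext ⟨a, j⟩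
    simp [lowBlock, cellPoint_top, cellPoint_low]
  · rw [map_mul, evalMinors, aeval_X]
    show (A.submatrix (Fin.castAdd r) id).det * _ = 0
    by_cases h : (A.submatrix (Fin.castAdd r) id).det = 0
    · rw [h, zero_mul]
    · rw [show aeval _ G = evalMinors K d (d + r) A G from rfl, key A h, hA.resolve_left h, mul_zero, mul_zero]

theorem exists_factor {m q n : ℕ} (Z : Matrix (Fin m) (Fin q) K)
    (h : Module.finrank K (Submodule.span K (Set.range Z)) ≤ n) :
    ∃ (U : Matrix (Fin m) (Fin n) K) (W : Matrix (Fin n) (Fin q) K), Z = U * W := by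
  classical
  set E := Submodule.span K (Set.range Z)
  let b := Module.finBasis K E
  let W : Matrix (Fin n) (Fin q) K := Matrix.of fun k => if h : k.val < Module.finrank K E then (b ⟨k, h⟩ : Fin q → K) else 0
  refine ⟨Matrix.of fun a k => if h : k.val < Module.finrank K E
      then b.repr ⟨Z a, Submodule.subset_span ⟨a, rfl⟩⟩ ⟨k, h⟩ else 0, W, Matrix.ext fun a j => ?_⟩
  have h1 := congrArg (fun v : E => (v : Fin q → K) j) (b.sum_repr ⟨Z a, Submodule.subset_span ⟨a, rfl⟩⟩)
  simp only [Submodule.coe_sum, Submodule.coe_smul, Finset.sum_apply, Pi.smul_apply, smul_eq_mul] at h1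
  rw [← h1, Matrix.mul_apply]
  refine Fintype.sum_of_injective (Fin.castLE h) (Fin.castLE_injective _) _ _ (fun k hk => ?_) fun k => ?_
  · have : ¬ k.val < Module.finrank K E := fun hlt => hk ⟨⟨k, hlt⟩, Fin.ext rfl⟩
    simp [W, this]
  · simp [W]

theorem cellPoint_minor_eq_zero {s : ℕ} (hsd : s ≤ d) (hsr : s ≤ r) (U : Matrix (Fin r) (Fin s) K)
    (W : Matrix (Fin s) (Fin d) K) (θ : Idx d (d + r)) (hθ : ¬ θ ≤ rankIdx d r s hsd hsr) :
    ((cellPoint fun p => (U * W) p.1 p.2).submatrix θ.1 id).det = 0 := by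
  classical
  rw [← Matrix.exists_mulVec_eq_zero_iff]
  let P := Finset.univ.filter fun t : Fin d => (θ.1 t).val < d
  let L : (Fin d → K) →ₗ[K] (Fin s → K) × (P → K) :=
    (Matrix.mulVecLin W).prod (LinearMap.pi fun t => LinearMap.proj ⟨(θ.1 t.1).val, (Finset.mem_filter.1 t.2).2⟩)
  have hlt : Module.finrank K ((Fin s → K) × (P → K)) < Module.finrank K (Fin d → K) := by
    rw [Module.finrank_prod, Module.finrank_fintype_fun_eq_card, Module.finrank_fintype_fun_eq_card,
      Module.finrank_fintype_fun_eq_card, Fintype.card_fin, Fintype.card_fin, Fintype.card_coe]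
    have h1 := le_card_of_not_le_rankIdx hθ
    have h2 : P.card + (Finset.univ.filter fun t : Fin d => d ≤ (θ.1 t).val).card = d := by
      simp only [P, ← not_lt]
      rw [Finset.card_filter_add_card_filter_not, Finset.card_univ, Fintype.card_fin]
    omega
  obtain ⟨x, hx, hx0⟩ := Submodule.exists_mem_ne_zero_of_ne_bot (L.ker_ne_bot_of_finrank_lt hlt)
  refine ⟨x, hx0, funext fun t => ?_⟩
  have hxW : W.mulVec x = 0 := congrArg Prod.fst (LinearMap.mem_ker.1 hx)
  have hxP := congrArg Prod.snd (LinearMap.mem_ker.1 hx)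
  simp only [Matrix.mulVec, dotProduct, Matrix.submatrix_apply, id, cellPoint, Matrix.of_apply, Pi.zero_apply]
  by_cases ht : (θ.1 t).val < d
  · simp only [dif_pos ht]
    rw [Finset.sum_eq_single ⟨(θ.1 t).val, ht⟩ (fun b _ hb => by
      rw [if_neg fun e => hb (Fin.ext e.symm), zero_mul]) (by simp)]
    rw [if_pos rfl, one_mul]
    exact congrFun hxP ⟨t, Finset.mem_filter.2 ⟨Finset.mem_univ _, ht⟩⟩
  · simp only [dif_neg ht]
    have := congrFun ((Matrix.mulVec_mulVec x U W).symm.trans (by rw [hxW, Matrix.mulVec_zero]))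
      ⟨(θ.1 t).val - d, by have := (θ.1 t).isLt; omega⟩
    simpa [Matrix.mulVec, dotProduct] using this

/-- A polynomial vanishing on the matrices of rank at most `s` is a combination of `(s+1)`-minors. -/
theorem mem_minorIdeal_of_vanishing [Infinite K] (hd : 0 < d) {s : ℕ} (hsd : s ≤ d) (hsr : s ≤ r) (f : CellRing K d r)
    (hf : ∀ (U : Matrix (Fin r) (Fin s) K) (W : Matrix (Fin s) (Fin d) K),
      eval (fun p => (U * W) p.1 p.2) f = 0) :
    f ∈ CAlgX.minorIdeal (genMatrix K r d) (s + 1) := by
  obtain ⟨F, rfl, hF⟩ := exists_homogenization f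
  refine cellEval_mem_minorIdeal hd hsd hsr ?_
  simp only [schubertVanishing, Submodule.mem_iInf]
  intro A hA
  refine hF A ?_
  by_cases h : (A.submatrix (Fin.castAdd r) id).det = 0
  · exact Or.inl h
  · refine Or.inr ?_
    obtain ⟨U, W, hUW⟩ := exists_factor (Matrix.of fun a j => lowBlock A (a, j)) (finrank_rows_le hsd hsr A hA h)
    have : lowBlock A = fun p => (U * W) p.1 p.2 := funext fun p => congrFun (congrFun hUW p.1) p.2
    rw [this]; exact hf U W

variable {m q : ℕ}

theorem eval_pairingMap (U : Matrix (Fin m) (Fin n) K) (W : Matrix (Fin n) (Fin q) K)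
    (G : MvPolynomial (Fin m × Fin q) K) :
    eval (Sum.elim (fun p => U p.1 p.2) (fun p => W p.1 p.2)) (pairingMap K n m q G) =
      eval (fun p => (U * W) p.1 p.2) G := by
  rw [pairingMap, eval_aeval]
  congr 2
  funext p
  simp [Matrix.mul_apply]

theorem elim_fst_snd (z : (Fin m × Fin n) ⊕ (Fin n × Fin q) → K) :
    z = Sum.elim (fun p => (Matrix.of fun i k => z (Sum.inl (i, k))) p.1 p.2)
      (fun p => (Matrix.of fun k j => z (Sum.inr (k, j))) p.1 p.2) := by
  funext x; cases x <;> rfl

theorem minorIdeal_le_ker_pairingMap [Infinite K] :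
    CAlgX.minorIdeal (genMatrix K m q) (n + 1) ≤ RingHom.ker (pairingMap K n m q).toRingHom := by
  rw [CAlgX.minorIdeal, Ideal.span_le]
  rintro _ ⟨⟨f, g⟩, rfl⟩
  refine MvPolynomial.funext fun z => ?_
  rw [map_zero]
  show eval z (pairingMap K n m q _) = 0
  rw [elim_fst_snd z, eval_pairingMap, RingHom.map_det]
  set U : Matrix (Fin m) (Fin n) K := Matrix.of fun i k => z (Sum.inl (i, k))
  set W : Matrix (Fin n) (Fin q) K := Matrix.of fun k j => z (Sum.inr (k, j))
  rw [show (eval fun p => (U * W) p.1 p.2).mapMatrix ((genMatrix K m q).submatrix f g) =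
      U.submatrix f id * W.submatrix id g from Matrix.ext fun i j => by simp [genMatrix, Matrix.mul_apply]]
  rw [← Matrix.exists_mulVec_eq_zero_iff]
  obtain ⟨x, hx, hx0⟩ := Submodule.exists_mem_ne_zero_of_ne_bot
    ((Matrix.mulVecLin (W.submatrix id g)).ker_ne_bot_of_finrank_lt (by simp))
  refine ⟨x, hx0, ?_⟩
  rw [← Matrix.mulVec_mulVec, show (W.submatrix id g).mulVec x = 0 from LinearMap.mem_ker.1 hx, Matrix.mulVec_zero]

theorem minorIdeal_eq_bot {t : ℕ} (h : m < t ∨ q < t) :
    CAlgX.minorIdeal (genMatrix K m q) t = ⊥ := by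
  rw [CAlgX.minorIdeal, Ideal.span_eq_bot]
  rintro _ ⟨⟨f, g⟩, rfl⟩
  rcases h with h | h
  · obtain ⟨a, b, hab, hne⟩ := Function.not_injective_iff.1 fun hinj : Function.Injective f =>
      absurd (Fintype.card_le_of_injective f hinj) (by simp; omega)
    exact Matrix.det_zero_of_row_eq hne (funext fun x => by simp [hab])
  · obtain ⟨a, b, hab, hne⟩ := Function.not_injective_iff.1 fun hinj : Function.Injective g =>
      absurd (Fintype.card_le_of_injective g hinj) (by simp; omega)
    exact Matrix.det_zero_of_column_eq hne fun x => by simp [hab]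

/-- SFT for `GL_n`. -/
theorem ker_pairingMap [Infinite K] :
    RingHom.ker (pairingMap K n m q).toRingHom = CAlgX.minorIdeal (genMatrix K m q) (n + 1) := by
  refine le_antisymm (fun f hf => ?_) minorIdeal_le_ker_pairingMap
  have hvan : ∀ (U : Matrix (Fin m) (Fin n) K) (W : Matrix (Fin n) (Fin q) K),
      eval (fun p => (U * W) p.1 p.2) f = 0 := fun U W => by
    rw [← eval_pairingMap, show pairingMap K n m q f = 0 from hf, map_zero]
  rcases Nat.eq_zero_or_pos q with rfl | hq
  · have : f = 0 := MvPolynomial.funext fun z => by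
      rw [map_zero, ← hvan 0 0]
      congr 2
      funext p; exact p.2.elim0
    rw [this]; exact Ideal.zero_mem _
  have hs := mem_minorIdeal_of_vanishing hq (s := min n (min m q)) (by omega) (by omega) f fun U W => by
    obtain ⟨U', W', e⟩ := exists_factor (n := n) (U * W) (by
      refine le_trans (Submodule.finrank_mono (?_ : _ ≤ Submodule.span K (Set.range W))) ?_
      · rw [Submodule.span_le]
        rintro _ ⟨a, rfl⟩
        rw [show (U * W) a = ∑ k, U a k • W k from funext fun j => by simp [Matrix.mul_apply]]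
        exact Submodule.sum_mem _ fun k _ => Submodule.smul_mem _ _ (Submodule.subset_span ⟨k, rfl⟩)
      · exact (finrank_range_le_card W).trans (by simp))
    rw [e]; exact hvan U' W'
  rcases Nat.lt_or_ge (min n (min m q)) n with hlt | hge
  · rw [minorIdeal_eq_bot (by omega)] at hs
    rw [(Submodule.mem_bot _).1 hs]
    exact Ideal.zero_mem _
  · rwa [show min n (min m q) = n by omega] at hs

/-- Dividing by the corner minor. -/
theorem mem_range_of_corner_mul [Infinite K] (hn : 0 < n) (hnm : n ≤ m) (hnq : n ≤ q) {h : PairRing K n m q}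
    (hδ : pairingMap K n m q (cornerMinor K q m n hnq hnm) ≠ 0)
    {G : MvPolynomial (Fin m × Fin q) K}
    (e : pairingMap K n m q (cornerMinor K q m n hnq hnm) * h = pairingMap K n m q G) :
    h ∈ (pairingMap K n m q).range := by
  have hq : 0 < q := by omega
  obtain ⟨F, rfl, hF⟩ := exists_homogenization (d := q) (r := m) G
  set φ := rankIdx q m n hnq hnm
  obtain ⟨ε, hε⟩ := cellEval_X_rankIdx (K := K) (d := q) (r := m) hnq hnm
  have hφ : botIdx (Nat.le_add_right q m) < φ := by
    refine lt_of_le_of_ne (botIdx_le _ _) fun h => ?_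
    have h' := congrArg (fun θ : Idx q (q + m) => (θ.1 ⟨q - 1, by omega⟩).val) h
    simp only [φ, botIdx, rankIdx] at h'
    rw [if_neg (by omega)] at h'
    simp only at h'; omega
  have hmem : F ∈ ⨅ ψ ∈ divisors φ, schubertVanishing K q (q + m) ψ := by
    simp only [Submodule.mem_iInf]
    intro ψ hψ
    simp only [schubertVanishing, Submodule.mem_iInf]
    intro A hA
    refine hF A ?_
    by_cases hd0 : (A.submatrix (Fin.castAdd m) id).det = 0
    · exact Or.inl hd0
    refine Or.inr ?_
    have hA' : ∀ θ : Idx q (q + m), ¬ θ ≤ φ → (A.submatrix θ.1 id).det = 0 :=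
      fun θ hθ => hA θ fun hle => hθ (hle.trans hψ.1.le)
    obtain ⟨U, W, hUW⟩ := exists_factor (Matrix.of fun a j => lowBlock A (a, j)) (finrank_rows_le hnq hnm A hA' hd0)
    have hlow : lowBlock A = fun p => (U * W) p.1 p.2 := funext fun p => congrFun (congrFun hUW p.1) p.2
    have hc : eval (lowBlock A) (cornerMinor K q m n hnq hnm) = 0 := by
      have h0 : eval (lowBlock A) (cellEval K q m (X φ)) = 0 := by
        rw [eval_cellEval, evalMinors, aeval_X, cellPoint_lowBlock A hd0, det_submatrix_mul,
          hA φ hψ.1.not_ge, zero_mul]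
      rw [hε] at h0
      rcases Int.units_eq_one_or ε with hh | hh <;> simpa [hh, Units.smul_def] using h0
    rw [hlow, ← eval_pairingMap, ← e, map_mul, eval_pairingMap, ← hlow, hc, zero_mul]
  rw [← schubertVanishing_sup_X hq _ ⟨_, hφ⟩, Submodule.mem_sup] at hmem
  obtain ⟨F₀, hF₀, F₁, hF₁, rfl⟩ := hmem
  obtain ⟨H, rfl⟩ := Ideal.mem_span_singleton'.1 hF₁
  have h0 : pairingMap K n m q (cellEval K q m F₀) = 0 :=
    minorIdeal_le_ker_pairingMap (cellEval_mem_minorIdeal hq hnq hnm hF₀)
  rw [map_add, map_add, h0, zero_add, map_mul, hε, map_mul, Units.smul_def, map_zsmul] at e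
  refine ⟨(ε : ℤ) • cellEval K q m H, mul_left_cancel₀ hδ ?_⟩
  rw [e, AlgHom.toRingHom_eq_coe, RingHom.coe_coe, map_zsmul, mul_smul_comm, mul_smul_comm, mul_comm]

/-- FFT for `GL_n` when `n ≤ m, q`. -/
theorem mem_range_pairingMap_of_le [Infinite K] (hn : 0 < n) (hnm : n ≤ m) (hnq : n ≤ q) (f : PairRing K n m q)
    (hf : ∀ A : GL (Fin n) K, glTranslate K n m q A f = f) : f ∈ (pairingMap K n m q).range := by
  classical
  set last : Fin n → Fin m := fun a => ⟨m - n + a.val, by omega⟩
  set δ := pairingMap K n m q (cornerMinor K q m n hnq hnm)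
  let num : (Fin m × Fin n) ⊕ (Fin n × Fin q) → PairRing K n m q := Sum.elim
    (fun p => pairingMap K n m q
      ((genMatrix K m q).submatrix (Function.update last p.2 p.1) (Fin.castLE hnq)).det)
    (fun p => δ * pairingMap K n m q (X (last p.1, p.2)))
  obtain ⟨D, G, hG, hGz⟩ := exists_clear f num δ (pairingMap K n m q).range (by
    rintro (p | p)
    · exact ⟨_, rfl⟩
    · exact Subalgebra.mul_mem _ ⟨_, rfl⟩ ⟨_, rfl⟩) ⟨_, rfl⟩
  have hev : ∀ (U : Matrix (Fin m) (Fin n) K) (W : Matrix (Fin n) (Fin q) K) (a : Fin n → Fin m),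
      eval (fun p => (U * W) p.1 p.2) ((genMatrix K m q).submatrix a (Fin.castLE hnq)).det =
        ((U * W.submatrix id (Fin.castLE hnq)).submatrix a id).det := fun U W a => by
    rw [RingHom.map_det]
    congr 1
    refine Matrix.ext fun i j => ?_
    simp [genMatrix, Matrix.mul_apply]
  have hne : δ ≠ 0 := by
    intro h0
    let U : Matrix (Fin m) (Fin n) K := Matrix.of fun i k => if i = last k then 1 else 0
    let W : Matrix (Fin n) (Fin q) K := Matrix.of fun k j => if j = Fin.castLE hnq k then 1 else 0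
    have h1 := congrArg (eval (Sum.elim (fun p => U p.1 p.2) (fun p => W p.1 p.2))) h0
    rw [map_zero, eval_pairingMap, cornerMinor, hev] at h1
    have hlast : Function.Injective last := fun a b hab => Fin.ext (by simp [last] at hab; omega)
    have : (U * W.submatrix id (Fin.castLE hnq)).submatrix last id = 1 := by
      refine Matrix.ext fun i j => ?_
      simp [U, W, Matrix.mul_apply, Matrix.one_apply, hlast.eq_iff, eq_comm]
    rw [this, Matrix.det_one] at h1
    exact one_ne_zero h1
  have key : δ ^ D * f = G := by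
    refine eq_of_eval_eq hne fun z hz => ?_
    rw [hGz z hz, map_mul, map_pow]
    congr 1
    set U : Matrix (Fin m) (Fin n) K := Matrix.of fun i k => z (Sum.inl (i, k))
    set W : Matrix (Fin n) (Fin q) K := Matrix.of fun k j => z (Sum.inr (k, j))
    have hz' : z = Sum.elim (fun p => U p.1 p.2) (fun p => W p.1 p.2) := elim_fst_snd z
    set W₁ := W.submatrix id (Fin.castLE hnq)
    set U₂ := U.submatrix last id
    have hδv : eval z δ = ((U * W₁).submatrix last id).det := by
      rw [hz', eval_pairingMap, cornerMinor]; exact hev U W last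
    have hmul : ((U * W₁).submatrix last id).det = U₂.det * W₁.det := det_submatrix_mul U W₁ last
    have hd0 : ((U * W₁).submatrix last id).det ≠ 0 := hδv ▸ hz
    have hU : IsUnit U₂.det := isUnit_iff_ne_zero.2 fun h => hd0 (by rw [hmul, h, zero_mul])
    have hW : IsUnit W₁.det := isUnit_iff_ne_zero.2 fun h => hd0 (by rw [hmul, h, mul_zero])
    let g : GL (Fin n) K := Matrix.nonsingInvUnit U₂ hU
    have h1 := congrArg (eval z) (hf g)
    rw [glTranslate, eval_aeval] at h1
    rw [← h1]
    congr 2
    funext x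
    rcases x with ⟨i, k⟩ | ⟨k, j⟩
    · have e : (U * U₂⁻¹) i k = eval z (num (Sum.inl (i, k))) / eval z δ := by
        have hnum : eval z (num (Sum.inl (i, k))) =
            ((U * W₁).submatrix (Function.update last k i) id).det := by
          rw [hz']; simp only [num, Sum.elim_inl, eval_pairingMap, hev]; rfl
        have h3 : ((U * W₁).submatrix last id)⁻¹ = W₁⁻¹ * U₂⁻¹ := by
          rw [show (U * W₁).submatrix last id = U₂ * W₁ from rfl, Matrix.mul_inv_rev]
        rw [hnum, det_update_eq (U * W₁) last hd0, hδv, h3, ← Matrix.mul_assoc, Matrix.mul_assoc U,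
          Matrix.mul_nonsing_inv W₁ hW, Matrix.mul_one]
        field_simp
      rw [← e]
      simp [g, Matrix.mul_apply, U, Matrix.nonsingInvUnit]
    · have e : (U₂ * W) k j = eval z (num (Sum.inr (k, j))) / eval z δ := by
        simp only [num, Sum.elim_inr, map_mul]
        rw [mul_div_cancel_left₀ _ hz, hz', eval_pairingMap, eval_X]
        rfl
      rw [← e]
      simp [g, Matrix.mul_apply, W, Matrix.nonsingInvUnit]
  have : ∀ D : ℕ, δ ^ D * f ∈ (pairingMap K n m q).range → f ∈ (pairingMap K n m q).range := by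
    intro D
    induction D with
    | zero => simp
    | succ D ih =>
      intro h
      obtain ⟨F, hF⟩ := h
      refine ih (mem_range_of_corner_mul hn hnm hnq hne (G := F) ?_)
      exact (by rw [pow_succ]; ring : δ * (δ ^ D * f) = δ ^ (D + 1) * f).trans hF.symm
  exact this D (key ▸ hG)

theorem glTranslate_pairingMap (A : GL (Fin n) K) (G : MvPolynomial (Fin m × Fin q) K) [Infinite K] :
    glTranslate K n m q A (pairingMap K n m q G) = pairingMap K n m q G := by
  refine MvPolynomial.funext fun z => ?_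
  rw [glTranslate, eval_aeval]
  set U : Matrix (Fin m) (Fin n) K := Matrix.of fun i k => z (Sum.inl (i, k))
  set W : Matrix (Fin n) (Fin q) K := Matrix.of fun k j => z (Sum.inr (k, j))
  set Ai : Matrix (Fin n) (Fin n) K := ((A⁻¹ : GL (Fin n) K) : Matrix (Fin n) (Fin n) K)
  rw [show (fun x => eval z (Sum.elim _ _ x)) = Sum.elim (fun p => (U * Ai) p.1 p.2)
    (fun p => ((A : Matrix (Fin n) (Fin n) K) * W) p.1 p.2) from funext fun x => by
      cases x <;> simp [Matrix.mul_apply, U, W, Ai]]
  conv_rhs => rw [elim_fst_snd z]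
  rw [eval_pairingMap, eval_pairingMap, Matrix.mul_assoc, ← Matrix.mul_assoc Ai, ← Units.val_mul,
    inv_mul_cancel, Units.val_one, Matrix.one_mul]

/-- FFT for `GL_n`. -/
theorem invariants_GL [Infinite K] (f : PairRing K n m q) :
    (∀ A : GL (Fin n) K, glTranslate K n m q A f = f) ↔ f ∈ (pairingMap K n m q).range := by
  constructor
  swap
  · rintro ⟨G, rfl⟩ A; exact glTranslate_pairingMap A G
  intro hf
  rcases Nat.eq_zero_or_pos n with rfl | hn
  · obtain ⟨c, rfl⟩ := MvPolynomial.C_surjective _ f
    exact Subalgebra.algebraMap_mem _ c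
  set m' := max m n
  set q' := max q n
  have hmm : m ≤ m' := le_max_left _ _
  have hqq : q ≤ q' := le_max_left _ _
  let e : (Fin m × Fin n) ⊕ (Fin n × Fin q) → (Fin m' × Fin n) ⊕ (Fin n × Fin q') :=
    Sum.map (fun p => (Fin.castLE hmm p.1, p.2)) (fun p => (p.1, Fin.castLE hqq p.2))
  obtain ⟨G, hG⟩ := mem_range_pairingMap_of_le (m := m') (q := q') hn (le_max_right _ _) (le_max_right _ _)
    (rename e f) fun A => by
      conv_rhs => rw [← hf A]
      rw [← AlgHom.comp_apply, ← AlgHom.comp_apply]
      congr 1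
      refine MvPolynomial.algHom_ext fun x => ?_
      cases x <;> simp [glTranslate, e]
  let ρ : PairRing K n m' q' →ₐ[K] PairRing K n m q := aeval (Sum.elim
    (fun p : Fin m' × Fin n => if h : p.1.val < m then X (Sum.inl (⟨p.1, h⟩, p.2)) else 0)
    (fun p : Fin n × Fin q' => if h : p.2.val < q then X (Sum.inr (p.1, ⟨p.2, h⟩)) else 0))
  let ρ₀ : MvPolynomial (Fin m' × Fin q') K →ₐ[K] MvPolynomial (Fin m × Fin q) K :=
    aeval fun p => if h : p.1.val < m ∧ p.2.val < q then X (⟨p.1, h.1⟩, ⟨p.2, h.2⟩) else 0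
  refine ⟨ρ₀ G, ?_⟩
  have h1 : ρ (rename e f) = f := by
    rw [← AlgHom.comp_apply]
    conv_rhs => rw [← AlgHom.id_apply (R := K) f]
    congr 1
    refine MvPolynomial.algHom_ext fun x => ?_
    rcases x with p | p <;> simp [ρ, e]
  have h2 : ρ (pairingMap K n m' q' G) = pairingMap K n m q (ρ₀ G) := by
    rw [← AlgHom.comp_apply, ← AlgHom.comp_apply]
    congr 1
    refine MvPolynomial.algHom_ext fun p => ?_
    by_cases ha : p.1.val < m <;> by_cases hb : p.2.val < q <;> simp [ρ, ρ₀, pairingMap, ha, hb]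
  show pairingMap K n m q (ρ₀ G) = f
  rw [← h2, ← h1]
  exact congrArg ρ hG

end Groth.Agent.SMT
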