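import Mathlib
import Groth.Agent.SMT.Cell

/-!
# Determinantal ideals as ideals of Plücker coordinates on the opposite cell
-/

open MvPolynomial

namespace Groth.Agent.SMT

open W4bk4grassmannian

universe u

variable {K : Type u} [CommRing K] {d r t : ℕ}

/-- Rows replacing the columns `g a` by the lower rows `f a`. -/
noncomputable def swapRows (f : Fin t → Fin r) (g : Fin t → Fin d) (j : Fin d) : Fin (d + r) :=
  open Classical in if h : ∃ a, g a = j then Fin.natAdd d (f h.choose) else Fin.castAdd r j

theorem swapRows_apply (f : Fin t → Fin r) {g : Fin t → Fin d} (hg : Function.Injective g) (a : Fin t) :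
    swapRows f g (g a) = Fin.natAdd d (f a) := by
  have h : ∃ b, g b = g a := ⟨a, rfl⟩
  rw [swapRows, dif_pos h, hg h.choose_spec]

theorem swapRows_of_notMem (f : Fin t → Fin r) (g : Fin t → Fin d) {j : Fin d} (hj : j ∉ Set.range g) :
    swapRows f g j = Fin.castAdd r j := by
  rw [swapRows, dif_neg fun ⟨a, ha⟩ => hj ⟨a, ha⟩]

theorem det_cellMatrix_swapRows (f : Fin t → Fin r) {g : Fin t → Fin d} (hg : Function.Injective g) :
    ((cellMatrix K d r).submatrix (swapRows f g) id).det = ((genMatrix K r d).submatrix f g).det := by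
  classical
  let C := {j : Fin d // j ∉ Set.range g}
  let e : Fin t ⊕ C ≃ Fin d :=
    (Equiv.sumCongr (Equiv.ofInjective g hg) (Equiv.refl C)).trans (Equiv.sumCompl fun j => j ∈ Set.range g)
  have hl : ∀ a, e (Sum.inl a) = g a := fun a => rfl
  have hr : ∀ c, e (Sum.inr c) = c.1 := fun c => rfl
  rw [← Matrix.det_submatrix_equiv_self e]
  rw [show ((cellMatrix K d r).submatrix (swapRows f g) id).submatrix e e = Matrix.fromBlocks
      ((genMatrix K r d).submatrix f g)
      (Matrix.of fun a (c : C) => (cellMatrix K d r).submatrix (swapRows f g) id (g a) c.1) 0 1 from ?_,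
    Matrix.det_fromBlocks_zero₂₁, Matrix.det_one, mul_one]
  refine Matrix.ext ?_
  rintro (a | c) (b | c')
  · simp only [Matrix.submatrix_apply, id, hl, swapRows_apply f hg, cellMatrix, Matrix.of_apply,
      Matrix.fromBlocks_apply₁₁, genMatrix]
    rw [dif_neg (by simp)]
    refine congrArg (X (R := K)) (Prod.ext (Fin.ext ?_) rfl)
    simp
  · simp [hl, hr]
  · simp only [Matrix.submatrix_apply, id, hl, hr, swapRows_of_notMem f g c.2, cellMatrix, Matrix.of_apply,
      Matrix.fromBlocks_apply₂₁, Matrix.zero_apply]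
    rw [dif_pos (by simp), if_neg]
    exact fun h => c.2 ⟨b, (Fin.ext h).symm⟩
  · simp only [Matrix.submatrix_apply, id, hr, swapRows_of_notMem f g c.2, cellMatrix, Matrix.of_apply,
      Matrix.fromBlocks_apply₂₂, Matrix.one_apply]
    rw [dif_pos (by simp)]
    exact if_congr (Fin.val_inj.trans Subtype.val_inj) rfl rfl

theorem span_cellMinor_eq_minorIdeal (hd : 0 < d) (ht : 0 < t) (htd : t ≤ d) :
    Ideal.span {f : CellRing K d r | ∃ θ : Idx d (d + r),
        d ≤ (θ.1 ⟨d - t, Nat.sub_lt hd ht⟩).val ∧ f = cellMinor K d r θ} =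
      CAlgX.minorIdeal (genMatrix K r d) t := by
  classical
  refine le_antisymm (Ideal.span_le.2 ?_) ?_
  · rintro _ ⟨θ, hθ, rfl⟩
    have hr : 0 < r := by have := (θ.1 ⟨d - t, Nat.sub_lt hd ht⟩).isLt; omega
    obtain ⟨s, rfl⟩ : ∃ s, t = s + 1 := ⟨t - 1, by omega⟩
    refine det_mem_minorIdeal (genMatrix K r d) s d _ (Finset.univ.filter fun u => d ≤ (θ.1 u).val)
      (fun u => ⟨(θ.1 u).val - d, by have := (θ.1 u).isLt; omega⟩) id ?_ fun i hi j => ?_
    · refine le_trans ?_ (Finset.card_le_card
        (show Finset.Ici (⟨d - (s + 1), Nat.sub_lt hd ht⟩ : Fin d) ⊆ _ from fun u hu => ?_))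
      · rw [Fin.card_Ici]; simp only; omega
      · exact Finset.mem_filter.2 ⟨Finset.mem_univ _, hθ.trans (θ.2.monotone (Finset.mem_Ici.1 hu))⟩
    · have := (Finset.mem_filter.1 hi).2
      simp only [Matrix.submatrix_apply, id, cellMatrix, Matrix.of_apply, genMatrix]
      rw [dif_neg (by omega)]
  · refine Ideal.span_le.2 ?_
    rintro _ ⟨⟨f, g⟩, rfl⟩
    dsimp only
    by_cases hg : Function.Injective g
    swap
    · obtain ⟨a, b, hab, hne⟩ := Function.not_injective_iff.1 hg
      rw [Matrix.det_zero_of_column_eq hne fun i => by simp [hab]]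
      exact Ideal.zero_mem _
    by_cases hf : Function.Injective f
    swap
    · obtain ⟨a, b, hab, hne⟩ := Function.not_injective_iff.1 hf
      rw [Matrix.det_zero_of_row_eq hne (by ext j; simp [hab])]
      exact Ideal.zero_mem _
    set u := swapRows f g
    have hu : Function.Injective u := fun a b hab => by
      by_cases ha : a ∈ Set.range g <;> by_cases hb : b ∈ Set.range g
      · obtain ⟨a, rfl⟩ := ha
        obtain ⟨b, rfl⟩ := hb
        simp only [u, swapRows_apply f hg] at hab
        rw [hf (Fin.natAdd_injective _ _ hab)]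
      · obtain ⟨a, rfl⟩ := ha
        simp only [u, swapRows_apply f hg, swapRows_of_notMem f g hb] at hab
        simp [Fin.ext_iff] at hab; omega
      · obtain ⟨b, rfl⟩ := hb
        simp only [u, swapRows_apply f hg, swapRows_of_notMem f g ha] at hab
        simp [Fin.ext_iff] at hab; omega
      · simp only [u, swapRows_of_notMem f g ha, swapRows_of_notMem f g hb] at hab
        exact Fin.castAdd_injective _ _ hab
    have hc := (card_image_eq_iff u).2 hu
    have e := aeval_coord (K := K) (cellMatrix K d r) u
    rw [det_cellMatrix_swapRows f hg, coord_of_card_eq hc, map_mul, aeval_X] at e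
    rw [← e]
    refine Ideal.mul_mem_left _ _ (Ideal.subset_span ⟨sortIdx d (d + r) u hc, ?_, rfl⟩)
    by_contra hlt
    rw [not_le] at hlt
    set θ := sortIdx d (d + r) u hc
    have hsub : Finset.univ.image (fun a => Fin.natAdd d (f a)) ⊆
        (Finset.univ.filter fun s : Fin d => d - t < s.val).image θ.1 := fun x hx => by
      obtain ⟨a, -, rfl⟩ := Finset.mem_image.1 hx
      have hmem : Fin.natAdd d (f a) ∈ Finset.univ.image θ.1 := by
        rw [show Finset.univ.image θ.1 = _ from Finset.image_orderEmbOfFin_univ _ hc]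
        exact Finset.mem_image.2 ⟨g a, Finset.mem_univ _, swapRows_apply f hg a⟩
      obtain ⟨s, -, hs⟩ := Finset.mem_image.1 hmem
      refine Finset.mem_image.2 ⟨s, Finset.mem_filter.2 ⟨Finset.mem_univ _, ?_⟩, hs⟩
      by_contra hle
      have := Fin.le_def.1 (θ.2.monotone (show s ≤ ⟨d - t, Nat.sub_lt hd ht⟩ from Fin.le_def.2 (by simp only; omega)))
      rw [hs] at this
      simp at this
      omega
    have h1 := (Finset.card_le_card hsub).trans Finset.card_image_le
    rw [Finset.card_image_of_injective _ fun a b h => hf (Fin.natAdd_injective _ _ h), Finset.card_univ, Fintype.card_fin] at h1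
    have h2 : (Finset.univ.filter fun s : Fin d => d - t < s.val).card ≤ (Finset.range (t - 1)).card :=
      Finset.card_le_card_of_injOn (fun s => s.val - (d - t + 1)) (fun s hs => by simp at hs ⊢; omega)
        (fun a ha b hb hab => Fin.ext (by simp at ha hb hab; omega))
    simp at h2
    omega

end Groth.Agent.SMT
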