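import Mathlib
import Groth.Prelude.Def_CAlgX
import Groth.Agent.SMT.Chart
import Groth.Agent.SMT.Normal
import Groth.Agent.SMT.CellIdeal
import Groth.Agent.SMT.Invariants
import Groth.Agent.SMT.CohenMacaulay
import Groth.Agent.SMT.LeastCoord

/-!
# Determinantal rings are normal Cohen–Macaulay domains

`K[x]/I_t` is the cone over a Schubert variety cut by `X_ι = 1`; it is a retract of the localization at
`X_ι` and finite free over a polynomial ring in one variable less.
-/

open MvPolynomial

namespace Groth.Agent.SMT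

open W4bk4grassmannian

universe u

/-- A retract of an integrally closed domain is integrally closed. -/
theorem isIntegrallyClosed_of_retract {A B : Type*} [CommRing A] [CommRing B] [IsDomain A] [IsDomain B]
    [IsIntegrallyClosed A] (i : B →+* A) (r : A →+* B) (hr : ∀ x, r (i x) = x) : IsIntegrallyClosed B := by
  have hinj : Function.Injective i := Function.LeftInverse.injective hr
  refine (isIntegrallyClosed_iff (FractionRing B)).2 fun {x} hx => ?_
  have hg : Function.Injective ((algebraMap A (FractionRing A)).comp i) :=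
    (IsFractionRing.injective A _).comp hinj
  let ι : FractionRing B →+* FractionRing A := IsFractionRing.lift hg
  have hι : ∀ b, ι (algebraMap B (FractionRing B) b) = algebraMap A (FractionRing A) (i b) := fun b =>
    IsFractionRing.lift_algebraMap hg b
  obtain ⟨a, ha⟩ : ∃ a, algebraMap A (FractionRing A) a = ι x := by
    refine (isIntegrallyClosed_iff (FractionRing A)).1 inferInstance ?_
    obtain ⟨p, hp, hpx⟩ := hx
    refine ⟨p.map i, hp.map _, ?_⟩
    rw [Polynomial.eval₂_map]
    have := congrArg ι hpx
    rw [map_zero, Polynomial.hom_eval₂] at this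
    rw [← this]
    congr 1
    exact RingHom.ext fun b => (hι b).symm
  obtain ⟨f, g, hg0, rfl⟩ := IsFractionRing.div_surjective (A := B) x
  refine ⟨r a, ?_⟩
  have hg0' : algebraMap B (FractionRing B) g ≠ 0 :=
    fun h => nonZeroDivisors.ne_zero hg0 ((IsFractionRing.injective B _) (by rw [h, map_zero]))
  rw [eq_div_iff hg0', ← map_mul]
  congr 1
  have e : a * i g = i f := by
    apply IsFractionRing.injective A (FractionRing A)
    rw [map_mul, ha, map_div₀, hι, hι, div_mul_cancel₀]
    rw [← hι]
    exact fun h => hg0' (ι.injective (by rw [h, map_zero]))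
  have := congrArg r e
  rwa [map_mul, hr, hr] at this

variable {k : Type u} [Field k] {m n s : ℕ}

theorem codeg_rankIdx (hsn : s ≤ n) (hsm : s ≤ m) :
    codeg (rankIdx n m s hsn hsm) = s * (m + n - s) := by
  classical
  rw [codeg, Finset.sum_congr rfl (fun t _ => show ((rankIdx n m s hsn hsm).1 t).val - t.val =
    if t.val < n - s then s else m by simp only [rankIdx]; split_ifs <;> simp)]
  rw [Finset.sum_ite, Finset.sum_const, Finset.sum_const, smul_eq_mul, smul_eq_mul, Finset.filter_not,
    Finset.card_univ_diff, Fintype.card_fin, Fin.card_filter_val_lt, min_eq_right (Nat.sub_le n s)]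
  obtain ⟨a, rfl⟩ : ∃ a, n = s + a := ⟨n - s, by omega⟩
  rw [Nat.add_sub_cancel_left, show m + (s + a) - s = m + a by omega, show s + a - a = s by omega]
  ring

theorem rankForm_zero (hdn : n ≤ n + m) : rankForm k n (n + m) 0 = X (botIdx hdn) := by
  classical
  rw [rankForm, Finset.sum_eq_single (botIdx hdn)]
  · intro φ hφ hne
    have h := codeg_lt_of_lt (lt_of_le_of_ne (botIdx_le hdn φ) hne.symm)
    rw [(Finset.mem_filter.1 hφ).2] at h
    omega
  · intro h; exact absurd (Finset.mem_filter.2 ⟨Finset.mem_univ _, by simp [codeg, botIdx]⟩) h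

theorem cellEval_coord_update (a : Fin m) (j : Fin n) :
    cellEval k n m (coord k n (n + m) (Function.update (botIdx (Nat.le_add_right n m)).1 j (Fin.natAdd n a))) =
      X (a, j) := by
  rw [cellEval]
  show aeval (fun θ : Idx n (n + m) => ((cellMatrix k n m).submatrix θ.1 id).det) _ = _
  rw [aeval_coord, show (cellMatrix k n m).submatrix
    (Function.update (botIdx (Nat.le_add_right n m)).1 j (Fin.natAdd n a)) id =
      (1 : Matrix (Fin n) (Fin n) (CellRing k n m)).updateRow j (fun l => X (a, l)) from ?_,
    ← Matrix.cramer_transpose_apply, Matrix.transpose_one, Matrix.cramer_one]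
  · rfl
  ext l l'
  rcases eq_or_ne l j with rfl | hl
  · simp [cellMatrix]
  · rw [Matrix.updateRow_ne hl, Matrix.submatrix_apply, Function.update_of_ne hl]
    simp [cellMatrix, botIdx, Matrix.one_apply, Fin.ext_iff]

theorem determinantal [Infinite k] (hn : 0 < n) (hsn : s ≤ n) (hsm : s ≤ m) :
    IsDomain (CellRing k n m ⧸ CAlgX.minorIdeal (genMatrix k m n) (s + 1)) ∧
      IsIntegrallyClosed (CellRing k n m ⧸ CAlgX.minorIdeal (genMatrix k m n) (s + 1)) ∧
      LocCoh.IsCohenMacaulayRing (CellRing k n m ⧸ CAlgX.minorIdeal (genMatrix k m n) (s + 1)) ∧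
      ringKrullDim (CellRing k n m ⧸ CAlgX.minorIdeal (genMatrix k m n) (s + 1)) =
        ((s * (m + n - s) : ℕ) : WithBot ℕ∞) := by
  classical
  set I := CAlgX.minorIdeal (genMatrix k m n) (s + 1)
  set w := rankIdx n m s hsn hsm
  set ι : Idx n (n + m) := botIdx (Nat.le_add_right n m)
  have hιw : ι ≤ w := botIdx_le _ _
  set J := schubertVanishing k n (n + m) w with hJdef
  set D := codeg w
  obtain ⟨hAdom, hAnormal⟩ := isIntegrallyClosed_schubert (k := k) hn w
  set x := Ideal.Quotient.mk J (X ι)
  have hx0 : x ≠ 0 := fun h => X_botIdx_notMem hn (Nat.le_add_right n m) w (Ideal.Quotient.eq_zero_iff_mem.1 h)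
  set L := Localization.Away x
  haveI : IsDomain L := IsLocalization.Away.isDomain L hx0
  haveI : IsIntegrallyClosed L :=
    isIntegrallyClosed_of_isLocalization L (Submonoid.powers x) (powers_le_nonZeroDivisors_of_noZeroDivisors hx0)
  have hLinj : Function.Injective (algebraMap (PlRing k n (n + m) ⧸ J) L) :=
    IsLocalization.injective L (powers_le_nonZeroDivisors_of_noZeroDivisors hx0)
  -- the cell map
  let r₀ : PlRing k n (n + m) ⧸ J →+* CellRing k n m ⧸ I := Ideal.Quotient.lift J
    ((Ideal.Quotient.mk I).comp (cellEval k n m).toRingHom)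
    fun f hf => Ideal.Quotient.eq_zero_iff_mem.2 (cellEval_mem_minorIdeal hn hsn hsm hf)
  have hr₀ : ∀ f, r₀ (Ideal.Quotient.mk J f) = Ideal.Quotient.mk I (cellEval k n m f) := fun f => rfl
  have hr₀x : r₀ x = 1 := by
    rw [hr₀, cellEval, aeval_X, show cellMinor k n m ι = 1 from ?_, map_one]
    rw [cellMinor, show (cellMatrix k n m).submatrix ι.1 id = 1 from ?_, Matrix.det_one]
    ext a b
    simp [ι, cellMatrix, botIdx, Matrix.one_apply, Fin.ext_iff]
  have hr₀surj : Function.Surjective r₀ := fun z => by
    obtain ⟨f, rfl⟩ := Ideal.Quotient.mk_surjective z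
    obtain ⟨F, rfl, -⟩ := exists_homogenization f
    exact ⟨Ideal.Quotient.mk J F, rfl⟩
  let r : L →+* CellRing k n m ⧸ I := IsLocalization.Away.lift x (g := r₀) (by rw [hr₀x]; exact isUnit_one)
  have hr : ∀ a, r (algebraMap _ L a) = r₀ a := fun a => IsLocalization.Away.lift_eq x _ a
  -- the chart map
  let i₁ : CellRing k n m →+* L :=
    eval₂Hom ((toLoc k ι w).comp C) fun p => locMatrix ι w (Fin.natAdd n p.1) p.2
  have hmat : (cellMatrix k n m).map i₁ = locMatrix ι w := by
    refine Matrix.ext fun i j => ?_
    induction i using Fin.addCases with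
    | left l =>
      rw [show Fin.castAdd m l = ι.1 l from rfl, locMatrix_self]
      simp [ι, cellMatrix, botIdx, Fin.ext_iff, apply_ite i₁]
      split_ifs <;> simp_all
    | right a => simp [cellMatrix, i₁]
  have hq : ∀ θ : Idx n (n + m), toLoc k ι w (X θ) = toLoc k ι w (X ι) * i₁ (cellMinor k n m θ) := fun θ => by
    rw [toLoc_X hn hιw θ]
    congr 1
    rw [cellMinor, RingHom.map_det, ← hmat]
    rfl
  have hiI : ∀ f ∈ I, i₁ f = 0 := by
    intro f hf
    by_cases hsn' : s + 1 ≤ n
    swap
    · rw [show I = ⊥ from minorIdeal_eq_bot (Or.inr (by omega)), Ideal.mem_bot] at hf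
      rw [hf, map_zero]
    rw [show I = _ from (span_cellMinor_eq_minorIdeal hn (Nat.succ_pos s) hsn').symm] at hf
    refine (show _ ≤ RingHom.ker i₁ from Ideal.span_le.2 ?_) hf
    rintro _ ⟨θ, hθ, rfl⟩
    refine ((isUnit_toLoc (k := k) ι w).mul_right_eq_zero).1 ?_
    rw [← hq θ]
    refine (congrArg (algebraMap (PlRing k n (n + m) ⧸ J) L)
      (Ideal.Quotient.eq_zero_iff_mem.2 (X_mem_schubertVanishing ?_))).trans (map_zero _)
    rw [le_rankIdx_iff]
    intro hle
    have := hle ⟨n - (s + 1), by omega⟩ (by simp only; omega)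
    simp only [Nat.succ_eq_add_one] at hθ
    omega
  let i : CellRing k n m ⧸ I →+* L := Ideal.Quotient.lift I i₁ hiI
  have hri : ∀ z, r (i z) = z := by
    intro z
    obtain ⟨f, rfl⟩ := Ideal.Quotient.mk_surjective z
    refine DFunLike.congr_fun (MvPolynomial.ringHom_ext (f := r.comp i₁) (g := Ideal.Quotient.mk I) ?_ ?_) f
    · intro c
      simp only [i₁, RingHom.comp_apply, eval₂Hom_C, toLoc]
      refine (hr _).trans ((hr₀ _).trans ?_)
      rw [show cellEval k n m (C c) = C c from (cellEval k n m).commutes c]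
    · intro p
      simp only [i₁, RingHom.comp_apply, eval₂Hom_X']
      have e := congrArg r (toLoc_X_mul_locMatrix (k := k) ι w (Fin.natAdd n p.1) p.2)
      rw [map_mul, show r (toLoc k ι w (X ι)) = 1 from (hr _).trans hr₀x, one_mul,
        show r (toLoc k ι w (chartMatrix k ι (Fin.natAdd n p.1) p.2)) =
          Ideal.Quotient.mk I (cellEval k n m (chartMatrix k ι (Fin.natAdd n p.1) p.2)) from (hr _).trans (hr₀ _)] at e
      rw [e, chartMatrix, Matrix.of_apply, cellEval_coord_update]
  haveI : Nontrivial (CellRing k n m ⧸ I) := by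
    refine Ideal.Quotient.nontrivial_iff.2 fun htop => ?_
    have := hiI 1 (htop ▸ trivial)
    simp at this
  have hiinj : Function.Injective i := Function.LeftInverse.injective hri
  haveI hBdom : IsDomain (CellRing k n m ⧸ I) := Function.Injective.isDomain i hiinj
  refine ⟨hBdom, isIntegrallyClosed_of_retract i r hri, ?_⟩
  -- kernel of the cell map
  have hker : ∀ a, r₀ a = 0 → a ∈ Ideal.span {x - 1} := by
    intro a ha
    obtain ⟨f, rfl⟩ := Ideal.Quotient.mk_surjective a
    set N := f.totalDegree
    have hcomp : ∀ p (F : PlRing k n (n + m)), F.IsHomogeneous p →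
        toLoc k ι w F = toLoc k ι w (X ι) ^ p * i₁ (cellEval k n m F) := by
      intro p F hF
      rw [F.as_sum, map_sum, map_sum, map_sum, Finset.mul_sum]
      refine Finset.sum_congr rfl fun e he => ?_
      have hdeg : ∑ φ ∈ e.support, e φ = p := by
        rw [← Finsupp.degree_apply, Finsupp.degree_eq_weight_one]; exact hF (mem_support_iff.1 he)
      rw [monomial_eq, map_mul, map_mul, map_mul, Finsupp.prod, map_prod, map_prod, map_prod,
        show cellEval k n m (C (coeff e F)) = C (coeff e F) from (cellEval k n m).commutes _, ← hdeg,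
        ← Finset.prod_pow_eq_pow_sum]
      rw [show i₁ (C (coeff e F)) = toLoc k ι w (C (coeff e F)) by simp [i₁], mul_left_comm,
        ← Finset.prod_mul_distrib]
      refine congrArg₂ _ rfl (Finset.prod_congr rfl fun φ _ => ?_)
      simp only [map_pow, cellEval, aeval_X, ← mul_pow, hq φ]
    have h0 : i (r₀ (Ideal.Quotient.mk J f)) = 0 := by rw [ha, map_zero]
    rw [hr₀, show i (Ideal.Quotient.mk I (cellEval k n m f)) = i₁ (cellEval k n m f) from rfl] at h0
    let g : PlRing k n (n + m) := ∑ p ∈ Finset.range (N + 1), homogeneousComponent p f * X ι ^ (N - p)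
    have hg : g ∈ J := by
      rw [← Ideal.Quotient.eq_zero_iff_mem]
      refine hLinj ?_
      rw [map_zero]
      show toLoc k ι w g = 0
      simp only [g, map_sum, map_mul, map_pow]
      rw [Finset.sum_congr rfl fun p hp => show toLoc k ι w (homogeneousComponent p f) * toLoc k ι w (X ι) ^ (N - p) =
          toLoc k ι w (X ι) ^ N * i₁ (cellEval k n m (homogeneousComponent p f)) by
        rw [hcomp p _ (homogeneousComponent_isHomogeneous p f), mul_right_comm, ← pow_add,
          Nat.add_sub_cancel' (Nat.lt_succ_iff.1 (Finset.mem_range.1 hp))]]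
      rw [← Finset.mul_sum, ← map_sum, ← map_sum, sum_homogeneousComponent f, h0, mul_zero]
    have e : Ideal.Quotient.mk J f = Ideal.Quotient.mk J (f - g) := by
      rw [map_sub, Ideal.Quotient.eq_zero_iff_mem.2 hg, sub_zero]
    rw [e]
    have e2 : f - g = ∑ p ∈ Finset.range (N + 1), homogeneousComponent p f * (1 - X ι ^ (N - p)) := by
      conv_lhs => rw [← sum_homogeneousComponent f]
      simp only [g, N, mul_sub, mul_one, Finset.sum_sub_distrib]
    rw [e2, map_sum]
    refine Ideal.sum_mem _ fun p _ => ?_
    rw [map_mul, map_sub, map_one, map_pow]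
    refine Ideal.mul_mem_left _ _ (Ideal.mem_span_singleton.2 ?_)
    have := sub_one_dvd_pow_sub_one x (N - p)
    rw [← dvd_neg, neg_sub] at this
    exact this
  -- freeness
  set θ := rankForms k n (n + m) (D + 1)
  letI := (CMGraded.formsHom J θ).toAlgebra
  obtain ⟨hfree, hfinite⟩ := CMGraded.exists_free J (isHomog_schubertVanishing hn w) θ
    (fun _ => rankForm_isHomogeneous _) (isWeaklyRegular_rankForms hn (Nat.le_add_right n m) D w rfl).1 (by
      have := finite_quotient_rankForms (k := k) hn (fun _ : Unit => w) (m := D + 1) fun _ => Nat.lt_succ_self _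
      rwa [iInf_const] at this)
  set b := Module.Free.chooseBasis (MvPolynomial (Fin (D + 1)) k) (PlRing k n (n + m) ⧸ J)
  let ev : MvPolynomial (Fin (D + 1)) k →ₐ[k] MvPolynomial (Fin D) k := aeval (Fin.lastCases 1 X)
  let f₂ : MvPolynomial (Fin D) k →+* CellRing k n m ⧸ I :=
    (r₀.comp (CMGraded.formsHom J θ)).comp (rename Fin.castSucc).toRingHom
  letI := f₂.toAlgebra
  have hlast : CMGraded.formsHom J θ (X (Fin.last D)) = x := by
    simp [CMGraded.formsHom, θ, rankForms, rankForm_zero (Nat.le_add_right n m), x, ι]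
  have hev : ∀ p, r₀ (CMGraded.formsHom J θ p) = f₂ (ev p) := fun p => by
    refine DFunLike.congr_fun (MvPolynomial.ringHom_ext (f := r₀.comp (CMGraded.formsHom J θ))
      (g := f₂.comp ev.toRingHom) ?_ ?_) p
    · intro c
      simp [f₂, ev]
    · intro j
      induction j using Fin.lastCases with
      | last =>
        simp only [RingHom.comp_apply, hlast, hr₀x]
        simp [ev]
      | cast j => simp [f₂, ev]
  have hsmul : ∀ (p : MvPolynomial (Fin (D + 1)) k) a, r₀ (p • a) = ev p • r₀ a := fun p a => by
    rw [Algebra.smul_def, map_mul, show algebraMap _ (PlRing k n (n + m) ⧸ J) p = CMGraded.formsHom J θ p from rfl, hev,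
      Algebra.smul_def]
    rfl
  haveI : Fintype (Module.Free.ChooseBasisIndex (MvPolynomial (Fin (D + 1)) k) (PlRing k n (n + m) ⧸ J)) :=
    Module.Free.ChooseBasisIndex.fintype _ _
  have hli : LinearIndependent (MvPolynomial (Fin D) k) (r₀ ∘ b) := by
    rw [Fintype.linearIndependent_iff]
    intro c hc j
    have h0 : r₀ (∑ j, rename Fin.castSucc (c j) • b j) = 0 := by
      rw [← hc, map_sum]
      refine Finset.sum_congr rfl fun j _ => ?_
      rw [hsmul]
      congr 1
      rw [aeval_rename]
      conv_rhs => rw [← aeval_X_left_apply (c j)]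
      congr 2
      funext l
      simp
    obtain ⟨a, ha⟩ := Ideal.mem_span_singleton'.1 (hker _ h0)
    have e1 : a * (x - 1) = (X (Fin.last D) - 1 : MvPolynomial (Fin (D + 1)) k) • a := by
      rw [Algebra.smul_def, map_sub, map_one, mul_comm]
      congr 2
      exact hlast.symm
    rw [e1] at ha
    have e2 := congrArg (fun v => b.repr v j) ha
    simp only [map_smul, Finsupp.smul_apply, smul_eq_mul, b.repr_sum_self] at e2
    have := congrArg ev e2
    simp only [map_mul, map_sub, map_one, ev, aeval_X, Fin.lastCases_last, sub_self, zero_mul] at this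
    rw [aeval_rename] at this
    rw [this]
    conv_lhs => rw [← aeval_X_left_apply (c j)]
    congr 2
    funext l
    simp
  have hspan : ⊤ ≤ Submodule.span (MvPolynomial (Fin D) k) (Set.range (r₀ ∘ b)) := by
    rintro z -
    obtain ⟨a, rfl⟩ := hr₀surj z
    rw [← b.sum_repr a, map_sum]
    refine Submodule.sum_mem _ fun j _ => ?_
    rw [hsmul]
    exact Submodule.smul_mem _ _ (Submodule.subset_span ⟨j, rfl⟩)
  let basis := Module.Basis.mk hli hspan
  haveI : Module.Free (MvPolynomial (Fin D) k) (CellRing k n m ⧸ I) := Module.Free.of_basis basis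
  haveI : Module.Finite (MvPolynomial (Fin D) k) (CellRing k n m ⧸ I) := Module.Finite.of_basis basis
  refine ⟨CMGraded.isCohenMacaulayRing_of_finite_flat (MvPolynomial (Fin D) k) _, ?_⟩
  rw [← codeg_rankIdx hsn hsm]
  haveI : Algebra.IsIntegral (MvPolynomial (Fin D) k) (CellRing k n m ⧸ I) := Algebra.IsIntegral.of_finite _ _
  have e : ringKrullDim (CellRing k n m ⧸ I) = ringKrullDim (MvPolynomial (Fin D) k) :=
    le_antisymm ringKrullDim_le_of_isIntegral (ZetaPts.ringKrullDim_le_of_integral_injective
      (algebraMap (MvPolynomial (Fin D) k) _) (FaithfulSMul.algebraMap_injective _ _)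
      (algebraMap_isIntegral_iff.2 inferInstance))
  rw [e, MvPolynomial.ringKrullDim_of_isNoetherianRing, ringKrullDim_eq_zero_of_field, zero_add, Nat.card_fin]

end Groth.Agent.SMT
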