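import Mathlib
import Groth.Agent.SMT.CellIdeal

/-!
# Minors as indices of the opposite cell

The minor `[A | B]` corresponds to the index with row set `([n] ∖ B) ∪ (n + rev A)`; its counting function
shows that this correspondence turns the order on minors into the entrywise order.
-/

open MvPolynomial

namespace Groth.Agent.SMT

open W4bk4grassmannian

universe u

/-- Number of entries below `x`. -/
def cnt {l N : ℕ} (a : Fin l → Fin N) (x : ℕ) : ℕ := (Finset.univ.filter fun t => (a t).val < x).card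

theorem lt_cnt_iff {l N : ℕ} {a : Fin l → Fin N} (ha : StrictMono a) (t : Fin l) (x : ℕ) :
    t.val < cnt a x ↔ (a t).val < x := by
  constructor
  · intro h
    by_contra hge
    have hsub : (Finset.univ.filter fun u => (a u).val < x) ⊆ Finset.Iio t := fun u hu => by
      rw [Finset.mem_Iio]
      by_contra hut
      have := Fin.le_def.1 (ha.monotone (not_lt.1 hut))
      have := (Finset.mem_filter.1 hu).2
      omega
    have := Finset.card_le_card hsub
    rw [Fin.card_Iio] at this
    rw [cnt] at h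
    omega
  · intro h
    refine lt_of_lt_of_le (Nat.lt_succ_self t.val) ?_
    rw [Nat.succ_eq_add_one, ← Fin.card_Iic, cnt]
    refine Finset.card_le_card fun u hu => Finset.mem_filter.2 ⟨Finset.mem_univ _, ?_⟩
    exact lt_of_le_of_lt (Fin.le_def.1 (ha.monotone (Finset.mem_Iic.1 hu))) h

theorem cnt_le {l N : ℕ} (a : Fin l → Fin N) (x : ℕ) : cnt a x ≤ l := by
  simpa [cnt] using (Finset.univ.filter fun t => (a t).val < x).card_le_univ

theorem cnt_top {l N : ℕ} (a : Fin l → Fin N) {x : ℕ} (h : N ≤ x) : cnt a x = l := by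
  rw [cnt, Finset.filter_true_of_mem fun t _ => lt_of_lt_of_le (a t).isLt h, Finset.card_univ, Fintype.card_fin]

theorem le_iff_cnt {d N : ℕ} (θ θ' : Idx d N) : θ ≤ θ' ↔ ∀ x, cnt θ'.1 x ≤ cnt θ.1 x := by
  constructor
  · intro h x
    exact Finset.card_le_card fun t ht => Finset.mem_filter.2
      ⟨Finset.mem_univ _, lt_of_le_of_lt (Fin.le_def.1 (h t)) (Finset.mem_filter.1 ht).2⟩
  · intro h t
    have := (lt_cnt_iff θ'.2 t ((θ'.1 t).val + 1)).2 (Nat.lt_succ_self _)
    have := (lt_cnt_iff θ.2 t _).1 (lt_of_lt_of_le this (h _))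
    rw [Fin.le_def]; omega

theorem cnt_le_cnt_iff {l l' N : ℕ} {a : Fin l → Fin N} {a' : Fin l' → Fin N} (ha : StrictMono a)
    (ha' : StrictMono a') :
    (∀ x, cnt a x ≤ cnt a' x) ↔ l ≤ l' ∧ ∀ (j : Fin l) (j' : Fin l'), j.val = j'.val → a' j' ≤ a j := by
  constructor
  · intro h
    refine ⟨by have := h N; rwa [cnt_top a le_rfl, cnt_top a' le_rfl] at this, fun j j' hj => ?_⟩
    have h1 := (lt_cnt_iff ha j ((a j).val + 1)).2 (Nat.lt_succ_self _)
    have h2 := (lt_cnt_iff ha' j' _).1 (hj ▸ lt_of_lt_of_le h1 (h _))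
    rw [Fin.le_def]; omega
  · rintro ⟨hl, h⟩ x
    by_contra hlt
    rw [not_le] at hlt
    have hlt' : cnt a' x < l := lt_of_lt_of_le hlt (cnt_le a x)
    have h1 := (lt_cnt_iff ha ⟨cnt a' x, hlt'⟩ x).1 hlt
    have h2 := Fin.le_def.1 (h ⟨cnt a' x, hlt'⟩ ⟨cnt a' x, by omega⟩ rfl)
    have h3 := (lt_cnt_iff ha' ⟨cnt a' x, by omega⟩ x).2 (by omega)
    simp at h3

variable {m n : ℕ}

theorem minorGE_iff_cnt (M M' : MinorIdx m n) :
    MinorGE M M' ↔ (∀ x, cnt M.2.1.1 x ≤ cnt M'.2.1.1 x) ∧ ∀ x, cnt M.2.2.1 x ≤ cnt M'.2.2.1 x := by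
  rw [cnt_le_cnt_iff M.2.1.2 M'.2.1.2, cnt_le_cnt_iff M.2.2.2 M'.2.2.2, MinorGE]
  refine ⟨fun ⟨h1, h2⟩ => ⟨⟨by omega, fun j j' e => (h2 j j' e).1⟩, ⟨by omega, fun j j' e => (h2 j j' e).2⟩⟩,
    fun ⟨⟨h1, h2⟩, ⟨_, h3⟩⟩ => ⟨by omega, fun j j' e => ⟨h2 j j' e, h3 j j' e⟩⟩⟩

theorem minorIdx_ext {M M' : MinorIdx m n} (hA : ∀ x, cnt M.2.1.1 x = cnt M'.2.1.1 x)
    (hB : ∀ x, cnt M.2.2.1 x = cnt M'.2.2.1 x) : M = M' := by
  obtain ⟨s, A, B⟩ := M
  obtain ⟨s', A', B'⟩ := M'
  have h1 := (cnt_le_cnt_iff A.2 A'.2).1 fun x => (hA x).le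
  have h2 := (cnt_le_cnt_iff A'.2 A.2).1 fun x => (hA x).ge
  obtain rfl : s = s' := by have := h1.1; have := h2.1; omega
  have h3 := (cnt_le_cnt_iff B.2 B'.2).1 fun x => (hB x).le
  have h4 := (cnt_le_cnt_iff B'.2 B.2).1 fun x => (hB x).ge
  have eA : A = A' := Subtype.ext (funext fun j => le_antisymm (h2.2 j j rfl) (h1.2 j j rfl))
  have eB : B = B' := Subtype.ext (funext fun j => le_antisymm (h4.2 j j rfl) (h3.2 j j rfl))
  rw [eA, eB]

theorem card_image_swapRows {t : ℕ} {f : Fin t → Fin m} (hf : Function.Injective f) {g : Fin t → Fin n}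
    (hg : Function.Injective g) : (Finset.univ.image (swapRows f g)).card = n := by
  rw [card_image_eq_iff]
  intro a b hab
  by_cases ha : a ∈ Set.range g <;> by_cases hb : b ∈ Set.range g
  · obtain ⟨a, rfl⟩ := ha
    obtain ⟨b, rfl⟩ := hb
    rw [swapRows_apply f hg, swapRows_apply f hg] at hab
    rw [hf (Fin.natAdd_injective _ _ hab)]
  · obtain ⟨a, rfl⟩ := ha
    rw [swapRows_apply f hg, swapRows_of_notMem f g hb] at hab
    simp [Fin.ext_iff] at hab; omega
  · obtain ⟨b, rfl⟩ := hb
    rw [swapRows_apply f hg, swapRows_of_notMem f g ha] at hab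
    simp [Fin.ext_iff] at hab; omega
  · rw [swapRows_of_notMem f g ha, swapRows_of_notMem f g hb] at hab
    exact Fin.castAdd_injective _ _ hab

theorem castAdd_mem_image_swapRows {t : ℕ} (f : Fin t → Fin m) {g : Fin t → Fin n}
    (hg : Function.Injective g) (j : Fin n) :
    Fin.castAdd m j ∈ Finset.univ.image (swapRows f g) ↔ j ∉ Set.range g := by
  constructor
  · rintro h ⟨a, rfl⟩
    obtain ⟨i, -, hi⟩ := Finset.mem_image.1 h
    by_cases hir : i ∈ Set.range g
    · obtain ⟨b, rfl⟩ := hir
      rw [swapRows_apply f hg] at hi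
      simp [Fin.ext_iff] at hi; omega
    · rw [swapRows_of_notMem f g hir] at hi
      exact hir ⟨a, (Fin.castAdd_injective _ _ hi).symm⟩
  · exact fun h => Finset.mem_image.2 ⟨j, Finset.mem_univ _, swapRows_of_notMem f g h⟩

theorem natAdd_mem_image_swapRows {t : ℕ} (f : Fin t → Fin m) {g : Fin t → Fin n}
    (hg : Function.Injective g) (a : Fin m) :
    Fin.natAdd n a ∈ Finset.univ.image (swapRows f g) ↔ a ∈ Set.range f := by
  constructor
  · intro h
    obtain ⟨i, -, hi⟩ := Finset.mem_image.1 h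
    by_cases hir : i ∈ Set.range g
    · obtain ⟨b, rfl⟩ := hir
      rw [swapRows_apply f hg] at hi
      exact ⟨b, Fin.natAdd_injective _ _ hi⟩
    · rw [swapRows_of_notMem f g hir] at hi
      simp [Fin.ext_iff] at hi; omega
  · rintro ⟨b, rfl⟩
    exact Finset.mem_image.2 ⟨g b, Finset.mem_univ _, swapRows_apply f hg b⟩

/-- The index of a minor on the opposite cell. -/
noncomputable def toIdx (M : MinorIdx m n) : Idx n (n + m) :=
  sortIdx n (n + m) (swapRows (Fin.rev ∘ M.2.1.1) M.2.2.1)
    (card_image_swapRows (Fin.rev_injective.comp M.2.1.2.injective) M.2.2.2.injective)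

theorem image_toIdx (M : MinorIdx m n) :
    Finset.univ.image (toIdx M).1 = Finset.univ.image (swapRows (Fin.rev ∘ M.2.1.1) M.2.2.1) :=
  Finset.image_orderEmbOfFin_univ _ _

theorem cnt_toIdx_of_le (M : MinorIdx m n) {x : ℕ} (hx : x ≤ n) :
    cnt (toIdx M).1 x + cnt M.2.2.1 x = x := by
  classical
  obtain ⟨s, A, B⟩ := M
  have e1 : cnt (toIdx (⟨s, A, B⟩ : MinorIdx m n)).1 x =
      (Finset.univ.filter fun j : Fin n => j ∉ Finset.univ.image B.1 ∧ j.val < x).card := by
    rw [cnt, ← Finset.card_image_of_injective _ (toIdx (⟨s, A, B⟩ : MinorIdx m n)).2.injective,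
      ← Finset.card_image_of_injective (Finset.univ.filter _) (Fin.castAdd_injective n m)]
    congr 1
    ext y
    induction y using Fin.addCases with
    | left j =>
      rw [Finset.mem_image, Finset.mem_image]
      constructor
      · rintro ⟨t, ht, hty⟩
        refine ⟨j, Finset.mem_filter.2 ⟨Finset.mem_univ _, ?_, ?_⟩, rfl⟩
        · have hm : Fin.castAdd m j ∈ Finset.univ.image (toIdx (⟨s, A, B⟩ : MinorIdx m n)).1 :=
            Finset.mem_image.2 ⟨t, Finset.mem_univ _, hty⟩
          rw [image_toIdx, castAdd_mem_image_swapRows _ B.2.injective] at hm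
          simpa using hm
        · have := (Finset.mem_filter.1 ht).2
          rw [hty] at this; simpa using this
      · rintro ⟨j', hj', he⟩
        obtain rfl := Fin.castAdd_injective _ _ he
        obtain ⟨-, hj1, hj2⟩ := Finset.mem_filter.1 hj'
        have hm : Fin.castAdd m j' ∈ Finset.univ.image (toIdx (⟨s, A, B⟩ : MinorIdx m n)).1 := by
          rw [image_toIdx, castAdd_mem_image_swapRows _ B.2.injective]
          simpa using hj1
        obtain ⟨t, -, ht⟩ := Finset.mem_image.1 hm
        exact ⟨t, Finset.mem_filter.2 ⟨Finset.mem_univ _, by rw [ht]; simpa using hj2⟩, ht⟩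
    | right a =>
      refine iff_of_false ?_ ?_
      · rw [Finset.mem_image]
        rintro ⟨t, ht, hta⟩
        have := (Finset.mem_filter.1 ht).2
        rw [hta] at this; simp at this; omega
      · rw [Finset.mem_image]
        rintro ⟨j, -, hj⟩
        simp [Fin.ext_iff] at hj; omega
  have e2 : cnt B.1 x = (Finset.univ.filter fun j : Fin n => j ∈ Finset.univ.image B.1 ∧ j.val < x).card := by
    rw [cnt, ← Finset.card_image_of_injective _ B.2.injective]
    congr 1
    ext j
    simp only [Finset.mem_image, Finset.mem_filter, Finset.mem_univ, true_and]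
    constructor
    · rintro ⟨t, ht, rfl⟩; exact ⟨⟨t, rfl⟩, ht⟩
    · rintro ⟨⟨t, rfl⟩, ht⟩; exact ⟨t, ht, rfl⟩
  have e3 : (Finset.univ.filter fun j : Fin n => j.val < x).card = x := by
    rw [Fin.card_filter_val_lt, min_eq_right hx]
  show cnt (toIdx (⟨s, A, B⟩ : MinorIdx m n)).1 x + cnt B.1 x = x
  rw [e1, e2, add_comm]
  conv_rhs => rw [← e3]
  rw [← Finset.card_filter_add_card_filter_not (s := Finset.univ.filter fun j : Fin n => j.val < x)
    (fun j => j ∈ Finset.univ.image B.1), Finset.filter_filter, Finset.filter_filter]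
  simp only [and_comm]

theorem cnt_toIdx_add (M : MinorIdx m n) {y : ℕ} (hy : y ≤ m) :
    cnt (toIdx M).1 (n + y) + cnt M.2.1.1 (m - y) = n := by
  classical
  obtain ⟨s, A, B⟩ := M
  set θ := toIdx (⟨s, A, B⟩ : MinorIdx m n)
  show cnt θ.1 (n + y) + cnt A.1 (m - y) = n
  have e1 : (Finset.univ.filter fun t => ¬ (θ.1 t).val < n + y).card = cnt A.1 (m - y) := by
    rw [cnt, ← Finset.card_image_of_injective _ θ.2.injective,
      ← Finset.card_image_of_injective (Finset.univ.filter fun t => (A.1 t).val < m - y)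
        ((Fin.natAdd_injective m n).comp (Fin.rev_injective.comp A.2.injective))]
    congr 1
    ext z
    induction z using Fin.addCases with
    | left j =>
      refine iff_of_false ?_ ?_
      · rw [Finset.mem_image]
        rintro ⟨t, ht, htj⟩
        have := (Finset.mem_filter.1 ht).2
        rw [htj] at this; simp at this; omega
      · rw [Finset.mem_image]
        rintro ⟨t, -, ht⟩
        simp [Fin.ext_iff] at ht; omega
    | right a =>
      rw [Finset.mem_image, Finset.mem_image]
      constructor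
      · rintro ⟨t, ht, hta⟩
        have hm : Fin.natAdd n a ∈ Finset.univ.image θ.1 := Finset.mem_image.2 ⟨t, Finset.mem_univ _, hta⟩
        rw [image_toIdx, natAdd_mem_image_swapRows _ B.2.injective] at hm
        obtain ⟨b, hb⟩ := hm
        refine ⟨b, Finset.mem_filter.2 ⟨Finset.mem_univ _, ?_⟩, by simp only [Function.comp_apply] at hb ⊢; rw [hb]⟩
        have := (Finset.mem_filter.1 ht).2
        rw [hta] at this
        simp only [Function.comp_apply] at hb
        rw [Fin.ext_iff, Fin.val_rev] at hb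
        simp at this; omega
      · rintro ⟨b, hb, he⟩
        simp only [Function.comp_apply] at he
        obtain rfl := Fin.natAdd_injective _ _ he
        have hm : Fin.natAdd n (A.1 b).rev ∈ Finset.univ.image θ.1 := by
          rw [image_toIdx, natAdd_mem_image_swapRows _ B.2.injective]
          exact ⟨b, rfl⟩
        obtain ⟨t, -, ht⟩ := Finset.mem_image.1 hm
        refine ⟨t, Finset.mem_filter.2 ⟨Finset.mem_univ _, ?_⟩, ht⟩
        have := (Finset.mem_filter.1 hb).2
        rw [ht]; simp [Fin.val_rev]; omega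
  rw [← e1, cnt, Finset.card_filter_add_card_filter_not, Finset.card_univ, Fintype.card_fin]

theorem toIdx_le_iff (M M' : MinorIdx m n) : toIdx M ≤ toIdx M' ↔ MinorGE M M' := by
  rw [le_iff_cnt, minorGE_iff_cnt]
  constructor
  · intro h
    refine ⟨fun x => ?_, fun x => ?_⟩
    · by_cases hx : x ≤ m
      · have := h (n + (m - x))
        have e1 := cnt_toIdx_add M (Nat.sub_le m x)
        have e2 := cnt_toIdx_add M' (Nat.sub_le m x)
        rw [Nat.sub_sub_self hx] at e1 e2
        omega
      · have := h n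
        have e1 := cnt_toIdx_of_le M le_rfl
        have e2 := cnt_toIdx_of_le M' le_rfl
        rw [cnt_top _ le_rfl] at e1 e2
        rw [cnt_top _ (by omega), cnt_top _ (by omega)]
        omega
    · by_cases hx : x ≤ n
      · have := h x
        have := cnt_toIdx_of_le M hx
        have := cnt_toIdx_of_le M' hx
        omega
      · have := h n
        have e1 := cnt_toIdx_of_le M le_rfl
        have e2 := cnt_toIdx_of_le M' le_rfl
        rw [cnt_top _ le_rfl] at e1 e2
        rw [cnt_top _ (by omega), cnt_top _ (by omega)]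
        omega
  · rintro ⟨hA, hB⟩ x
    by_cases hx : x ≤ n
    · have := cnt_toIdx_of_le M hx
      have := cnt_toIdx_of_le M' hx
      have := hB x
      omega
    by_cases hy : x - n ≤ m
    · have e1 := cnt_toIdx_add M hy
      have e2 := cnt_toIdx_add M' hy
      rw [show n + (x - n) = x by omega] at e1 e2
      have := hA (m - (x - n))
      omega
    · rw [cnt_top _ (by omega), cnt_top _ (by omega)]

theorem toIdx_injective : Function.Injective (toIdx (m := m) (n := n)) := fun M M' h => by
  have h1 := (minorGE_iff_cnt M M').1 ((toIdx_le_iff M M').1 h.le)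
  have h2 := (minorGE_iff_cnt M' M).1 ((toIdx_le_iff M' M).1 h.ge)
  exact minorIdx_ext (fun x => le_antisymm (h1.1 x) (h2.1 x)) (fun x => le_antisymm (h1.2 x) (h2.2 x))

theorem toIdx_le_rankIdx_iff {s : ℕ} {hsn : s ≤ n} {hsm : s ≤ m} (M : MinorIdx m n) :
    toIdx M ≤ rankIdx n m s hsn hsm ↔ M.1 + 1 ≤ s := by
  have e := cnt_toIdx_of_le M (le_refl n)
  rw [cnt_top _ le_rfl] at e
  rw [le_rankIdx_iff]
  constructor
  · intro h
    by_contra hlt
    have hlt' : cnt (toIdx M).1 n < n - s := by omega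
    exact lt_irrefl _ ((lt_cnt_iff (toIdx M).2 ⟨cnt (toIdx M).1 n, by omega⟩ n).2 (h _ hlt'))
  · intro h t ht
    exact (lt_cnt_iff (toIdx M).2 t n).1 (by omega)

theorem toIdx_ne_botIdx (M : MinorIdx m n) : toIdx M ≠ botIdx (Nat.le_add_right n m) := by
  intro h
  have e := cnt_toIdx_of_le M (le_refl n)
  rw [cnt_top _ le_rfl, h, cnt, Finset.filter_true_of_mem fun t _ => by simp [botIdx], Finset.card_univ,
    Fintype.card_fin] at e
  omega

theorem exists_toIdx {θ : Idx n (n + m)} (h : θ ≠ botIdx (Nat.le_add_right n m)) :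
    ∃ M : MinorIdx m n, toIdx M = θ := by
  classical
  set T := Finset.univ.image θ.1
  have hT : T.card = n := (card_image_eq_iff θ.1).2 θ.2.injective
  set L := Finset.univ.filter fun a : Fin m => Fin.natAdd n a.rev ∈ T
  set C := Finset.univ.filter fun j : Fin n => Fin.castAdd m j ∉ T
  have hsplit : T = Cᶜ.image (Fin.castAdd m) ∪ L.image (fun a => Fin.natAdd n a.rev) := by
    ext y
    induction y using Fin.addCases with
    | left j =>
      simp only [Finset.mem_union, Finset.mem_image]
      refine ⟨fun hy => Or.inl ⟨j, by simp [C, hy], rfl⟩, ?_⟩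
      rintro (⟨j', hj', he⟩ | ⟨b, -, he⟩)
      · obtain rfl := Fin.castAdd_injective _ _ he
        simpa [C] using hj'
      · simp [Fin.ext_iff] at he; omega
    | right a =>
      simp only [Finset.mem_union, Finset.mem_image]
      refine ⟨fun hy => Or.inr ⟨a.rev, Finset.mem_filter.2 ⟨Finset.mem_univ _, by rwa [Fin.rev_rev]⟩, by rw [Fin.rev_rev]⟩, ?_⟩
      rintro (⟨j, -, hj⟩ | ⟨b, hb, he⟩)
      · simp [Fin.ext_iff] at hj; omega
      · rw [← he]; exact (Finset.mem_filter.1 hb).2
  have hcard : L.card = C.card := by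
    have := hT
    rw [hsplit, Finset.card_union_of_disjoint, Finset.card_image_of_injective _ (Fin.castAdd_injective _ _),
      Finset.card_image_of_injective _ (fun a b hab => Fin.rev_injective (Fin.natAdd_injective _ _ hab)),
      Finset.card_compl, Fintype.card_fin] at this
    · have := C.card_le_univ
      simp at this
      omega
    · rw [Finset.disjoint_left]
      intro y hy hy'
      obtain ⟨j, -, rfl⟩ := Finset.mem_image.1 hy
      obtain ⟨b, -, hb⟩ := Finset.mem_image.1 hy'
      simp [Fin.ext_iff] at hb; omega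
  have hpos : L.card ≠ 0 := fun h0 => by
    apply h
    rw [Finset.card_eq_zero] at h0
    rw [h0, Finset.card_empty, eq_comm, Finset.card_eq_zero] at hcard
    have hlow : ∀ t, (θ.1 t).val < n := fun t => by
      have hm : θ.1 t ∈ T := Finset.mem_image_of_mem _ (Finset.mem_univ t)
      rw [hsplit, h0, hcard] at hm
      obtain ⟨j, -, hj⟩ := Finset.mem_image.1 (by simpa using hm : θ.1 t ∈ Finset.univ.image (Fin.castAdd m))
      rw [← hj]; simp
    refine le_antisymm (fun t => ?_) (botIdx_le _ θ)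
    let θ' : Idx n n := ⟨fun s => ⟨(θ.1 s).val, hlow s⟩, fun a b hab => Fin.lt_def.2 (Fin.lt_def.1 (θ.2 hab))⟩
    have := Fin.le_def.1 (le_topIdx le_rfl θ' t)
    simp only [topIdx, θ', Nat.sub_self, zero_add] at this
    rw [Fin.le_def]; exact this
  obtain ⟨s, hs⟩ : ∃ s, L.card = s + 1 := ⟨L.card - 1, by omega⟩
  let M : MinorIdx m n := ⟨s, ⟨L.orderEmbOfFin hs, (L.orderEmbOfFin hs).strictMono⟩,
    ⟨C.orderEmbOfFin (hcard ▸ hs), (C.orderEmbOfFin (hcard ▸ hs)).strictMono⟩⟩
  refine ⟨M, Subtype.ext (funext fun t => ?_)⟩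
  have himg : Finset.univ.image (toIdx M).1 = T := by
    refine Finset.eq_of_subset_of_card_le (fun y hy => ?_)
      (by rw [hT, (card_image_eq_iff (toIdx M).1).2 (toIdx M).2.injective])
    rw [image_toIdx] at hy
    induction y using Fin.addCases with
    | left j =>
      rw [castAdd_mem_image_swapRows _ M.2.2.2.injective] at hy
      by_contra hj
      refine hy ?_
      have hjC : j ∈ (C : Set (Fin n)) := Finset.mem_filter.2 ⟨Finset.mem_univ _, hj⟩
      rw [← Finset.range_orderEmbOfFin C (hcard ▸ hs)] at hjC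
      exact hjC
    | right a =>
      rw [natAdd_mem_image_swapRows _ M.2.2.2.injective] at hy
      obtain ⟨b, rfl⟩ := hy
      exact (Finset.mem_filter.1 (Finset.orderEmbOfFin_mem L hs b)).2
  refine congrFun ((Finset.orderEmbOfFin_unique hT (fun u => ?_) (toIdx M).2).trans
    (Finset.orderEmbOfFin_unique hT (fun u => Finset.mem_image_of_mem _ (Finset.mem_univ u)) θ.2).symm) t
  rw [← himg]; exact Finset.mem_image_of_mem _ (Finset.mem_univ u)

variable {K : Type u} [CommRing K]

theorem cellMinor_toIdx (M : MinorIdx m n) :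
    ∃ ε : ℕ, ((genMatrix K m n).submatrix (Fin.rev ∘ M.2.1.1) M.2.2.1).det =
      (-1) ^ ε * cellMinor K n m (toIdx M) := by
  have e := aeval_coord (K := K) (cellMatrix K n m) (swapRows (Fin.rev ∘ M.2.1.1) M.2.2.1)
  rw [det_cellMatrix_swapRows _ M.2.2.2.injective,
    coord_of_card_eq (card_image_swapRows (Fin.rev_injective.comp M.2.1.2.injective) M.2.2.2.injective),
    map_mul, aeval_X, map_pow, map_neg, map_one] at e
  exact ⟨_, e.symm⟩

end Groth.Agent.SMT
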