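import Mathlib
import Groth.Prelude.Def_CAlgX
import Groth.Agent.SMT.MinorOrder
import Groth.Agent.SMT.Invariants
import Groth.Agent.SMT.LeastCoord

/-!
# Bitableaux bases of determinantal rings
-/

open MvPolynomial

namespace Groth.Agent.SMT

open W4bk4grassmannian

universe u

section

variable {K : Type u} [CommRing K] {m n : ℕ}

theorem cellEval_botIdx (K : Type u) [CommRing K] (d r : ℕ) :
    cellEval K d r (X (botIdx (Nat.le_add_right d r))) = 1 := by
  rw [cellEval, aeval_X, cellMinor]
  rw [show (cellMatrix K d r).submatrix (botIdx (Nat.le_add_right d r)).1 id = 1 from ?_, Matrix.det_one]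
  ext a b
  simp [cellMatrix, botIdx, Matrix.one_apply, Fin.ext_iff]

theorem exists_span_index_of_not_le {s : ℕ} {hsn : s ≤ n} {hsm : s ≤ m} {θ : Idx n (n + m)}
    (h : ¬ θ ≤ rankIdx n m s hsn hsm) : cellMinor K n m θ ∈ CAlgX.minorIdeal (genMatrix K m n) (s + 1) := by
  refine det_mem_minorIdeal (genMatrix K m n) s n _ (Finset.univ.filter fun t => n ≤ (θ.1 t).val)
    (fun t => ⟨(θ.1 t).val - n, ?_⟩) id (le_card_of_not_le_rankIdx h) fun i hi j => ?_
  · have := (θ.1 t).isLt
    have : 0 < m := by
      by_contra hm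
      refine h ((le_rankIdx_iff θ).2 fun t _ => ?_)
      have := (θ.1 t).isLt; omega
    omega
  · have := (Finset.mem_filter.1 hi).2
    simp only [Matrix.submatrix_apply, id, cellMatrix, Matrix.of_apply, genMatrix]
    rw [dif_neg (by omega)]

/-- Reversing the order of the rows. -/
noncomputable def revRows (K : Type u) [CommRing K] (m n : ℕ) :
    MvPolynomial (Fin m × Fin n) K ≃ₐ[K] MvPolynomial (Fin m × Fin n) K :=
  renameEquiv K (Equiv.prodCongr Fin.revPerm (Equiv.refl _))

theorem revRows_det {t : ℕ} (f : Fin t → Fin m) (g : Fin t → Fin n) :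
    revRows K m n ((genMatrix K m n).submatrix f g).det = ((genMatrix K m n).submatrix (Fin.rev ∘ f) g).det := by
  rw [AlgEquiv.map_det]
  congr 1
  ext a b
  simp [revRows, genMatrix]

theorem revRows_minorIdeal (t : ℕ) :
    (CAlgX.minorIdeal (genMatrix K m n) t).map (revRows K m n : MvPolynomial (Fin m × Fin n) K →+* _) =
      CAlgX.minorIdeal (genMatrix K m n) t := by
  rw [CAlgX.minorIdeal, Ideal.map_span]
  refine congrArg Ideal.span (Set.ext fun p => ⟨?_, ?_⟩)
  · rintro ⟨_, ⟨⟨f, g⟩, rfl⟩, rfl⟩
    exact ⟨(Fin.rev ∘ f, g), (revRows_det f g).symm⟩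
  · rintro ⟨⟨f, g⟩, rfl⟩
    refine ⟨_, ⟨(Fin.rev ∘ f, g), rfl⟩, (revRows_det (Fin.rev ∘ f) g).trans ?_⟩
    simp only
    congr 2
    funext a
    simp

/-- Indices of the bitableaux with minors of size at most `s`. -/
abbrev Tableaux (m n s : ℕ) : Type := Σ k : ℕ, {c : Fin k → MinorIdx m n //
  (∀ i, (c i).1 + 1 ≤ s) ∧ ∀ i j, i < j → MinorGE (c i) (c j)}

/-- The chain of a bitableau. -/
noncomputable def toChain {s : ℕ} (c : Tableaux m n s) : Chains n (n + m) :=
  ⟨c.1, fun i => toIdx (c.2.1 i.rev), fun i j hij => by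
    rcases eq_or_lt_of_le hij with rfl | hlt
    · exact le_rfl
    · exact (toIdx_le_iff _ _).2 (c.2.2.2 _ _ (Fin.rev_lt_rev.2 hlt))⟩

theorem toChain_le_rankIdx {s : ℕ} (hsn : s ≤ n) (hsm : s ≤ m) (c : Tableaux m n s) (i : Fin c.1) :
    (toChain c).2.1 i ≤ rankIdx n m s hsn hsm :=
  (toIdx_le_rankIdx_iff _).2 (c.2.2.1 _)

theorem toChain_injective {s : ℕ} : Function.Injective (toChain (m := m) (n := n) (s := s)) := by
  rintro ⟨k, c, hc⟩ ⟨k', c', hc'⟩ h
  obtain ⟨rfl, h⟩ := Sigma.mk.inj_iff.1 h
  refine congrArg (Sigma.mk k) (Subtype.ext (funext fun i => toIdx_injective ?_))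
  have := congrFun (congrArg Subtype.val (eq_of_heq h)) i.rev
  simpa using this

theorem revRows_prod_minorOf {s : ℕ} (c : Tableaux m n s) :
    ∃ ε : ℕ, revRows K m n (Finset.univ.prod fun i => minorOf K (c.2.1 i)) =
      (-1) ^ ε * cellEval K n m (cmon K (toChain c)) := by
  choose ε hε using fun i => cellMinor_toIdx (K := K) (c.2.1 i)
  refine ⟨∑ i, ε i, ?_⟩
  rw [map_prod, cmon, chainMon, map_prod, ← Finset.prod_pow_eq_pow_sum]
  rw [show (∏ i, cellEval K n m (X ((toChain c).2.1 i))) = ∏ i, cellMinor K n m (toIdx (c.2.1 i)) from ?_,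
    ← Finset.prod_mul_distrib]
  · exact Finset.prod_congr rfl fun i _ => (revRows_det _ _).trans (hε i)
  · simp only [cellEval, aeval_X]
    exact Equiv.prod_comp Fin.revPerm fun i => cellMinor K n m (toIdx (c.2.1 i))

end

variable {K : Type u} [Field K] {m n : ℕ}

/-- Padding a chain by the least index. -/
def padChain {d r : ℕ} (N : ℕ) (c : Chains d (d + r)) : Chains d (d + r) :=
  ⟨N, fun i => if h : i.val < c.1 then c.2.1 ⟨i.val, h⟩ else botIdx (Nat.le_add_right d r), fun i j hij => by
    dsimp only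
    split_ifs with hj hi
    · exact c.2.2 hij
    · rw [Fin.le_def] at hij; omega
    · exact botIdx_le _ _
    · exact le_rfl⟩

theorem padChain_injective {d r : ℕ} {N : ℕ} {c c' : Chains d (d + r)} (hc : c.1 ≤ N) (hc' : c'.1 ≤ N)
    (hn : ∀ i, c.2.1 i ≠ botIdx (Nat.le_add_right d r)) (hn' : ∀ i, c'.2.1 i ≠ botIdx (Nat.le_add_right d r))
    (h : padChain N c = padChain N c') : c = c' := by
  have hf := congrArg Subtype.val (eq_of_heq (Sigma.mk.inj_iff.1 h).2)
  obtain ⟨l, c, hcc⟩ := c
  obtain ⟨l', c', hcc'⟩ := c'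
  simp only at hc hc' hn hn' hf
  obtain rfl : l = l' := by
    rcases lt_trichotomy l l' with hl | hl | hl
    · have := congrFun hf ⟨l, by omega⟩
      rw [dif_neg (lt_irrefl l), dif_pos hl] at this
      exact absurd this.symm (hn' _)
    · exact hl
    · have := congrFun hf ⟨l', by omega⟩
      rw [dif_pos hl, dif_neg (lt_irrefl l')] at this
      exact absurd this (hn _)
  congr 2
  funext i
  have := congrFun hf ⟨i.val, by omega⟩
  rwa [dif_pos i.isLt, dif_pos i.isLt] at this

theorem cmon_padChain {d r : ℕ} {R : Type u} [CommRing R] {N : ℕ} (c : Chains d (d + r)) (hc : c.1 ≤ N) :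
    cmon R (padChain N c) = cmon R c * X (botIdx (Nat.le_add_right d r)) ^ (N - c.1) := by
  obtain ⟨l, c, hcc⟩ := c
  simp only at hc
  obtain ⟨p, rfl⟩ : ∃ p, N = l + p := ⟨N - l, by omega⟩
  rw [Nat.add_sub_cancel_left]
  simp only [cmon, chainMon, padChain]
  show (∏ x : Fin (l + p), (X (if h : x.val < l then c ⟨x.val, h⟩ else botIdx (Nat.le_add_right d r)) :
    PlRing R d (d + r))) = _
  rw [Fin.prod_univ_add]
  simp

theorem eval_minorIdeal_lowBlock [Infinite K] {s : ℕ} (hsn : s ≤ n) (hsm : s ≤ m) (hn : 0 < n)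
    (A : Matrix (Fin (n + m)) (Fin n) K)
    (hA : ∀ θ : Idx n (n + m), ¬ θ ≤ rankIdx n m s hsn hsm → (A.submatrix θ.1 id).det = 0)
    (h : (A.submatrix (Fin.castAdd m) id).det ≠ 0)
    {g : CellRing K n m} (hg : g ∈ CAlgX.minorIdeal (genMatrix K m n) (s + 1)) :
    eval (lowBlock A) g = 0 := by
  by_cases hsn' : s + 1 ≤ n
  swap
  · rw [minorIdeal_eq_bot (Or.inr (by omega)), Ideal.mem_bot] at hg
    simp [hg]
  rw [← span_cellMinor_eq_minorIdeal hn (Nat.succ_pos s) hsn'] at hg
  refine (show _ ≤ RingHom.ker (eval (lowBlock A)) from Ideal.span_le.2 ?_) hg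
  rintro _ ⟨θ, hθ, rfl⟩
  rw [SetLike.mem_coe, RingHom.mem_ker, show cellMinor K n m θ = cellEval K n m (X θ) by rw [cellEval, aeval_X],
    eval_cellEval, evalMinors, aeval_X, cellPoint_lowBlock A h, det_submatrix_mul, hA θ ?_, zero_mul]
  rw [le_rankIdx_iff]
  intro hle
  have := hle ⟨n - (s + 1), by omega⟩ (by simp only; omega)
  simp only [Nat.succ_eq_add_one] at hθ
  omega

theorem bitableaux_basis [Infinite K] (hn : 0 < n) {s : ℕ} (hsn : s ≤ n) (hsm : s ≤ m) :
    LinearIndependent K (fun c : Tableaux m n s =>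
        Ideal.Quotient.mk (CAlgX.minorIdeal (genMatrix K m n) (s + 1))
          (Finset.univ.prod fun i => minorOf K (c.2.1 i))) ∧
      Submodule.span K (Set.range fun c : Tableaux m n s =>
        Ideal.Quotient.mk (CAlgX.minorIdeal (genMatrix K m n) (s + 1))
          (Finset.univ.prod fun i => minorOf K (c.2.1 i))) = ⊤ := by
  classical
  set I := CAlgX.minorIdeal (genMatrix K m n) (s + 1)
  set ι : Idx n (n + m) := botIdx (Nat.le_add_right n m)
  set w := rankIdx n m s hsn hsm
  let q : Tableaux m n s → CellRing K n m ⧸ I := fun c => Ideal.Quotient.mkₐ K I (cellEval K n m (cmon K (toChain c)))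
  let Ψ : (CellRing K n m ⧸ I) ≃ₐ[K] (CellRing K n m ⧸ I) :=
    Ideal.quotientEquivAlg I I (revRows K m n) (revRows_minorIdeal (s + 1)).symm
  let v : Tableaux m n s → CellRing K n m ⧸ I := fun c =>
    Ideal.Quotient.mk I (Finset.univ.prod fun i => minorOf K (c.2.1 i))
  choose ε hε using fun c : Tableaux m n s => revRows_prod_minorOf (K := K) c
  have hv : Ψ ∘ v = fun c => ((-1 : Kˣ) ^ ε c) • q c := by
    funext c
    show Ideal.Quotient.mk I (revRows K m n (Finset.univ.prod fun i => minorOf K (c.2.1 i))) = _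
    rw [hε c, Units.smul_def, Units.val_pow_eq_pow_val, Units.val_neg, Units.val_one, Algebra.smul_def,
      map_mul, map_pow, map_neg, map_one, map_pow, map_neg, map_one]
    rfl
  have hqLI : LinearIndependent K q := by
    rw [linearIndependent_iff]
    intro a ha
    let g : CellRing K n m := ∑ c ∈ a.support, a c • cellEval K n m (cmon K (toChain c))
    have hg : g ∈ I := by
      rw [← Ideal.Quotient.eq_zero_iff_mem, ← ha, Finsupp.linearCombination_apply, Finsupp.sum]
      show Ideal.Quotient.mkₐ K I g = _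
      rw [map_sum]
      simp only [map_smul]
      rfl
    set N := ∑ c ∈ a.support, c.1 + 1
    have hN : ∀ c ∈ a.support, (toChain c).1 ≤ N := fun c hc =>
      le_trans (Finset.single_le_sum (f := fun c : Tableaux m n s => c.1) (fun _ _ => Nat.zero_le _) hc)
        (Nat.le_succ _)
    let H : PlRing K n (n + m) := ∑ c ∈ a.support, a c • cmon K (padChain N (toChain c))
    have hH : H ∈ schubertVanishing K n (n + m) w := by
      simp only [schubertVanishing, Submodule.mem_iInf]
      intro A hA
      show evalMinors K n (n + m) A H = 0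
      have hevι : evalMinors K n (n + m) A (X ι) = (A.submatrix (Fin.castAdd m) id).det := by
        rw [evalMinors, aeval_X]; rfl
      by_cases h : (A.submatrix (Fin.castAdd m) id).det = 0
      · simp only [H, map_sum, map_smul]
        refine Finset.sum_eq_zero fun c hc => ?_
        rw [cmon_padChain _ (hN c hc), map_mul, map_pow, hevι, h, zero_pow, mul_zero, smul_zero]
        have := Finset.single_le_sum (f := fun c : Tableaux m n s => c.1) (fun _ _ => Nat.zero_le _) hc
        show N - c.1 ≠ 0
        simp only [N]; omega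
      · have key : evalMinors K n (n + m) A H =
            (A.submatrix (Fin.castAdd m) id).det ^ N * eval (lowBlock A) g := by
          simp only [H, g, map_sum, map_smul, Finset.mul_sum]
          refine Finset.sum_congr rfl fun c hc => ?_
          rw [MvPolynomial.smul_eval, cmon_padChain _ (hN c hc), map_mul, map_pow, hevι, eval_cellEval, cmon, chainMon,
            map_prod, map_prod]
          simp only [evalMinors, aeval_X, cellPoint_lowBlock A h, det_submatrix_mul]
          rw [Finset.prod_mul_distrib, Finset.prod_const, Finset.card_univ, Fintype.card_fin,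
            Matrix.det_nonsing_inv, Ring.inverse_eq_inv', inv_pow, pow_sub₀ _ h (hN c hc), smul_eq_mul]
          ring
        rw [key, eval_minorIdeal_lowBlock hsn hsm hn A hA h hg, mul_zero]
    ext c
    by_contra hc0
    have hcs : c ∈ a.support := Finsupp.mem_support_iff.2 hc0
    have hne : ∀ (c : Tableaux m n s) i, (toChain c).2.1 i ≠ ι := fun c i => toIdx_ne_botIdx _
    let b : Chains n (n + m) →₀ K := ∑ c ∈ a.support, Finsupp.single (padChain N (toChain c)) (a c)
    have hb : H - Finsupp.linearCombination K (cmon K) b ∈ plIdealTop K := by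
      rw [show Finsupp.linearCombination K (cmon K) b = H by
        simp only [b, H, map_sum, Finsupp.linearCombination_single], sub_self]
      exact Ideal.zero_mem _
    have := (mem_schubertVanishing_iff hn hb).1 hH (padChain N (toChain c)) fun i => by
      show dite _ _ _ ≤ w
      split_ifs
      · exact toChain_le_rankIdx hsn hsm c _
      · exact botIdx_le _ _
    simp only [b, Finsupp.finsetSum_apply] at this
    rw [Finset.sum_eq_single c, Finsupp.single_eq_same] at this
    · exact hc0 this
    · intro c' hc' hcc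
      refine Finsupp.single_eq_of_ne fun e => hcc (toChain_injective ?_).symm
      exact padChain_injective (hN c hcs) (hN c' hc') (hne c) (hne c') e
    · exact fun h => absurd hcs h
  have hqspan : Submodule.span K (Set.range q) = ⊤ := by
    rw [eq_top_iff]
    rintro x -
    obtain ⟨f, rfl⟩ := Ideal.Quotient.mk_surjective x
    obtain ⟨F, rfl, -⟩ := exists_homogenization f
    obtain ⟨b, hb⟩ := exists_repr F
    have h0 : cellEval K n m (F - Finsupp.linearCombination K (cmon K) b) = 0 := by
      refine (show plIdealTop K ≤ RingHom.ker (cellEval K n m).toRingHom from Ideal.span_le.2 ?_) hb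
      rintro _ ⟨i, j, p, -, rfl⟩
      exact aeval_shuffleRel (cellMatrix K n m) i j p
    rw [map_sub, sub_eq_zero] at h0
    rw [h0, Finsupp.linearCombination_apply, map_finsuppSum]
    show Ideal.Quotient.mkₐ K I _ ∈ _
    rw [map_finsuppSum]
    refine Submodule.sum_mem _ fun c hmem => ?_
    clear hmem
    dsimp only
    rw [map_smul, map_smul]
    refine Submodule.smul_mem _ _ ?_
    obtain ⟨l, c, hc⟩ := c
    by_cases hcw : ∀ i, c i ≤ w
    swap
    · obtain ⟨i, hi⟩ := not_forall.1 hcw
      rw [show Ideal.Quotient.mkₐ K I (cellEval K n m (cmon K ⟨l, c, hc⟩)) = 0 from ?_]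
      · exact Submodule.zero_mem _
      refine Ideal.Quotient.eq_zero_iff_mem.2 ?_
      rw [cmon, chainMon, map_prod]
      refine Ideal.mem_of_dvd _ (Finset.dvd_prod_of_mem _ (Finset.mem_univ i)) ?_
      rw [cellEval, aeval_X]
      exact exists_span_index_of_not_le hi
    induction l with
    | zero =>
      refine Submodule.subset_span ⟨⟨0, Fin.elim0, fun i => i.elim0, fun i => i.elim0⟩, ?_⟩
      simp only [q, cmon, chainMon, toChain, Finset.univ_eq_empty, Finset.prod_empty]
    | succ l ih =>
      by_cases hlast : c (Fin.last l) = ι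
      · have e : cellEval K n m (cmon K ⟨l + 1, c, hc⟩) =
            cellEval K n m (cmon K ⟨l, c ∘ Fin.castSucc, hc.comp_monotone Fin.strictMono_castSucc.monotone⟩) := by
          simp only [cmon, chainMon]
          rw [Fin.prod_univ_castSucc, map_mul, hlast, cellEval_botIdx, mul_one]
          rfl
        rw [e]
        exact ih _ _ fun i => hcw _
      have hne : ∀ i, c i ≠ ι := fun i e => hlast (le_antisymm (e ▸ hc (Fin.le_last i)) (botIdx_le _ _))
      choose M hM using fun i : Fin (l + 1) => exists_toIdx (hne i.rev)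
      refine Submodule.subset_span ⟨⟨l + 1, M, fun i => ?_, fun i j hij => ?_⟩, ?_⟩
      · exact (toIdx_le_rankIdx_iff (hsn := hsn) (hsm := hsm) _).1 (by rw [hM]; exact hcw _)
      · exact (toIdx_le_iff _ _).1 (by rw [hM, hM]; exact hc (Fin.rev_le_rev.2 hij.le))
      · simp only [q, cmon, chainMon, toChain, hM, Fin.rev_rev]
        rfl
  constructor
  · show LinearIndependent K v
    refine LinearIndependent.of_comp Ψ.toLinearMap ?_
    rw [show (Ψ.toLinearMap ∘ v) = Ψ ∘ v from rfl, hv]
    exact hqLI.units_smul _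
  · show Submodule.span K (Set.range v) = ⊤
    have hmap : (Submodule.span K (Set.range v)).map Ψ.toLinearMap = ⊤ := by
      rw [Submodule.map_span, ← Set.range_comp, show (Ψ.toLinearMap ∘ v) = Ψ ∘ v from rfl, hv, eq_top_iff, ← hqspan,
        Submodule.span_le]
      rintro _ ⟨c, rfl⟩
      have := Submodule.smul_mem (Submodule.span K (Set.range fun c => ((-1 : Kˣ) ^ ε c) • q c))
        ((((-1 : Kˣ) ^ ε c)⁻¹ : Kˣ) : K) (Submodule.subset_span ⟨c, rfl⟩)
      rwa [← Units.smul_def, inv_smul_smul] at this
    apply Submodule.map_injective_of_injective (f := Ψ.toLinearMap) Ψ.injective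
    rw [hmap, Submodule.map_top, LinearMap.range_eq_top.2 Ψ.surjective]

end Groth.Agent.SMT
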