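import Mathlib
import Groth.Agent.SMT.Pair

/-!
# Degenerations of Schubert varieties to Hibi and Stanley–Reisner rings

For a weight `D` on indices the family is the `K[T]`-subalgebra generated by `T ^ D θ · X θ`.
-/

open MvPolynomial MonomialOrder

namespace Groth.Agent.SMT

open W4bk4grassmannian

universe u v

variable {K : Type u} [Field K] {d n : ℕ}

/-- Chains in `H(w)`. -/
abbrev BChains (w : Idx d n) : Type := Σ m : ℕ, {c : Fin m → Below w // Antitone c}

/-- `Q` on multisets of `H(w)`. -/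
def QB {w : Idx d n} (s : Multiset (Below w)) : ℕ := Q (s.map Subtype.val)

theorem QB_cons {w : Idx d n} (a : Below w) (s : Multiset (Below w)) : QB (a ::ₘ s) = S a.1 ^ 2 + QB s := by
  simp [QB, Q]

/-- Generic straightening in `H(w)`. -/
theorem mem_span_bchains {A : Type*} [CommSemiring A] {M : Type v} [AddCommMonoid M] [Module A M] {w : Idx d n}
    (pm : Multiset (Below w) → M)
    (hrel : ∀ (a b : Below w) (s : Multiset (Below w)), ¬ a ≤ b → ¬ b ≤ a →
      pm (a ::ₘ b ::ₘ s) ∈ Submodule.span A ((fun x : Below w × Below w => pm (x.1 ::ₘ x.2 ::ₘ s)) ''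
        {x | QB (a ::ₘ b ::ₘ 0) < QB (x.1 ::ₘ x.2 ::ₘ 0)})) :
    ∀ (N : ℕ) (s : Multiset (Below w)), s.card * (d * n) ^ 2 ≤ QB s + N →
      pm s ∈ Submodule.span A (Set.range fun c : BChains w => pm (Multiset.map c.2.1 Finset.univ.val)) := by
  classical
  intro N
  induction N using Nat.strong_induction_on with
  | _ N ih =>
    intro s hN
    by_cases hs : ∀ a ∈ s, ∀ b ∈ s, a ≤ b ∨ b ≤ a
    · obtain ⟨m, c, hc, he⟩ := exists_monotone_of_isStd (s.map Subtype.val) (by
        simp only [IsStd, Multiset.mem_map]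
        rintro _ ⟨a, ha, rfl⟩ _ ⟨b, hb, rfl⟩
        exact hs a ha b hb)
      have hcw : ∀ k, c k ≤ w := fun k => by
        have : c k ∈ s.map Subtype.val := by rw [← he]; simp
        obtain ⟨a, -, ha⟩ := Multiset.mem_map.1 this
        rw [← ha]; exact a.2
      refine Submodule.subset_span ⟨⟨m, fun k => ⟨c k, hcw k⟩, fun x y h => hc h⟩, congrArg pm ?_⟩
      refine Multiset.map_injective Subtype.val_injective ?_
      rw [← he, Multiset.map_map]
      rfl
    · simp only [not_forall, not_or] at hs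
      obtain ⟨a, ha, b, hb, hab, hba⟩ := hs
      obtain ⟨s₁, rfl⟩ := Multiset.exists_cons_of_mem ha
      obtain ⟨s₂, rfl⟩ := Multiset.exists_cons_of_mem
        ((Multiset.mem_cons.1 hb).resolve_left fun e => hab (e ▸ le_rfl))
      refine Submodule.span_le.2 ?_ (hrel a b s₂ hab hba)
      rintro _ ⟨⟨α, β⟩, hQ, rfl⟩
      simp only [Set.mem_setOf_eq, QB_cons] at hQ
      show pm (α ::ₘ β ::ₘ s₂) ∈ _
      have hb' : (α ::ₘ β ::ₘ s₂).card * (d * n) ^ 2 = (a ::ₘ b ::ₘ s₂).card * (d * n) ^ 2 := by simp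
      have hQ' : QB (α ::ₘ β ::ₘ s₂) ≤ (α ::ₘ β ::ₘ s₂).card * (d * n) ^ 2 := by
        refine (Q_le _).trans (le_of_eq ?_)
        rw [Multiset.card_map]
      rw [QB_cons, QB_cons] at hN hQ'
      refine ih ((α ::ₘ β ::ₘ s₂).card * (d * n) ^ 2 - QB (α ::ₘ β ::ₘ s₂)) ?_ _ (by
        rw [QB_cons, QB_cons]; omega)
      rw [QB_cons, QB_cons]; omega

variable (K) (D : Idx d n → ℕ) (w : Idx d n)

/-- The family before dividing by relations. -/
noncomputable def ψ : MvPolynomial (Below w) (Polynomial K) →+* Polynomial (MvPolynomial (Vars d n) K) :=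
  eval₂Hom (Polynomial.mapRingHom (C : K →+* MvPolynomial (Vars d n) K))
    fun θ => Polynomial.C (res K (botIdx (le_of_idx w)) w (X θ.1)) * Polynomial.X ^ D θ.1

/-- The family. -/
abbrev Fam : Type u := ↥(ψ K D w).range

/-- The class of a polynomial in the family. -/
noncomputable def famMk : MvPolynomial (Below w) (Polynomial K) →+* Fam K D w := (ψ K D w).rangeRestrict

noncomputable instance : Algebra (Polynomial K) (Fam K D w) := ((famMk K D w).comp C).toAlgebra

noncomputable instance : Algebra K (Fam K D w) :=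
  (((famMk K D w).comp C).comp Polynomial.C).toAlgebra

instance : IsScalarTower K (Polynomial K) (Fam K D w) := IsScalarTower.of_algebraMap_eq fun _ => rfl

theorem famMk_surjective : Function.Surjective (famMk K D w) := (ψ K D w).rangeRestrict_surjective

theorem famMk_eq {f g : MvPolynomial (Below w) (Polynomial K)} :
    famMk K D w f = famMk K D w g ↔ ψ K D w (f - g) = 0 := by
  rw [map_sub, sub_eq_zero, Subtype.ext_iff]; rfl

theorem algebraMap_fam (p : Polynomial K) : algebraMap (Polynomial K) (Fam K D w) p = famMk K D w (C p) := rfl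

/-- The embedding of the family. -/
noncomputable def famEmb : Fam K D w →+* Polynomial (MvPolynomial (Vars d n) K) :=
  (ψ K D w).range.subtype

theorem famEmb_mk (f : MvPolynomial (Below w) (Polynomial K)) : famEmb K D w (famMk K D w f) = ψ K D w f :=
  rfl

variable {w} in
/-- Product of generators. -/
noncomputable def pm (s : Multiset (Below w)) : Fam K D w :=
  famMk K D w (s.map fun θ => X θ).prod

variable {K}

theorem pm_cons (a : Below w) (s : Multiset (Below w)) :
    pm K D (a ::ₘ s) = famMk K D w (X a) * pm K D s := by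
  simp [pm]

theorem ψ_X (θ : Below w) :
    ψ K D w (X θ) = Polynomial.C (res K (botIdx (le_of_idx w)) w (X θ.1)) * Polynomial.X ^ D θ.1 :=
  eval₂_X _ _ θ

theorem ψ_C (p : Polynomial K) : ψ K D w (C p) = Polynomial.map C p := eval₂_C _ _ p

/-- Admissible weights: `ε = true` keeps the `(sup, inf)` term at `T = 0`. -/
def IsWeight (ε : Bool) : Prop :=
  ∀ a b : Idx d n, ¬ a ≤ b → ¬ b ≤ a →
    (if ε then D (W4bk4grassmannian.sup a b) + D (W4bk4grassmannian.inf a b) = D a + D b
      else D (W4bk4grassmannian.sup a b) + D (W4bk4grassmannian.inf a b) < D a + D b) ∧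
    ∀ α β : Idx d n, W4bk4grassmannian.sup a b < α → β < W4bk4grassmannian.inf a b →
      diagExp α + diagExp β ≺[ord d n] diagExp a + diagExp b → D α + D β < D a + D b

theorem Q_sup_inf_gt {a b : Idx d n} (h₁ : ¬ a ≤ b) (h₂ : ¬ b ≤ a) :
    S a ^ 2 + S b ^ 2 < S (W4bk4grassmannian.sup a b) ^ 2 + S (W4bk4grassmannian.inf a b) ^ 2 := by
  have hsa : a < W4bk4grassmannian.sup a b :=
    lt_of_le_of_ne (fun _ => le_max_left _ _) fun e => h₂ fun t => by
      conv_rhs => rw [e]
      exact le_max_right _ _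
  have hsb : b < W4bk4grassmannian.sup a b :=
    lt_of_le_of_ne (fun _ => le_max_right _ _) fun e => h₁ fun t => by
      conv_rhs => rw [e]
      exact le_max_left _ _
  have := S_lt_of_lt hsa
  have := S_lt_of_lt hsb
  have := S_sup_add_inf a b
  nlinarith

/-- The relation of a skew pair in the family. -/
theorem fam_rel (hd : 0 < d) {ε : Bool} (hD : IsWeight D ε) {a b : Below w} (h₁ : ¬ a ≤ b) (h₂ : ¬ b ≤ a) :
    ∃ y : Fam K D w,
      y ∈ Submodule.span (Polynomial K) ((fun x : Below w × Below w => pm K D (x.1 ::ₘ x.2 ::ₘ 0)) ''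
          {x | QB (a ::ₘ b ::ₘ 0) < QB (x.1 ::ₘ x.2 ::ₘ 0)}) ∧
      y ∈ Ideal.span {algebraMap (Polynomial K) (Fam K D w) Polynomial.X} ∧
      pm K D (a ::ₘ b ::ₘ 0) = (Polynomial.X : Polynomial K) ^
          (D a.1 + D b.1 - (D (W4bk4grassmannian.sup a.1 b.1) + D (W4bk4grassmannian.inf a.1 b.1))) •
            pm K D (Below.sup a b ::ₘ Below.inf a b ::ₘ 0) + y := by
  classical
  obtain ⟨co, hco, hmem⟩ := straighten_pair (K := K) hd (τ := a.1) (φ := b.1) h₁ h₂
  obtain ⟨hw₀, hw⟩ := hD a.1 b.1 h₁ h₂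
  set E := D a.1 + D b.1
  set lo := botIdx (le_of_idx w)
  set I := RingHom.ker (ψ K D w)
  let term : Chains d n → MvPolynomial (Below w) (Polynomial K) := fun c =>
    if h : ∀ k, c.2.1 k ≤ w then
      C (Polynomial.C (co c) * Polynomial.X ^ (E - ∑ k, D (c.2.1 k))) * ∏ k, X (⟨c.2.1 k, h k⟩ : Below w)
    else 0
  have hterm : ∀ c ∈ co.support, ∑ k, D (c.2.1 k) < E ∧
      (famMk K D w (term c) ∈ Submodule.span (Polynomial K)
        ((fun x : Below w × Below w => pm K D (x.1 ::ₘ x.2 ::ₘ 0)) ''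
          {x | QB (a ::ₘ b ::ₘ 0) < QB (x.1 ::ₘ x.2 ::ₘ 0)})) ∧
      ψ K D w (term c) = Polynomial.C (co c • res K lo w (cmon K c)) * Polynomial.X ^ E := by
    intro c hc
    obtain ⟨α, β, hβα, rfl, hα, hβ, hS, he⟩ := hco c hc
    have hsum : ∑ k, D ((pairChain α β hβα).2.1 k) = D α + D β := by
      show ∑ x : Fin 2, D (![α, β] x) = _
      simp [Fin.sum_univ_two]
    have hlt : D α + D β < E := hw α β hα hβ he
    refine ⟨by rw [hsum]; exact hlt, ?_, ?_⟩
    · simp only [term]
      split_ifs with hall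
      · have hαw : α ≤ w := hall (0 : Fin 2)
        have hβw : β ≤ w := hall (1 : Fin 2)
        rw [map_mul]
        have e : famMk K D w (∏ k, X (⟨(pairChain α β hβα).2.1 k, hall k⟩ : Below w)) =
            pm K D ((⟨α, hαw⟩ : Below w) ::ₘ ⟨β, hβw⟩ ::ₘ 0) := by
          refine congrArg (famMk K D w) ?_
          show ∏ x : Fin 2, X (⟨![α, β] x, hall x⟩ : Below w) = _
          simp [Fin.prod_univ_two]
        rw [e, show famMk K D w (C (Polynomial.C (co (pairChain α β hβα)) * Polynomial.X ^ _)) =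
          algebraMap (Polynomial K) (Fam K D w) _ from rfl, ← Algebra.smul_def]
        refine Submodule.smul_mem _ _ (Submodule.subset_span ⟨(⟨α, hαw⟩, ⟨β, hβw⟩), ?_, rfl⟩)
        simp only [Set.mem_setOf_eq, QB_cons]
        have h1 := Q_sup_inf_gt h₁ h₂
        have h2 : S (W4bk4grassmannian.sup a.1 b.1) < S α := S_lt_of_lt hα
        have h3 : S β < S (W4bk4grassmannian.inf a.1 b.1) := S_lt_of_lt hβ
        have h4 : S α ^ 2 + S β ^ 2 ≥ S (W4bk4grassmannian.sup a.1 b.1) ^ 2 + S (W4bk4grassmannian.inf a.1 b.1) ^ 2 := by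
          have h5 : S α + S β = S (W4bk4grassmannian.sup a.1 b.1) + S (W4bk4grassmannian.inf a.1 b.1) := by
            rw [hS, S_sup_add_inf]
          have h6 : S (W4bk4grassmannian.inf a.1 b.1) ≤ S (W4bk4grassmannian.sup a.1 b.1) :=
            Finset.sum_le_sum fun t _ => Fin.le_def.1 (inf_le_sup' a.1 b.1 t)
          nlinarith
        omega
      · rw [map_zero]; exact Submodule.zero_mem _
    · simp only [term]
      split_ifs with hall
      · rw [map_mul, map_prod, ψ_C]
        simp only [ψ_X, Finset.prod_mul_distrib, Finset.prod_pow_eq_pow_sum, Polynomial.map_mul,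
          Polynomial.map_C, Polynomial.map_pow, Polynomial.map_X]
        rw [smul_eq_C_mul, map_mul, cmon, chainMon, map_prod, ← map_prod Polynomial.C,
          mul_mul_mul_comm, ← pow_add]
        congr 2
        rw [hsum]; omega
      · obtain ⟨k, hk⟩ := not_forall.1 hall
        rw [map_zero, show res K lo w (cmon K (pairChain α β hβα)) = 0 from
          res_chainMon_eq_zero _ (k := k) fun h => hk h.2, smul_zero, map_zero, zero_mul]
  refine ⟨famMk K D w (∑ c ∈ co.support, term c), ?_, ?_, ?_⟩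
  · rw [map_sum]; exact Submodule.sum_mem _ fun c hc => (hterm c hc).2.1
  · rw [map_sum]
    refine Ideal.sum_mem _ fun c hc => ?_
    simp only [term]
    split_ifs with hall
    · have hlt := (hterm c hc).1
      obtain ⟨k, hk⟩ : ∃ k, E - ∑ j, D (c.2.1 j) = k + 1 := ⟨E - ∑ j, D (c.2.1 j) - 1, by omega⟩
      rw [hk, pow_succ, ← mul_assoc, map_mul C, map_mul, map_mul]
      exact Ideal.mul_mem_right _ _ (Ideal.mul_mem_left _ _ (Ideal.subset_span rfl))
    · rw [map_zero]; exact Ideal.zero_mem _
  · rw [Algebra.smul_def]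
    rw [algebraMap_fam, pm, pm, ← map_mul, ← map_add, famMk_eq]
    simp only [Multiset.map_cons, Multiset.map_zero, Multiset.prod_cons, Multiset.prod_zero, mul_one, map_sub, map_add,
      map_mul, map_sum]
    rw [ψ_C,
      Finset.sum_congr rfl fun c hc => (hterm c hc).2.2, ψ_X, ψ_X, ψ_X, ψ_X]
    have hres : res K lo w (X a.1) * res K lo w (X b.1) =
        res K lo w (X (W4bk4grassmannian.sup a.1 b.1)) * res K lo w (X (W4bk4grassmannian.inf a.1 b.1)) +
          ∑ c ∈ co.support, co c • res K lo w (cmon K c) := by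
      have := res_eq_zero_of_mem_plIdealTop lo w hmem
      rw [map_sub, map_mul, sub_eq_zero, map_add, map_mul, Finsupp.linearCombination_apply, map_finsuppSum] at this
      simpa [map_smul, Finsupp.sum] using this
    have hle : D (W4bk4grassmannian.sup a.1 b.1) + D (W4bk4grassmannian.inf a.1 b.1) ≤ E := by
      cases ε <;> simp at hw₀ <;> omega
    rw [← Finset.sum_mul, ← map_sum Polynomial.C, Polynomial.map_pow, Polynomial.map_X]
    show Polynomial.C (res K lo w (X a.1)) * Polynomial.X ^ D a.1 *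
        (Polynomial.C (res K lo w (X b.1)) * Polynomial.X ^ D b.1) -
      (Polynomial.X ^ (E - (D (W4bk4grassmannian.sup a.1 b.1) + D (W4bk4grassmannian.inf a.1 b.1))) *
        (Polynomial.C (res K lo w (X (W4bk4grassmannian.sup a.1 b.1))) * Polynomial.X ^ D (W4bk4grassmannian.sup a.1 b.1) *
          (Polynomial.C (res K lo w (X (W4bk4grassmannian.inf a.1 b.1))) * Polynomial.X ^ D (W4bk4grassmannian.inf a.1 b.1))) +
        Polynomial.C (∑ c ∈ co.support, co c • res K lo w (cmon K c)) * Polynomial.X ^ E) = 0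
    have eE : E = (E - (D (W4bk4grassmannian.sup a.1 b.1) + D (W4bk4grassmannian.inf a.1 b.1))) +
        (D (W4bk4grassmannian.sup a.1 b.1) + D (W4bk4grassmannian.inf a.1 b.1)) := by omega
    have e1 : Polynomial.C (res K lo w (X a.1)) * Polynomial.X ^ D a.1 *
        (Polynomial.C (res K lo w (X b.1)) * Polynomial.X ^ D b.1) =
        Polynomial.C (res K lo w (X a.1) * res K lo w (X b.1)) * Polynomial.X ^ E := by
      rw [map_mul, pow_add]; ring
    rw [e1, hres, map_add, map_mul]
    conv_lhs => arg 1; rw [eE, pow_add, pow_add]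
    conv_lhs => arg 2; arg 2; rw [eE, pow_add, pow_add]
    ring

theorem pm_mul_span (hd : 0 < d) {ε : Bool} (hD : IsWeight D ε) (a b : Below w) (s : Multiset (Below w))
    (h₁ : ¬ a ≤ b) (h₂ : ¬ b ≤ a) :
    pm K D (a ::ₘ b ::ₘ s) ∈ Submodule.span (Polynomial K)
      ((fun x : Below w × Below w => pm K D (x.1 ::ₘ x.2 ::ₘ s)) ''
        {x | QB (a ::ₘ b ::ₘ 0) < QB (x.1 ::ₘ x.2 ::ₘ 0)}) := by
  obtain ⟨y, hy, -, he⟩ := fam_rel (K := K) D w hd hD h₁ h₂
  have hsplit : ∀ x z : Below w, pm K D (x ::ₘ z ::ₘ s) = pm K D (x ::ₘ z ::ₘ 0) * pm K D s := fun x z => by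
    simp only [pm_cons, show pm K D (0 : Multiset (Below w)) = 1 from by simp [pm]]
    ring
  rw [hsplit a b, he, add_mul]
  refine Submodule.add_mem _ ?_ ?_
  · rw [smul_mul_assoc, ← hsplit]
    refine Submodule.smul_mem _ _ (Submodule.subset_span ⟨(Below.sup a b, Below.inf a b), ?_, rfl⟩)
    simp only [Set.mem_setOf_eq, QB_cons]
    have := Q_sup_inf_gt (a := a.1) (b := b.1) h₁ h₂
    show _ < S (W4bk4grassmannian.sup a.1 b.1) ^ 2 + (S (W4bk4grassmannian.inf a.1 b.1) ^ 2 + _)
    omega
  · have := Submodule.mem_map_of_mem (f := LinearMap.mulRight (Polynomial K) (pm K D s)) hy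
    rw [Submodule.map_span, Set.image_image] at this
    simp only [LinearMap.mulRight_apply] at this
    simpa only [hsplit] using this

theorem pm_bchains (c : BChains w) :
    pm K D (Multiset.map c.2.1 Finset.univ.val) = famMk K D w (∏ k, X (c.2.1 k)) := by
  rw [pm, Multiset.map_map]; rfl

theorem fam_span (hd : 0 < d) {ε : Bool} (hD : IsWeight D ε) (x : Fam K D w) :
    x ∈ Submodule.span (Polynomial K) (Set.range fun c : BChains w => pm K D (Multiset.map c.2.1 Finset.univ.val)) := by
  classical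
  obtain ⟨f, rfl⟩ := famMk_surjective K D w x
  rw [f.as_sum, map_sum]
  refine Submodule.sum_mem _ fun e _ => ?_
  have : famMk K D w (monomial e (coeff e f)) =
      coeff e f • pm K D (Finsupp.toMultiset e) := by
    rw [Algebra.smul_def, pm, Finsupp.toMultiset_map, Finsupp.prod_toMultiset,
      Finsupp.prod_mapDomain_index (by simp) (by simp [pow_add]), monomial_eq, map_mul]
    rfl
  rw [this]
  exact Submodule.smul_mem _ _ (mem_span_bchains _ (fun a b s h₁ h₂ => pm_mul_span D w hd hD a b s h₁ h₂) _ _ (Nat.le_add_left _ _))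

theorem bchains_res_li (hd : 0 < d) :
    LinearIndependent K (fun c : BChains w => res K (botIdx (le_of_idx w)) w (chainMon K fun k => (c.2.1 k).1)) := by
  let ι : BChains w → (Σ m : ℕ, {c : Fin m → Idx d n // Antitone c ∧ ∀ k, botIdx (le_of_idx w) ≤ c k ∧ c k ≤ w}) :=
    fun c => ⟨c.1, fun k => (c.2.1 k).1, fun _ _ h => c.2.2 h, fun k => ⟨botIdx_le _ _, (c.2.1 k).2⟩⟩
  have hι : Function.Injective ι := by
    rintro ⟨m, x⟩ ⟨m', y⟩ hxy
    obtain ⟨rfl, hxy⟩ := Sigma.mk.inj_iff.1 hxy
    refine congrArg (Sigma.mk m) (Subtype.ext (funext fun k => Subtype.ext ?_))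
    exact congrFun (congrArg Subtype.val (eq_of_heq hxy) :) k
  exact (linearIndependent_res hd (botIdx (le_of_idx w)) w).comp ι hι

theorem ψ_lin (l : BChains w →₀ Polynomial K) :
    famEmb K D w
        (Finsupp.linearCombination (Polynomial K) (fun c : BChains w => pm K D (Multiset.map c.2.1 Finset.univ.val)) l) =
      l.sum fun c p => Polynomial.map C p *
        (Polynomial.C (res K (botIdx (le_of_idx w)) w (chainMon K fun k => (c.2.1 k).1)) *
          Polynomial.X ^ (∑ k, D (c.2.1 k).1)) := by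
  rw [Finsupp.linearCombination_apply, map_finsuppSum]
  refine Finsupp.sum_congr fun c _ => ?_
  rw [Algebra.smul_def, map_mul, pm_bchains, famEmb_mk, algebraMap_fam, famEmb_mk, ψ_C, map_prod, chainMon, map_prod, map_prod, ← Finset.prod_pow_eq_pow_sum,
    ← Finset.prod_mul_distrib]
  exact congrArg _ (Finset.prod_congr rfl fun k _ => ψ_X D w _)

theorem fam_li (hd : 0 < d) :
    LinearIndependent (Polynomial K) (fun c : BChains w => pm K D (Multiset.map c.2.1 Finset.univ.val)) := by
  classical
  rw [linearIndependent_iff]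
  intro l hl
  have h := ψ_lin D w l
  rw [hl, map_zero] at h
  ext c j
  rw [Finsupp.zero_apply, Polynomial.coeff_zero]
  have hj := congrArg (fun p => Polynomial.coeff p (j + ∑ k, D (c.2.1 k).1)) h
  simp only [Polynomial.coeff_zero, Finsupp.sum, Polynomial.finsetSum_coeff] at hj
  set J := j + ∑ k, D (c.2.1 k).1
  have hterm : ∀ x : BChains w, (Polynomial.map C (l x) *
      (Polynomial.C (res K (botIdx (le_of_idx w)) w (chainMon K fun k => (x.2.1 k).1)) *
        Polynomial.X ^ (∑ k, D (x.2.1 k).1))).coeff J =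
      (if ∑ k, D (x.2.1 k).1 ≤ J then (l x).coeff (J - ∑ k, D (x.2.1 k).1) else 0) •
        res K (botIdx (le_of_idx w)) w (chainMon K fun k => (x.2.1 k).1) := fun x => by
    rw [← mul_assoc, Polynomial.coeff_mul_X_pow', Polynomial.coeff_mul_C, Polynomial.coeff_map, smul_eq_C_mul]
    split_ifs <;> simp
  simp only [hterm] at hj
  have := linearIndependent_iff'.1 (bchains_res_li w hd) l.support _ hj.symm
  by_cases hc : c ∈ l.support
  · have h2 := this c hc
    rw [if_pos (Nat.le_add_left _ _)] at h2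
    simpa [J] using h2
  · rw [Finsupp.notMem_support_iff.1 hc, Polynomial.coeff_zero]

/-- The free basis of the family. -/
noncomputable def famBasis (hd : 0 < d) {ε : Bool} (hD : IsWeight D ε) :
    Module.Basis (BChains w) (Polynomial K) (Fam K D w) :=
  Module.Basis.mk (fam_li D w hd) fun x _ => fam_span D w hd hD x

theorem famBasis_apply (hd : 0 < d) {ε : Bool} (hD : IsWeight D ε) (c : BChains w) :
    famBasis (K := K) D w hd hD c = pm K D (Multiset.map c.2.1 Finset.univ.val) :=
  Module.Basis.mk_apply _ _ _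

variable {D w} in
theorem quotient_surj (p₀ : K) {Q : Type u} [CommRing Q] [Algebra K Q]
    (ν : Q →ₐ[K] (Fam K D w ⧸ Ideal.span {algebraMap (Polynomial K) (Fam K D w) (Polynomial.X - Polynomial.C p₀)}))
    (hν : ∀ θ : Below w, ∃ q, ν q = Ideal.Quotient.mk _ (famMk K D w (X θ))) :
    Function.Surjective ν := by
  intro y
  obtain ⟨x, rfl⟩ := Ideal.Quotient.mk_surjective y
  obtain ⟨f, rfl⟩ := famMk_surjective K D w x
  induction f using MvPolynomial.induction_on with
  | C p =>
    refine ⟨algebraMap K Q (p.eval p₀), ?_⟩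
    rw [AlgHom.commutes]
    refine (Ideal.Quotient.eq.2 ?_).symm
    show algebraMap (Polynomial K) (Fam K D w) p - algebraMap K (Fam K D w) (p.eval p₀) ∈ _
    rw [IsScalarTower.algebraMap_apply K (Polynomial K) (Fam K D w), ← map_sub]
    obtain ⟨q, hq⟩ := Polynomial.X_sub_C_dvd_sub_C_eval (p := p) (a := p₀)
    rw [show algebraMap K (Polynomial K) (p.eval p₀) = Polynomial.C (p.eval p₀) from rfl, hq, map_mul]
    exact Ideal.mul_mem_right _ _ (Ideal.subset_span rfl)
  | add f g hf hg =>
    obtain ⟨a, ha⟩ := hf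
    obtain ⟨b, hb⟩ := hg
    exact ⟨a + b, by rw [map_add, ha, hb, map_add, map_add]⟩
  | mul_X f θ hf =>
    obtain ⟨a, ha⟩ := hf
    obtain ⟨b, hb⟩ := hν θ
    exact ⟨a * b, by rw [map_mul, ha, hb, map_mul, map_mul]⟩

theorem mem_span_iff_dvd (hd : 0 < d) {ε : Bool} (hD : IsWeight D ε) (t : Polynomial K) {x : Fam K D w}
    (hx : x ∈ Ideal.span {algebraMap (Polynomial K) (Fam K D w) t}) (c : BChains w) :
    t ∣ (famBasis D w hd hD).repr x c := by
  obtain ⟨y, rfl⟩ := Ideal.mem_span_singleton'.1 hx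
  rw [mul_comm, ← Algebra.smul_def, map_smul]
  exact Dvd.intro _ rfl

/-- The special relations at `T = 0`. -/
noncomputable def zeroIdeal (ε : Bool) : Ideal (MvPolynomial (Below w) K) :=
  if ε then hibiIdeal K w else srIdeal K w

theorem zero_fibre (hd : 0 < d) {ε : Bool} (hD : IsWeight D ε) :
    Nonempty ((Fam K D w ⧸ Ideal.span {algebraMap (Polynomial K) (Fam K D w) Polynomial.X}) ≃ₐ[K]
      (MvPolynomial (Below w) K ⧸ zeroIdeal (K := K) w ε)) := by
  classical
  set T₀ := Ideal.span {algebraMap (Polynomial K) (Fam K D w) Polynomial.X}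
  let ν : MvPolynomial (Below w) K →ₐ[K] Fam K D w ⧸ T₀ :=
    aeval fun θ => Ideal.Quotient.mk T₀ (famMk K D w (X θ))
  have hνmon : ∀ s : Multiset (Below w), ν (s.map fun θ => X θ).prod = Ideal.Quotient.mk T₀ (pm K D s) := fun s => by
    induction s using Multiset.induction with
    | empty => simp [pm]
    | cons a s ih => rw [Multiset.map_cons, Multiset.prod_cons, map_mul, ih, aeval_X, pm_cons, map_mul]
  have hpair : ∀ a b : Below w, ¬ a ≤ b → ¬ b ≤ a →
      ν (X a * X b) = (if ε then ν (X (Below.sup a b) * X (Below.inf a b)) else 0) := by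
    intro a b h₁ h₂
    obtain ⟨y, -, hy, he⟩ := fam_rel (K := K) D w hd hD h₁ h₂
    have e1 := hνmon (a ::ₘ b ::ₘ 0)
    have e2 := hνmon (Below.sup a b ::ₘ Below.inf a b ::ₘ 0)
    simp only [Multiset.map_cons, Multiset.map_zero, Multiset.prod_cons, Multiset.prod_zero, mul_one] at e1 e2
    rw [e1, he, map_add, Ideal.Quotient.eq_zero_iff_mem.2 hy, add_zero]
    have hw₀ := (hD a.1 b.1 h₁ h₂).1
    cases ε with
    | true =>
      simp only [if_true] at hw₀ ⊢
      rw [e2, hw₀, Nat.sub_self, pow_zero, one_smul]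
    | false =>
      simp only [Bool.false_eq_true, if_false] at hw₀ ⊢
      obtain ⟨k, hk⟩ : ∃ k, D a.1 + D b.1 - (D (W4bk4grassmannian.sup a.1 b.1) + D (W4bk4grassmannian.inf a.1 b.1)) = k + 1 :=
        ⟨_, (Nat.succ_pred_eq_of_pos (by omega)).symm⟩
      have h0 : Ideal.Quotient.mk T₀ (algebraMap (Polynomial K) (Fam K D w) Polynomial.X) = 0 :=
        Ideal.Quotient.eq_zero_iff_mem.2 (Ideal.subset_span rfl)
      rw [hk, Algebra.smul_def, map_mul, pow_succ, map_mul, map_mul, h0, mul_zero, zero_mul]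
  have hle : zeroIdeal (K := K) w ε ≤ RingHom.ker ν.toRingHom := by
    cases ε with
    | true =>
      simp only [zeroIdeal, if_true, hibiIdeal, Ideal.span_le]
      rintro _ ⟨a, b, rfl⟩
      show ν _ = 0
      rw [map_sub, sub_eq_zero]
      by_cases h₁ : a ≤ b
      · have e1 : Below.sup a b = b := Subtype.ext (Subtype.ext (funext fun t => max_eq_right (h₁ t)))
        have e2 : Below.inf a b = a := Subtype.ext (Subtype.ext (funext fun t => min_eq_left (h₁ t)))
        rw [e1, e2, mul_comm]
      by_cases h₂ : b ≤ a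
      · have e1 : Below.sup a b = a := Subtype.ext (Subtype.ext (funext fun t => max_eq_left (h₂ t)))
        have e2 : Below.inf a b = b := Subtype.ext (Subtype.ext (funext fun t => min_eq_right (h₂ t)))
        rw [e1, e2]
      simpa using hpair a b h₁ h₂
    | false =>
      simp only [zeroIdeal, Bool.false_eq_true, if_false, srIdeal, Ideal.span_le]
      rintro _ ⟨a, b, h₁, h₂, rfl⟩
      show ν _ = 0
      simpa using hpair a b h₁ h₂
  have hker : RingHom.ker ν.toRingHom = zeroIdeal (K := K) w ε := by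
    refine le_antisymm (fun f hf => ?_) hle
    set I₀ := zeroIdeal (K := K) w ε
    let q : Multiset (Below w) → MvPolynomial (Below w) K ⧸ I₀ := fun s => Ideal.Quotient.mk I₀ (s.map fun θ => X θ).prod
    have hq : ∀ (a b : Below w) (s : Multiset (Below w)), ¬ a ≤ b → ¬ b ≤ a →
        q (a ::ₘ b ::ₘ s) ∈ Submodule.span K ((fun x : Below w × Below w => q (x.1 ::ₘ x.2 ::ₘ s)) ''
          {x | QB (a ::ₘ b ::ₘ 0) < QB (x.1 ::ₘ x.2 ::ₘ 0)}) := by
      intro a b s h₁ h₂
      simp only [q, Multiset.map_cons, Multiset.prod_cons, ← mul_assoc, map_mul]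
      cases ε with
      | true =>
        have hrel : Ideal.Quotient.mk I₀ (X a * X b) = Ideal.Quotient.mk I₀ (X (Below.sup a b) * X (Below.inf a b)) :=
          Ideal.Quotient.eq.2 (by
            simp only [I₀, zeroIdeal, if_true]
            exact Ideal.subset_span ⟨a, b, rfl⟩)
        rw [map_mul, map_mul] at hrel
        rw [hrel]
        refine Submodule.subset_span ⟨(Below.sup a b, Below.inf a b), ?_, rfl⟩
        simp only [Set.mem_setOf_eq, QB_cons]
        have := Q_sup_inf_gt (a := a.1) (b := b.1) h₁ h₂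
        show _ < S (W4bk4grassmannian.sup a.1 b.1) ^ 2 + (S (W4bk4grassmannian.inf a.1 b.1) ^ 2 + _)
        omega
      | false =>
        have hrel : Ideal.Quotient.mk I₀ (X a * X b) = 0 :=
          Ideal.Quotient.eq_zero_iff_mem.2 (by
            simp only [I₀, zeroIdeal, Bool.false_eq_true, if_false]
            exact Ideal.subset_span ⟨a, b, h₁, h₂, rfl⟩)
        rw [map_mul] at hrel
        rw [hrel, zero_mul]
        exact Submodule.zero_mem _
    have hmem : Ideal.Quotient.mkₐ K I₀ f ∈ Submodule.span K (Set.range fun c : BChains w =>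
        q (Multiset.map c.2.1 Finset.univ.val)) := by
      rw [f.as_sum, map_sum]
      refine Submodule.sum_mem _ fun e _ => ?_
      rw [show monomial e (coeff e f) = coeff e f • ((Finsupp.toMultiset e).map fun θ => X θ).prod by
        rw [monomial_eq, smul_eq_C_mul, Finsupp.toMultiset_map, Finsupp.prod_toMultiset,
          Finsupp.prod_mapDomain_index (by simp) (by simp [pow_add])], map_smul]
      exact Submodule.smul_mem _ _ (mem_span_bchains q hq _ _ (Nat.le_add_left _ _))
    obtain ⟨l, hl⟩ := Finsupp.mem_span_range_iff_exists_finsupp.1 hmem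
    set g : MvPolynomial (Below w) K := l.sum fun c r => r • (Multiset.map (fun θ => X θ) (Multiset.map c.2.1 Finset.univ.val)).prod
    have hfg : f - g ∈ I₀ := by
      refine Ideal.Quotient.eq.1 ?_
      show Ideal.Quotient.mkₐ K I₀ f = Ideal.Quotient.mkₐ K I₀ g
      rw [← hl, map_finsuppSum]
      exact Finsupp.sum_congr fun c _ => (map_smul (Ideal.Quotient.mkₐ K I₀) _ _).symm
    suffices hl0 : l = 0 by
      have : g = 0 := by simp [g, hl0]
      rwa [this, sub_zero] at hfg
    have h0 : ν g = 0 := by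
      have h2 : ν (f - g) = 0 := hle hfg
      rw [map_sub, show ν f = 0 from hf, zero_sub, neg_eq_zero] at h2
      exact h2
    have hin : Finsupp.linearCombination (Polynomial K) (famBasis D w hd hD) (l.mapRange Polynomial.C Polynomial.C_0) ∈ T₀ := by
      rw [← Ideal.Quotient.eq_zero_iff_mem, ← h0, Finsupp.linearCombination_apply,
        Finsupp.sum_mapRange_index (h := fun i a => a • famBasis D w hd hD i) (fun c => zero_smul _ _), map_finsuppSum, map_finsuppSum]
      refine Finsupp.sum_congr fun c _ => ?_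
      rw [map_smul ν, hνmon, famBasis_apply, Algebra.smul_def, Algebra.smul_def]
      rfl
    ext c
    have := mem_span_iff_dvd D w hd hD _ hin c
    rw [Module.Basis.repr_linearCombination, Finsupp.mapRange_apply, Polynomial.X_dvd_iff, Polynomial.coeff_C_zero] at this
    rw [this]; rfl
  have hsurj : Function.Surjective ν := by
    have e : Ideal.span {algebraMap (Polynomial K) (Fam K D w) (Polynomial.X - Polynomial.C 0)} = T₀ := by simp [T₀]
    have h := quotient_surj (0 : K) ((Ideal.quotientEquivAlgOfEq K e.symm).toAlgHom.comp ν) fun θ => ⟨X θ, by simp [ν]⟩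
    intro y
    obtain ⟨x, hx⟩ := h (Ideal.quotientEquivAlgOfEq K e.symm y)
    exact ⟨x, (Ideal.quotientEquivAlgOfEq K e.symm).injective hx⟩
  exact ⟨((Ideal.quotientEquivAlgOfEq K hker.symm).trans (Ideal.quotientKerAlgEquivOfSurjective hsurj)).symm⟩

theorem generic_fibre [Infinite K] (hd : 0 < d) {ε : Bool} (hD : IsWeight D ε) (c : K) (hc : c ≠ 0) :
    Nonempty ((Fam K D w ⧸ Ideal.span {algebraMap (Polynomial K) (Fam K D w) (Polynomial.X - Polynomial.C c)}) ≃ₐ[K]
      (PlRing K d n ⧸ schubertVanishing K d n w)) := by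
  classical
  set lo := botIdx (le_of_idx w)
  set Tc := Ideal.span {algebraMap (Polynomial K) (Fam K D w) (Polynomial.X - Polynomial.C c)}
  let Ξ : PlRing K d n →ₐ[K] Fam K D w ⧸ Tc := aeval fun θ =>
    if h : θ ≤ w then algebraMap K _ (c ^ D θ)⁻¹ * Ideal.Quotient.mk Tc (famMk K D w (X (⟨θ, h⟩ : Below w)))
    else 0
  let ev : Fam K D w →+* MvPolynomial (Vars d n) K :=
    (Polynomial.evalRingHom (C c)).comp (famEmb K D w)
  have hTc : ∀ x ∈ Tc, ev x = 0 := by
    intro x hx
    obtain ⟨y, rfl⟩ := Ideal.mem_span_singleton'.1 hx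
    rw [map_mul, algebraMap_fam]
    simp [ev, ψ_C, famEmb_mk]
  let evq : (Fam K D w ⧸ Tc) →+* MvPolynomial (Vars d n) K := Ideal.Quotient.lift Tc ev hTc
  have hinj : Function.Injective evq := by
    rw [injective_iff_map_eq_zero]
    intro y hy
    obtain ⟨x, rfl⟩ := Ideal.Quotient.mk_surjective y
    set l := (famBasis D w hd hD).repr x
    have hx : x = Finsupp.linearCombination (Polynomial K) (fun b : BChains w => pm K D (Multiset.map b.2.1 Finset.univ.val)) l := by
      conv_lhs => rw [← (famBasis D w hd hD).linearCombination_repr x]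
      rw [Finsupp.linearCombination_apply, Finsupp.linearCombination_apply]
      simp only [famBasis_apply]
      rfl
    have h : ev x = 0 := hy
    rw [hx] at h
    simp only [ev, RingHom.comp_apply, ψ_lin, map_finsuppSum, Polynomial.coe_evalRingHom, Polynomial.eval_mul,
      Polynomial.eval_pow, Polynomial.eval_X, Polynomial.eval_C, Polynomial.eval_map, Polynomial.eval₂_at_apply] at h
    have hz := linearIndependent_iff'.1 (bchains_res_li (K := K) w hd) l.support
      (fun b => (l b).eval c * c ^ (∑ k, D (b.2.1 k).1)) (by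
        rw [← h]
        refine Finset.sum_congr rfl fun b _ => ?_
        rw [smul_eq_C_mul, map_mul, map_pow]
        ring)
    refine Ideal.Quotient.eq_zero_iff_mem.2 ?_
    rw [hx, Finsupp.linearCombination_apply]
    refine Ideal.sum_mem _ fun b hb => ?_
    dsimp only
    obtain ⟨q, hq⟩ := Polynomial.dvd_iff_isRoot.2 ((mul_eq_zero.1 (hz b hb)).resolve_right (pow_ne_zero _ hc))
    rw [Algebra.smul_def, hq, map_mul]
    exact Ideal.mul_mem_right _ _ (Ideal.mul_mem_right _ _ (Ideal.subset_span rfl))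
  have hcomp : evq.comp Ξ.toRingHom = (res K lo w).toRingHom := by
    refine MvPolynomial.ringHom_ext (fun r => ?_) fun θ => ?_
    · show evq (Ξ (C r)) = res K lo w (C r)
      rw [show (C r : PlRing K d n) = algebraMap K _ r from rfl, AlgHom.commutes, AlgHom.commutes]
      show Polynomial.eval (C c) (ψ K D w (C (Polynomial.C r))) = C r
      simp [ψ_C]
    · show evq (Ξ (X θ)) = res K lo w (X θ)
      rw [aeval_X]
      split_ifs with h
      · rw [map_mul]
        show Polynomial.eval (C c) (ψ K D w (C (Polynomial.C _))) * Polynomial.eval (C c) (ψ K D w (X _)) = _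
        rw [ψ_C, ψ_X, Polynomial.map_C, Polynomial.eval_C, Polynomial.eval_mul, Polynomial.eval_C,
          Polynomial.eval_pow, Polynomial.eval_X, ← map_pow, mul_left_comm, ← map_mul,
          inv_mul_cancel₀ (pow_ne_zero _ hc), map_one, mul_one]
      · rw [map_zero, res_X_eq_zero fun hh => h hh.2]
  have hker : RingHom.ker Ξ.toRingHom = schubertVanishing K d n w := by
    rw [schubertVanishing_eq_ker hd, ← hcomp]
    ext f
    simp only [RingHom.mem_ker, RingHom.comp_apply]
    exact ⟨fun h => by rw [h, map_zero], fun h => hinj (by rw [h, map_zero])⟩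
  have hsurj : Function.Surjective Ξ := quotient_surj c Ξ fun θ =>
    ⟨C (c ^ D θ.1) * X θ.1, by
      rw [map_mul, aeval_X, dif_pos θ.2, show (C (c ^ D θ.1) : PlRing K d n) = algebraMap K _ (c ^ D θ.1) from rfl,
        AlgHom.commutes, ← mul_assoc, ← map_mul, mul_inv_cancel₀ (pow_ne_zero _ hc), map_one, one_mul]⟩
  exact ⟨((Ideal.quotientEquivAlgOfEq K hker.symm).trans (Ideal.quotientKerAlgEquivOfSurjective hsurj)).symm⟩

/-! ### Two weights -/

/-- The position of a variable. -/
def pos (v : Vars d n) : ℕ := (Finset.univ.filter fun x => v < x).card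

theorem pos_lt {v x : Vars d n} (h : v < x) : pos x < pos v :=
  Finset.card_lt_card ((Finset.ssubset_iff_of_subset (fun y hy => by
    simp only [Finset.mem_filter, Finset.mem_univ, true_and] at hy ⊢; exact h.trans hy)).2 ⟨x, by simp [h], by simp⟩)

/-- Base-three value of an exponent. -/
def val3 (e : Vars d n →₀ ℕ) : ℕ := ∑ v, e v * 3 ^ pos v

theorem val3_add (e f : Vars d n →₀ ℕ) : val3 (e + f) = val3 e + val3 f := by
  simp [val3, add_mul, Finset.sum_add_distrib]

theorem val3_lt {e f : Vars d n →₀ ℕ} (he : ∀ v, e v ≤ 2) (h : e ≺[ord d n] f) : val3 e < val3 f := by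
  classical
  rw [MonomialOrder.lex_lt_iff, Finsupp.Lex.lt_iff] at h
  obtain ⟨i, hi, hlt⟩ := h
  change e i < f i at hlt
  have hsplit : ∀ g : Vars d n →₀ ℕ, val3 g =
      (∑ v ∈ Finset.univ.filter (· < i), g v * 3 ^ pos v) + g i * 3 ^ pos i +
        ∑ v ∈ Finset.univ.filter (i < ·), g v * 3 ^ pos v := fun g => by
    rw [val3, ← Finset.sum_filter_add_sum_filter_not Finset.univ (· < i), add_assoc]
    congr 1
    rw [← Finset.add_sum_erase _ _ (show i ∈ Finset.univ.filter fun v => ¬ v < i by simp)]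
    congr 1
    refine Finset.sum_congr ?_ fun _ _ => rfl
    ext v
    simp only [Finset.mem_erase, Finset.mem_filter, Finset.mem_univ, true_and, not_lt]
    exact ⟨fun h => lt_of_le_of_ne h.2 h.1.symm, fun h => ⟨h.ne', h.le⟩⟩
  have h1 : (∑ v ∈ Finset.univ.filter (· < i), e v * 3 ^ pos v) = ∑ v ∈ Finset.univ.filter (· < i), f v * 3 ^ pos v :=
    Finset.sum_congr rfl fun v hv => by
      have hv' : e v = f v := hi v (Finset.mem_filter.1 hv).2
      rw [hv']
  have h2 : (∑ v ∈ Finset.univ.filter (i < ·), e v * 3 ^ pos v) < 3 ^ pos i := by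
    have hp : Set.InjOn (pos : Vars d n → ℕ) (Finset.univ.filter (i < ·) : Finset (Vars d n)) := by
      intro x _ y _ hxy
      rcases lt_trichotomy x y with h | h | h
      · exact absurd hxy (pos_lt h).ne'
      · exact h
      · exact absurd hxy (pos_lt h).ne
    calc _ ≤ ∑ v ∈ Finset.univ.filter (i < ·), 2 * 3 ^ pos v := Finset.sum_le_sum fun v _ => Nat.mul_le_mul_right _ (he v)
      _ = ∑ k ∈ (Finset.univ.filter (i < ·)).image pos, 2 * 3 ^ k := (Finset.sum_image (f := fun k => 2 * 3 ^ k) hp).symm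
      _ ≤ ∑ k ∈ Finset.range (pos i), 2 * 3 ^ k := Finset.sum_le_sum_of_subset fun k hk => by
          obtain ⟨v, hv, rfl⟩ := Finset.mem_image.1 hk
          exact Finset.mem_range.2 (pos_lt (Finset.mem_filter.1 hv).2)
      _ < 3 ^ pos i := by
          have : ∀ N : ℕ, (∑ k ∈ Finset.range N, 2 * 3 ^ k) + 1 = 3 ^ N := fun N => by
            induction N with
            | zero => simp
            | succ N ih => rw [Finset.sum_range_succ, pow_succ]; omega
          have := this (pos i); omega
  rw [hsplit e, hsplit f, h1]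
  have h3 : e i * 3 ^ pos i + 3 ^ pos i ≤ f i * 3 ^ pos i := by
    rw [← Nat.succ_mul]; exact Nat.mul_le_mul_right _ hlt
  omega

/-- The weight of the Hibi degeneration. -/
noncomputable def Dh (θ : Idx d n) : ℕ := val3 (diagExp θ)

theorem diag_two (α β : Idx d n) (v : Vars d n) : (diagExp α + diagExp β) v ≤ 2 := by
  obtain ⟨⟨t, i⟩, rfl⟩ := toLex.surjective v
  simp only [Finsupp.add_apply, diagExp_apply]
  split_ifs <;> omega

theorem Dh_sup_inf (a b : Idx d n) :
    Dh (W4bk4grassmannian.sup a b) + Dh (W4bk4grassmannian.inf a b) = Dh a + Dh b := by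
  simp only [Dh, ← val3_add, diagExp_sup_add_inf]

theorem Dh_lt {α β a b : Idx d n} (h : diagExp α + diagExp β ≺[ord d n] diagExp a + diagExp b) :
    Dh α + Dh β < Dh a + Dh b := by
  simp only [Dh, ← val3_add]
  exact val3_lt (diag_two α β) h

theorem isWeight_hibi : IsWeight (Dh (d := d) (n := n)) true := fun a b _ _ =>
  ⟨by simpa using Dh_sup_inf a b, fun _ _ _ _ h => Dh_lt h⟩

/-- The weight of the Stanley–Reisner degeneration. -/
noncomputable def Dsr (θ : Idx d n) : ℕ := (4 * (d * n) ^ 2 + 1) * Dh θ + ((d * n) ^ 2 - S θ ^ 2)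

theorem isWeight_sr : IsWeight (Dsr (d := d) (n := n)) false := fun a b h₁ h₂ => by
  have hb : ∀ θ : Idx d n, S θ ^ 2 ≤ (d * n) ^ 2 := fun θ => Nat.pow_le_pow_left (S_le θ) 2
  refine ⟨?_, fun α β _ _ h => ?_⟩
  · simp only [Bool.false_eq_true, if_false, Dsr]
    have := Q_sup_inf_gt h₁ h₂
    have := hb a; have := hb b
    have := hb (W4bk4grassmannian.sup a b); have := hb (W4bk4grassmannian.inf a b)
    have e := Dh_sup_inf a b
    have e' : (4 * (d * n) ^ 2 + 1) * Dh (W4bk4grassmannian.sup a b) + (4 * (d * n) ^ 2 + 1) * Dh (W4bk4grassmannian.inf a b) =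
        (4 * (d * n) ^ 2 + 1) * Dh a + (4 * (d * n) ^ 2 + 1) * Dh b := by rw [← mul_add, e, mul_add]
    omega
  · have hlt := Dh_lt h
    have e' : (4 * (d * n) ^ 2 + 1) * Dh α + (4 * (d * n) ^ 2 + 1) * Dh β + (4 * (d * n) ^ 2 + 1) ≤
        (4 * (d * n) ^ 2 + 1) * Dh a + (4 * (d * n) ^ 2 + 1) * Dh b := by
      rw [← mul_add, ← mul_add, ← Nat.mul_succ]; exact Nat.mul_le_mul_left _ hlt
    simp only [Dsr]
    omega

theorem exists_degeneration [Infinite K] (hd : 0 < d) {ε : Bool} (hD : IsWeight D ε) :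
    ∃ (R : Type u) (_ : CommRing R) (_ : Algebra K R) (_ : Algebra (Polynomial K) R)
      (_ : IsScalarTower K (Polynomial K) R),
      Module.Free (Polynomial K) R ∧
      Nonempty ((R ⧸ Ideal.span {algebraMap (Polynomial K) R Polynomial.X}) ≃ₐ[K]
        (MvPolynomial (Below w) K ⧸ zeroIdeal (K := K) w ε)) ∧
      ∀ c : K, c ≠ 0 →
        Nonempty ((R ⧸ Ideal.span {algebraMap (Polynomial K) R (Polynomial.X - Polynomial.C c)}) ≃ₐ[K]
          (PlRing K d n ⧸ schubertVanishing K d n w)) :=
  ⟨Fam K D w, inferInstance, inferInstance, inferInstance, inferInstance,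
    Module.Free.of_basis (famBasis D w hd hD), zero_fibre D w hd hD, fun c hc => generic_fibre D w hd hD c hc⟩

end Groth.Agent.SMT
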